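/-
# Ranks over fields of characteristic two by kernel computation

For one of the seven tabulated data `D` and a list `L` of root indices, the rank of `∏_{r ∈ L} x_r(1) - 1` over ANY field
of characteristic two is computed in the kernel: the columns are bit masks (natural numbers), the span of a list of
masks is brought to echelon form by `elim`.

The kernel hashes a natural number literal by its low 64 bits only, so masks which differ only above bit 64 collide in its
caches (a slowdown by a factor 100).  Hence the coordinates occupy the bits from 64 on, the low 64 bits carry junk.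

* `finrank_S` : general elimination: the span of the vectors with masks `ms` has dimension `(elim ms []).length`;
* `rank_of_chk` : `chk D L k = true → ((L.map fun r => D.x F r 1).prod - 1).rank = k`.
-/
import Cfsg.Agent.ChevalleyStructure.Elts
import Cfsg.Agent.ChevalleyStructure.CompatOfT1

set_option autoImplicit false
set_option linter.unusedSectionVars false

namespace Cfsg.Agent.H82.Rank

open Cfsg.Lie Cfsg.Agent.ChevalleyStructure.Elts Cfsg.Agent.ChevalleyStructure.Columns

universe u

/-! ### computational part -/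

/-- Evaluate the natural number before passing it on. -/
def force {α : Sort*} (n : ℕ) (f : ℕ → α) : α := Nat.rec (f 0) (fun k _ => f (Nat.succ k)) n

theorem force_eq {α : Sort*} (n : ℕ) (f : ℕ → α) : force n f = f n := by
  cases n <;> rfl

/-- bit `p` of `m` -/
def tb (m p : ℕ) : Bool := Nat.beq (Nat.land (Nat.shiftRight m p) 1) 1

theorem tb_eq (m p : ℕ) : tb m p = Nat.testBit m p := by
  have h : Nat.land (Nat.shiftRight m p) 1 = (m >>> p) &&& 1 := rfl
  unfold tb Nat.testBit
  rw [h, Nat.and_comm 1, Nat.and_one_is_mod]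
  rcases Nat.mod_two_eq_zero_or_one (m >>> p) with h | h <;> rw [h] <;> rfl

/-- one reduction step -/
def step (b m : ℕ) : ℕ := cond (tb m (Nat.log2 b)) (Nat.xor m b) m

/-- reduce `m` by the basis `bs` (oldest vector is last) -/
def redR (bs : List ℕ) (m : ℕ) : ℕ := List.rec m (fun b _ ih => force ih (step b)) bs

theorem redR_nil (m : ℕ) : redR [] m = m := rfl

theorem redR_cons (b : ℕ) (bs : List ℕ) (m : ℕ) : redR (b :: bs) m = step b (redR bs m) := force_eq _ _

/-- echelon form of the list `ms` relative to the basis `bs` -/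
def elim (ms : List ℕ) : List ℕ → List ℕ :=
  List.rec (fun bs => bs) (fun m _ ih bs => force (redR bs m) fun m' =>
    cond (Nat.blt m' 18446744073709551616) (ih bs) (ih (m' :: bs))) ms

theorem elim_nil (bs : List ℕ) : elim [] bs = bs := rfl

theorem blt_iff {a b : ℕ} : Nat.blt a b = true ↔ a < b := by rw [Nat.blt_eq]

theorem elim_cons (m : ℕ) (ms bs : List ℕ) :
    elim (m :: ms) bs = if redR bs m < 18446744073709551616 then elim ms bs else elim ms (redR bs m :: bs) := by
  have h : elim (m :: ms) bs = force (redR bs m) fun m' =>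
    cond (Nat.blt m' 18446744073709551616) (elim ms bs) (elim ms (m' :: bs)) := rfl
  rw [h, force_eq]
  by_cases h0 : redR bs m < 18446744073709551616
  · rw [if_pos h0, blt_iff.2 h0]; rfl
  · rw [if_neg h0]
    have : Nat.blt (redR bs m) 18446744073709551616 = false := by
      rw [Bool.eq_false_iff]
      exact fun h => h0 (blt_iff.1 h)
    rw [this, cond_false]

/-- the echelon condition -/
def Ech : List ℕ → Prop
  | [] => True
  | b :: bs => b ≠ 0 ∧ (∀ b' ∈ bs, b.testBit (Nat.log2 b') = false) ∧ Ech bs

theorem step_testBit (b m i : ℕ) : (step b m).testBit i =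
    (if m.testBit (Nat.log2 b) then Bool.xor (m.testBit i) (b.testBit i) else m.testBit i) := by
  unfold step
  rw [tb_eq]
  cases h : m.testBit (Nat.log2 b)
  · simp
  · simp only [cond_true, if_true]
    exact Nat.testBit_xor m b i

theorem redR_bits : ∀ (bs : List ℕ) (_ : Ech bs) (m : ℕ), ∀ b ∈ bs, (redR bs m).testBit (Nat.log2 b) = false
  | [], _, _, b, hb => absurd hb List.not_mem_nil
  | c :: bs, h, m, b, hb => by
    rw [redR_cons, step_testBit]
    have ih := redR_bits bs h.2.2 m
    rcases List.mem_cons.1 hb with rfl | hb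
    · have h1 : b.testBit (Nat.log2 b) = true := Nat.testBit_log2 h.1
      rw [h1]
      cases hx : (redR bs m).testBit (Nat.log2 b) <;> simp
    · rw [ih b hb, h.2.1 b hb]
      simp

theorem ech_elim : ∀ (ms bs : List ℕ), Ech bs → Ech (elim ms bs)
  | [], _, h => h
  | m :: ms, bs, h => by
    rw [elim_cons]
    split_ifs with h0
    · exact ech_elim ms bs h
    · exact ech_elim ms _ ⟨fun e => h0 (by rw [e]; norm_num), redR_bits bs h m, h⟩

/-! ### vectors -/

section vec

variable {ι : Type*} (F : Type u) [Field F] (code : ι → ℕ)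

/-- the vector with bit mask `m` -/
def vec (m : ℕ) : ι → F := fun v => if m.testBit (code v) then 1 else 0

theorem vec_zero : vec F code 0 = 0 := by
  funext v
  simp [vec]

theorem vec_xor [CharP F 2] (a b : ℕ) : vec F code (Nat.xor a b) = vec F code a + vec F code b := by
  funext v
  have h : (Nat.xor a b).testBit (code v) = Bool.xor (a.testBit (code v)) (b.testBit (code v)) := Nat.testBit_xor a b _
  simp only [vec, Pi.add_apply, h]
  have h2 : (1 : F) + 1 = 0 := CharTwo.add_self_eq_zero 1
  cases a.testBit (code v) <;> cases b.testBit (code v) <;> simp [h2]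

/-- span of a list of masks -/
def S (l : List ℕ) : Submodule F (ι → F) := Submodule.span F {x | ∃ m ∈ l, x = vec F code m}

theorem S_nil : S F code [] = ⊥ := by
  unfold S
  rw [Submodule.span_eq_bot]
  rintro x ⟨m, hm, -⟩
  exact absurd hm List.not_mem_nil

theorem S_cons (m : ℕ) (l : List ℕ) : S F code (m :: l) = Submodule.span F {vec F code m} ⊔ S F code l := by
  unfold S
  rw [← Submodule.span_union]
  congr 1
  ext x
  simp only [List.mem_cons, Set.mem_ofPred_eq, Set.singleton_union, Set.mem_insert_iff]
  constructor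
  · rintro ⟨n, rfl | hn, rfl⟩
    · exact Or.inl rfl
    · exact Or.inr ⟨n, hn, rfl⟩
  · rintro (rfl | ⟨n, hn, rfl⟩)
    · exact ⟨m, Or.inl rfl, rfl⟩
    · exact ⟨n, Or.inr hn, rfl⟩

theorem mem_S {m : ℕ} {l : List ℕ} (h : m ∈ l) : vec F code m ∈ S F code l := Submodule.subset_span ⟨m, h, rfl⟩

variable [CharP F 2]

theorem redR_sub (bs : List ℕ) (m : ℕ) : vec F code (redR bs m) + vec F code m ∈ S F code bs := by
  induction bs with
  | nil =>
    rw [redR_nil]
    have : vec F code m + vec F code m = 0 := by
      funext v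
      exact CharTwo.add_self_eq_zero _
    rw [this]
    exact zero_mem _
  | cons b bs ih =>
    rw [redR_cons]
    unfold step
    have hle : S F code bs ≤ S F code (b :: bs) := by rw [S_cons]; exact le_sup_right
    cases tb (redR bs m) (Nat.log2 b)
    · exact hle ih
    · rw [cond_true, vec_xor, add_right_comm]
      exact add_mem (hle ih) (mem_S F code List.mem_cons_self)

theorem mem_iff_of_add_mem {M : Submodule F (ι → F)} {x y : ι → F} (h : x + y ∈ M) : x ∈ M ↔ y ∈ M := by
  constructor
  · intro hx
    have := sub_mem h hx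
    rwa [add_sub_cancel_left] at this
  · intro hy
    have := sub_mem h hy
    rwa [add_sub_cancel_right] at this

theorem span_sup_redR (bs : List ℕ) (m : ℕ) :
    Submodule.span F {vec F code (redR bs m)} ⊔ S F code bs = Submodule.span F {vec F code m} ⊔ S F code bs := by
  have h := redR_sub F code bs m
  apply le_antisymm
  · refine sup_le ?_ le_sup_right
    rw [Submodule.span_singleton_le_iff_mem]
    refine (mem_iff_of_add_mem F (y := vec F code m) ((le_sup_right : S F code bs ≤ _) h)).2 ?_
    exact (le_sup_left : Submodule.span F {vec F code m} ≤ _) (Submodule.mem_span_singleton_self _)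
  · refine sup_le ?_ le_sup_right
    rw [Submodule.span_singleton_le_iff_mem]
    refine (mem_iff_of_add_mem F (y := vec F code m) ((le_sup_right : S F code bs ≤ _) h)).1 ?_
    exact (le_sup_left : Submodule.span F {vec F code (redR bs m)} ≤ _) (Submodule.mem_span_singleton_self _)

theorem vec_eq_zero (hcode : ∀ v, 64 ≤ code v) {m : ℕ} (hm : m < 18446744073709551616) : vec F code m = 0 := by
  funext v
  unfold vec
  have : m.testBit (code v) = false := Nat.testBit_lt_two_pow (lt_of_lt_of_le hm
    (by
      have := Nat.pow_le_pow_right (n := 2) (by norm_num) (hcode v)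
      norm_num at this ⊢
      exact this))
  rw [this]
  simp

theorem S_elim (hcode : ∀ v, 64 ≤ code v) : ∀ (ms bs : List ℕ), S F code (elim ms bs) = S F code ms ⊔ S F code bs
  | [], bs => by rw [elim_nil, S_nil, bot_sup_eq]
  | m :: ms, bs => by
    have hs := span_sup_redR F code bs m
    rw [elim_cons]
    split_ifs with h0
    · rw [vec_eq_zero F code hcode h0, Submodule.span_zero_singleton, bot_sup_eq] at hs
      rw [S_elim hcode ms bs, S_cons F code m ms, hs, sup_comm (Submodule.span F {vec F code m}) (S F code ms), sup_assoc,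
        ← sup_assoc (Submodule.span F {vec F code m}) (Submodule.span F {vec F code m}), sup_idem]
    · rw [S_elim hcode ms _, S_cons F code (redR bs m) bs, S_cons F code m ms, hs,
        sup_comm (Submodule.span F {vec F code m}) (S F code ms), sup_assoc]

/-- an element of the span vanishing at all the leading positions is zero -/
theorem eq_zero_of_vanish : ∀ (bs : List ℕ) (_ : Ech bs) (_ : ∀ b ∈ bs, ∃ v, code v = Nat.log2 b) (x : ι → F),
    x ∈ S F code bs → (∀ b ∈ bs, ∀ v, code v = Nat.log2 b → x v = 0) → x = 0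
  | [], _, _, x, hx, _ => by rw [S_nil, Submodule.mem_bot] at hx; exact hx
  | b :: bs, he, hc, x, hx, h0 => by
    rw [S_cons, Submodule.mem_sup] at hx
    obtain ⟨y, hy, z, hz, rfl⟩ := hx
    obtain ⟨c, rfl⟩ := Submodule.mem_span_singleton.1 hy
    have hz0 : z = 0 := by
      refine eq_zero_of_vanish bs he.2.2 (fun b' hb' => hc b' (List.mem_cons_of_mem _ hb')) z hz ?_
      intro b' hb' v hv
      have h1 := h0 b' (List.mem_cons_of_mem _ hb') v hv
      have h2 : vec F code b v = 0 := by
        unfold vec
        rw [hv, he.2.1 b' hb']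
        simp
      rw [Pi.add_apply, Pi.smul_apply, h2, smul_zero, zero_add] at h1
      exact h1
    obtain ⟨v, hv⟩ := hc b List.mem_cons_self
    have h1 := h0 b List.mem_cons_self v hv
    have h2 : vec F code b v = 1 := by
      unfold vec
      rw [hv, Nat.testBit_log2 he.1]
      simp
    rw [hz0, add_zero, Pi.smul_apply, h2, smul_eq_mul, mul_one] at h1
    rw [hz0, h1, zero_smul, add_zero]

theorem finrank_Ech [Finite ι] : ∀ (bs : List ℕ) (_ : Ech bs) (_ : ∀ b ∈ bs, ∃ v, code v = Nat.log2 b),
    Module.finrank F (S F code bs) = bs.length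
  | [], _, _ => by rw [S_nil]; simp
  | b :: bs, he, hc => by
    have hc' : ∀ b' ∈ bs, ∃ v, code v = Nat.log2 b' := fun b' hb' => hc b' (List.mem_cons_of_mem _ hb')
    have ih := finrank_Ech bs he.2.2 hc'
    have h1 := Submodule.finrank_sup_add_finrank_inf_eq (Submodule.span F {vec F code b}) (S F code bs)
    have hb0 : vec F code b ≠ 0 := by
      obtain ⟨v, hv⟩ := hc b List.mem_cons_self
      intro h0
      have h2 : vec F code b v = 1 := by
        unfold vec
        rw [hv, Nat.testBit_log2 he.1]
        simp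
      rw [h0, Pi.zero_apply] at h2
      exact zero_ne_one h2
    have hinf : Submodule.span F {vec F code b} ⊓ S F code bs = ⊥ := by
      rw [eq_bot_iff]
      rintro x ⟨hx1, hx2⟩
      obtain ⟨c, rfl⟩ := Submodule.mem_span_singleton.1 hx1
      rw [Submodule.mem_bot]
      refine eq_zero_of_vanish F code bs he.2.2 hc' _ hx2 ?_
      intro b' hb' v hv
      have h2 : vec F code b v = 0 := by
        unfold vec
        rw [hv, he.2.1 b' hb']
        simp
      rw [Pi.smul_apply, h2, smul_zero]
    rw [hinf, finrank_bot, add_zero, ih, finrank_span_singleton hb0] at h1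
    rw [S_cons, h1, List.length_cons, add_comm]

/-- **General elimination**: the dimension of the span of the vectors with masks `ms`. -/
theorem finrank_S [Finite ι] (hcode : ∀ v, 64 ≤ code v) (ms : List ℕ) (hc : ∀ b ∈ elim ms [], ∃ v, code v = Nat.log2 b) :
    Module.finrank F (S F code ms) = (elim ms []).length := by
  have h := S_elim F code hcode ms []
  rw [S_nil, sup_bot_eq] at h
  rw [← h]
  exact finrank_Ech F code _ (ech_elim ms [] trivial) hc

end vec

/-! ### the matrices `x_r(1)` -/

/-- parity of an integer -/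
def oddb (z : ℤ) : Bool := Nat.beq (Nat.mod z.natAbs 2) 1

theorem cast_eq {F : Type u} [Field F] [CharP F 2] (z : ℤ) : (z : F) = if oddb z then 1 else 0 := by
  by_cases h : z.natAbs % 2 = 1
  · have h1 : oddb z = true := by
      show Nat.beq (z.natAbs % 2) 1 = true
      rw [h]; rfl
    have h2 : (((z - 1 : ℤ)) : F) = 0 := (CharP.intCast_eq_zero_iff F 2 (z - 1)).2 (by omega)
    rw [Int.cast_sub, Int.cast_one] at h2
    rw [h1, if_pos rfl]
    exact sub_eq_zero.1 h2
  · have h0 : z.natAbs % 2 = 0 := by omega
    have h1 : oddb z = false := by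
      show Nat.beq (z.natAbs % 2) 1 = false
      rw [h0]; rfl
    rw [h1]
    simp only [Bool.false_eq_true, if_false]
    exact (CharP.intCast_eq_zero_iff F 2 z).2 (by omega)

/-- index of a basis vector -/
def code (D : ChevalleyDatum) : D.Idx → ℕ
  | Sum.inl i => 64 + i.val
  | Sum.inr s => 64 + D.rank + s.val

theorem le_code (D : ChevalleyDatum) (v : D.Idx) : 64 ≤ code D v := by
  rcases v with i | s <;> simp only [code] <;> omega

theorem code_lt (D : ChevalleyDatum) (v : D.Idx) : code D v < 64 + D.rank + D.nroots := by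
  rcases v with i | s
  · have := i.isLt
    simp only [code]; omega
  · exact Nat.add_lt_add_left s.isLt _

theorem code_inj (D : ChevalleyDatum) {v w : D.Idx} (h : code D v = code D w) : v = w := by
  rcases v with i | s <;> rcases w with j | t <;> simp only [code] at h
  · exact congrArg _ (Fin.ext (by omega))
  · exact absurd i.isLt (by omega)
  · exact absurd j.isLt (by omega)
  · exact congrArg _ (Fin.ext (by omega))

theorem exists_code (D : ChevalleyDatum) {p : ℕ} (h0 : 64 ≤ p) (h : p < 64 + D.rank + D.nroots) :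
    ∃ v : D.Idx, code D v = p := by
  by_cases hp : p < 64 + D.rank
  · exact ⟨Sum.inl ⟨p - 64, by omega⟩, by simp only [code]; omega⟩
  · exact ⟨Sum.inr ⟨p - (64 + D.rank), by omega⟩, by simp only [code]; omega⟩

/-- mask of a chain -/
def chm (l : ℕ) (es : List (ℕ × ℤ)) : ℕ :=
  List.rec 0 (fun e _ ih => Nat.xor (cond (oddb e.2) (Nat.pow 2 (Nat.add l e.1)) 0) ih) es

theorem chm_nil (l : ℕ) : chm l [] = 0 := rfl

theorem chm_cons (l : ℕ) (e : ℕ × ℤ) (es : List (ℕ × ℤ)) :
    chm l (e :: es) = Nat.xor (cond (oddb e.2) (Nat.pow 2 (Nat.add l e.1)) 0) (chm l es) := rfl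

/-- mask of the coroot `h_r`, first `n` coefficients -/
def hm (D : ChevalleyDatum) (r : ℕ) (n : ℕ) : ℕ :=
  Nat.rec 0 (fun k ih => Nat.xor (cond (oddb (cor D r k)) (Nat.pow 2 (Nat.add 64 k)) 0) ih) n

theorem hm_succ (D : ChevalleyDatum) (r n : ℕ) :
    hm D r (n + 1) = Nat.xor (cond (oddb (cor D r n)) (Nat.pow 2 (Nat.add 64 n)) 0) (hm D r n) := rfl

/-- kernel-fast lookup -/
def lookR (l : List (ℕ × Array (ℕ × ℤ))) (s : ℕ) : List (ℕ × ℤ) :=
  force s fun s' => List.rec [] (fun e _ ih => cond (Nat.beq e.1 s') e.2.toList ih) l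

theorem lookR_eq (l : List (ℕ × Array (ℕ × ℤ))) (s : ℕ) : lookR l s = look l s := by
  unfold lookR
  rw [force_eq]
  induction l with
  | nil => rfl
  | cons e l ih =>
    show cond (Nat.beq e.1 s) e.2.toList _ = bif Nat.beq e.1 s then e.2.toList else look l s
    rw [ih]

/-- junk, depending on `j`, in the low 64 bits -/
def jk (j : ℕ) : ℕ := Nat.mod (Nat.mul j 11400714819323198485) 18446744073709551616

theorem jk_lt (j : ℕ) : jk j < 18446744073709551616 := Nat.mod_lt _ (by norm_num)

/-- the mask of the column with index `j` of `x_r(1)` (`64` is already subtracted from `j`) -/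
def colm0 (D : ChevalleyDatum) (r j : ℕ) : ℕ :=
  cond (Nat.blt j D.rank) (Nat.xor (Nat.pow 2 (Nat.add 64 j))
      (cond (oddb (car D j r)) (Nat.pow 2 (Nat.add (Nat.add 64 D.rank) r)) 0))
    (cond (Nat.beq (Nat.sub j D.rank) r) (Nat.pow 2 (Nat.add 64 j))
      (cond (Nat.beq (Nat.sub j D.rank) (D.negIdx.getD r 0))
        (Nat.xor (Nat.xor (Nat.pow 2 (Nat.add 64 j)) (hm D r D.rank)) (Nat.pow 2 (Nat.add (Nat.add 64 D.rank) r)))
        (Nat.xor (Nat.pow 2 (Nat.add 64 j)) (chm (Nat.add 64 D.rank) (lookR (row D r) (Nat.sub j D.rank))))))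

/-- the mask of the column with code `p` of `x_r(1)`, with junk -/
def colm (D : ChevalleyDatum) (r p : ℕ) : ℕ := Nat.xor (force (Nat.sub p 64) (colm0 D r)) (jk p)

section entries

variable {F : Type u} [Field F] [CharP F 2] {D : ChevalleyDatum}

theorem vec_pow (D : ChevalleyDatum) (p : ℕ) (v : D.Idx) :
    vec F (code D) (Nat.pow 2 p) v = if code D v = p then 1 else 0 := by
  unfold vec
  have : (Nat.pow 2 p).testBit (code D v) = decide (p = code D v) := Nat.testBit_two_pow
  rw [this]
  by_cases h : p = code D v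
  · simp [h]
  · have h' : ¬ code D v = p := fun e => h e.symm
    simp [h, h']

theorem vec_cond (D : ChevalleyDatum) (b : Bool) (p : ℕ) (v : D.Idx) :
    vec F (code D) (cond b (Nat.pow 2 p) 0) v = (if b then 1 else 0) * (if code D v = p then 1 else 0) := by
  cases b
  · simp [vec_zero]
  · rw [cond_true, vec_pow]
    simp

theorem dl_eq (D : ChevalleyDatum) (v : D.Idx) (u : ℕ) :
    dl F D v u = if code D v = Nat.add (Nat.add 64 D.rank) u then 1 else 0 := by
  rcases v with i | s
  · rw [dl_inl]
    have : ¬ (code D (Sum.inl i) = Nat.add (Nat.add 64 D.rank) u) := by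
      have := i.isLt
      show ¬ (64 + i.val = 64 + D.rank + u)
      omega
    rw [if_neg this]
  · rw [dl_inr]
    have : (code D (Sum.inr s) = Nat.add (Nat.add 64 D.rank) u) ↔ s.val = u := by
      show 64 + D.rank + s.val = 64 + D.rank + u ↔ _
      omega
    simp only [this]

theorem vec_chm (D : ChevalleyDatum) (v : D.Idx) : ∀ (k : ℕ) (es : List (ℕ × ℤ)),
    vec F (code D) (chm (Nat.add 64 D.rank) es) v = chSum (dl F D v) (1 : F) k es
  | _, [] => by rw [chm_nil, vec_zero, chSum_nil]; rfl
  | k, e :: es => by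
    rw [chm_cons, vec_xor, chSum_cons, Pi.add_apply, vec_chm D v (k + 1) es, vec_cond, one_pow, mul_one, cast_eq, dl_eq]

theorem vec_hm (D : ChevalleyDatum) (r : ℕ) (v : D.Idx) : ∀ n : ℕ,
    vec F (code D) (hm D r n) v =
      ∑ i ∈ Finset.range n, ((cor D r i : ℤ) : F) * (if code D v = Nat.add 64 i then 1 else 0)
  | 0 => by
    rw [Finset.range_zero, Finset.sum_empty]
    exact congrFun (vec_zero F (code D)) v
  | n + 1 => by
    rw [hm_succ, vec_xor, Pi.add_apply, vec_hm D r v n, vec_cond, Finset.sum_range_succ, cast_eq (cor D r n), add_comm]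

theorem neg_eq_self (a : F) : -a = a := CharTwo.neg_eq a

theorem sub_eq_add' (a b : F) : a - b = a + b := CharTwo.sub_eq_add a b

theorem col_eq (hD : InList D) {r : ℕ} (hr : r < D.nroots) (v j : D.Idx) :
    D.x F r 1 v j = vec F (code D) (colm D r (code D j)) v := by
  have hG := Cfsg.Agent.ChevalleyStructure.Good.goodAt_of_mem D hD r hr
  rw [colm, force_eq, vec_xor, vec_eq_zero F (code D) (le_code D) (jk_lt _), add_zero]
  rw [x_of_lt hr]
  rcases j with i | s
  · have h0 : Nat.sub (code D (Sum.inl i)) 64 = i.val := by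
      show 64 + i.val - 64 = i.val
      omega
    have h1 : Nat.blt i.val D.rank = true := by
      rw [Nat.blt_eq]
      exact i.isLt
    rw [h0, xMat_inl, mul_one, colm0, h1, cond_true, vec_xor, Pi.add_apply, vec_pow, vec_cond, sub_eq_add', cast_eq,
      dl_eq]
    congr 1
    by_cases h : v = Sum.inl i
    · rw [if_pos h, if_pos (by rw [h]; rfl)]
    · rw [if_neg h, if_neg (c := code D v = Nat.add 64 i) fun e => h (code_inj D (w := Sum.inl i) e)]
  · have h0 : Nat.sub (code D (Sum.inr s)) 64 = D.rank + s.val := by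
      show 64 + D.rank + s.val - 64 = D.rank + s.val
      omega
    have h1 : Nat.blt (D.rank + s.val) D.rank = false := by
      rw [Bool.eq_false_iff]
      intro h
      rw [Nat.blt_eq] at h
      omega
    have h2 : Nat.sub (D.rank + s.val) D.rank = s.val := by
      show D.rank + s.val - D.rank = s.val
      omega
    have h3 : Nat.add 64 (D.rank + s.val) = code D (Sum.inr s) := by
      show 64 + (D.rank + s.val) = 64 + D.rank + s.val
      omega
    rw [h0, colm0, h1, cond_false, h2, h3]
    by_cases hsr : s.val = r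
    · have e : s = ⟨r, hr⟩ := Fin.ext hsr
      have hb : Nat.beq s.val r = true := by rw [hsr]; exact Nat.beq_refl r
      rw [hb, cond_true, vec_pow, e, xMat_self, dl_eq]
      rfl
    · have hb : Nat.beq s.val r = false := by
        rw [Bool.eq_false_iff]
        exact fun h => hsr (Nat.eq_of_beq_eq_true h)
      have hsr' : s ≠ ⟨r, hr⟩ := fun e => hsr (congrArg Fin.val e)
      rw [hb, cond_false]
      by_cases hn : s.val = D.negIdx.getD r 0
      · have hb' : Nat.beq s.val (D.negIdx.getD r 0) = true := by rw [hn]; exact Nat.beq_refl _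
        rw [hb', cond_true, vec_xor, vec_xor, Pi.add_apply, Pi.add_apply, vec_pow, vec_pow,
          xMat_neg D ⟨r, hr⟩ 1 v s hn hsr', sub_eq_add', one_pow, one_mul, dl_eq, dl_eq, vec_hm, Finset.sum_range]
        congr 2
        refine Finset.sum_congr rfl fun i _ => ?_
        rw [mul_one]
        congr 1
        by_cases h : v = Sum.inl i
        · rw [if_pos h, if_pos (by rw [h]; rfl)]
        · rw [if_neg h, if_neg (c := code D v = Nat.add 64 (i : ℕ)) fun e => h (code_inj D (w := Sum.inl i) e)]
      · have hb' : Nat.beq s.val (D.negIdx.getD r 0) = false := by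
          rw [Bool.eq_false_iff]
          exact fun h => hn (Nat.eq_of_beq_eq_true h)
        rw [hb', cond_false, vec_xor, Pi.add_apply, vec_pow, xMat_ne D ⟨r, hr⟩ 1 v s hn hsr' hG.sorted, dl_eq,
          lookR_eq, vec_chm D v 1, chainEntry_eq_look]
        rfl

end entries

/-- `x_r(1)` applied to the vector with mask `m < 2 ^ (64 + n)` -/
def actF (D : ChevalleyDatum) (r n : ℕ) : ℕ → ℕ :=
  Nat.rec (fun _ => 0) (fun _ ih m => cond (Nat.blt m 18446744073709551616) 0
    (force (Nat.log2 m) fun p => force (Nat.xor m (Nat.pow 2 p)) fun m' => Nat.xor (colm D r p) (ih m'))) n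

theorem actF_zero (D : ChevalleyDatum) (r m : ℕ) : actF D r 0 m = 0 := rfl

theorem actF_succ (D : ChevalleyDatum) (r n m : ℕ) : actF D r (n + 1) m =
    cond (Nat.blt m 18446744073709551616) 0
      (Nat.xor (colm D r (Nat.log2 m)) (actF D r n (Nat.xor m (Nat.pow 2 (Nat.log2 m))))) := by
  have h : actF D r (n + 1) m = cond (Nat.blt m 18446744073709551616) 0
    (force (Nat.log2 m) fun p => force (Nat.xor m (Nat.pow 2 p)) fun m' => Nat.xor (colm D r p) (actF D r n m')) := rfl
  rw [h, force_eq, force_eq]

/-- `x_r(1)` applied to a vector, with the result reduced modulo `2 ^ (64 + rank + nroots)` -/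
def act (D : ChevalleyDatum) (r m : ℕ) : ℕ :=
  Nat.mod (actF D r (Nat.add D.rank D.nroots) m) (Nat.pow 2 (Nat.add (Nat.add 64 D.rank) D.nroots))

/-- the product of the `x_r(1)`, `r ∈ L`, applied to a vector -/
def actL (D : ChevalleyDatum) (L : List ℕ) (m : ℕ) : ℕ := List.rec m (fun r _ ih => force ih (act D r)) L

theorem actL_nil (D : ChevalleyDatum) (m : ℕ) : actL D [] m = m := rfl

theorem actL_cons (D : ChevalleyDatum) (r : ℕ) (L : List ℕ) (m : ℕ) : actL D (r :: L) m = act D r (actL D L m) :=
  force_eq _ _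

theorem xor_pow_log2_lt {m : ℕ} (hm : m ≠ 0) : Nat.xor m (Nat.pow 2 (Nat.log2 m)) < 2 ^ Nat.log2 m := by
  apply Nat.lt_of_testBit (Nat.log2 m)
  · have h : (Nat.xor m (Nat.pow 2 (Nat.log2 m))).testBit (Nat.log2 m) =
        Bool.xor (m.testBit (Nat.log2 m)) ((2 ^ Nat.log2 m).testBit (Nat.log2 m)) := Nat.testBit_xor m _ _
    rw [h, Nat.testBit_log2 hm, Nat.testBit_two_pow]
    simp
  · rw [Nat.testBit_two_pow]
    simp
  · intro j hj
    have h : (Nat.xor m (Nat.pow 2 (Nat.log2 m))).testBit j =
        Bool.xor (m.testBit j) ((2 ^ Nat.log2 m).testBit j) := Nat.testBit_xor m _ _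
    have h1 : m.testBit j = false := Nat.testBit_lt_two_pow (lt_of_lt_of_le Nat.lt_log2_self (Nat.pow_le_pow_right (by norm_num) hj))
    rw [h, h1, Nat.testBit_two_pow]
    simp

section act

variable {F : Type u} [Field F] [CharP F 2] {D : ChevalleyDatum}

theorem two_pow_64 : (18446744073709551616 : ℕ) = 2 ^ 64 := by norm_num

theorem mulVec_vec (hD : InList D) {r : ℕ} (hr : r < D.nroots) : ∀ (n : ℕ) (_ : n ≤ D.rank + D.nroots) (m : ℕ)
    (_ : m < 2 ^ (64 + n)), (D.x F r 1).mulVec (vec F (code D) m) = vec F (code D) (actF D r n m)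
  | 0, _, m, hm => by
    rw [vec_eq_zero F (code D) (le_code D) (m := m) (by rw [two_pow_64]; exact hm), Matrix.mulVec_zero, actF_zero,
      vec_zero]
  | n + 1, hn, m, hm => by
    rw [actF_succ]
    by_cases h0 : m < 18446744073709551616
    · rw [vec_eq_zero F (code D) (le_code D) h0, Matrix.mulVec_zero, blt_iff.2 h0, cond_true, vec_zero]
    · have hb : Nat.blt m 18446744073709551616 = false := by
        rw [Bool.eq_false_iff]
        exact fun h => h0 (blt_iff.1 h)
      have hm0 : m ≠ 0 := fun e => h0 (by rw [e]; norm_num)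
      rw [hb, cond_false, vec_xor]
      have hp : Nat.log2 m < 64 + n + 1 := (Nat.log2_lt hm0).2 hm
      have hp' : 64 ≤ Nat.log2 m := by
        by_contra hcon
        exact h0 (by rw [two_pow_64]; exact (Nat.log2_lt hm0).1 (not_le.1 hcon))
      obtain ⟨j, hj⟩ := exists_code D (p := Nat.log2 m) hp' (by omega)
      have h1 := mulVec_vec hD hr n (Nat.le_of_succ_le hn) (Nat.xor m (Nat.pow 2 (Nat.log2 m)))
        (lt_of_lt_of_le (xor_pow_log2_lt hm0) (Nat.pow_le_pow_right (by norm_num) (by omega)))
      rw [← h1]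
      have h2 : vec F (code D) m = vec F (code D) (Nat.pow 2 (Nat.log2 m)) +
          vec F (code D) (Nat.xor m (Nat.pow 2 (Nat.log2 m))) := by
        rw [vec_xor, add_comm (vec F (code D) m), ← add_assoc]
        have : vec F (code D) (Nat.pow 2 (Nat.log2 m)) + vec F (code D) (Nat.pow 2 (Nat.log2 m)) = 0 := by
          funext v
          exact CharTwo.add_self_eq_zero _
        rw [this, zero_add]
      have h3 : vec F (code D) (Nat.pow 2 (Nat.log2 m)) = Pi.single j (1 : F) := by
        funext v
        rw [vec_pow, Pi.single_apply, ← hj]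
        by_cases h : v = j
        · rw [if_pos h, if_pos (by rw [h])]
        · rw [if_neg h, if_neg fun e => h (code_inj D e)]
      have h4 : (D.x F r 1).mulVec (Pi.single j (1 : F)) = vec F (code D) (colm D r (Nat.log2 m)) := by
        rw [Matrix.mulVec_single_one]
        funext v
        rw [← hj]
        exact col_eq hD hr v j
      rw [h2, Matrix.mulVec_add, h3, h4]

theorem vec_mod (m : ℕ) :
    vec F (code D) (Nat.mod m (Nat.pow 2 (Nat.add (Nat.add 64 D.rank) D.nroots))) = vec F (code D) m := by
  funext v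
  unfold vec
  have h : (Nat.mod m (Nat.pow 2 (Nat.add (Nat.add 64 D.rank) D.nroots))).testBit (code D v) =
      (decide (code D v < 64 + D.rank + D.nroots) && m.testBit (code D v)) := Nat.testBit_mod_two_pow m _ _
  rw [h, decide_eq_true (code_lt D v), Bool.true_and]

theorem act_lt (D : ChevalleyDatum) (r m : ℕ) : act D r m < 2 ^ (64 + D.rank + D.nroots) :=
  Nat.mod_lt _ (Nat.pow_pos (by norm_num))

theorem actL_lt (D : ChevalleyDatum) : ∀ (L : List ℕ) (m : ℕ), m < 2 ^ (64 + D.rank + D.nroots) →
    actL D L m < 2 ^ (64 + D.rank + D.nroots)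
  | [], _, h => h
  | r :: L, m, _ => by rw [actL_cons]; exact act_lt D r _

theorem prod_mulVec (hD : InList D) : ∀ (L : List ℕ) (_ : ∀ r ∈ L, r < D.nroots) (m : ℕ)
    (_ : m < 2 ^ (64 + D.rank + D.nroots)), ((L.map fun r => D.x F r (1 : F)).prod).mulVec (vec F (code D) m) =
      vec F (code D) (actL D L m)
  | [], _, m, _ => by rw [List.map_nil, List.prod_nil, Matrix.one_mulVec, actL_nil]
  | r :: L, hL, m, hm => by
    rw [List.map_cons, List.prod_cons, ← Matrix.mulVec_mulVec,
      prod_mulVec hD L (fun s hs => hL s (List.mem_cons_of_mem _ hs)) m hm, actL_cons,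
      mulVec_vec hD (hL r List.mem_cons_self) (D.rank + D.nroots) le_rfl _
        (by rw [← Nat.add_assoc]; exact actL_lt D L m hm)]
    exact (vec_mod _).symm

/-- the mask of the basis vector with index `k`, with junk -/
def ek (k : ℕ) : ℕ := Nat.xor (Nat.pow 2 (Nat.add 64 k)) (jk k)

theorem ek_lt {k n : ℕ} (hk : k < n) : ek k < 2 ^ (64 + n) := by
  refine Nat.xor_lt_two_pow (x := 2 ^ (64 + k)) (Nat.pow_lt_pow_right (by norm_num) (by omega)) ?_
  refine lt_of_lt_of_le (jk_lt k) ?_
  rw [two_pow_64]
  exact Nat.pow_le_pow_right (by norm_num) (by omega)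

theorem vec_ek {k : ℕ} {j : D.Idx} (h : code D j = 64 + k) : vec F (code D) (ek k) = Pi.single j (1 : F) := by
  rw [ek, vec_xor, vec_eq_zero F (code D) (le_code D) (jk_lt _), add_zero]
  funext v
  rw [vec_pow, Pi.single_apply]
  by_cases h' : v = j
  · rw [if_pos h', if_pos (by rw [h', h]; rfl)]
  · rw [if_neg h', if_neg fun e => h' (code_inj D (e.trans h.symm))]

/-- the masks of the columns of `∏ x_r(1) - 1`, first `n` columns -/
def masks (D : ChevalleyDatum) (L : List ℕ) (n : ℕ) : List ℕ :=
  Nat.rec [] (fun k ih => Nat.xor (actL D L (ek k)) (ek k) :: ih) n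

theorem mem_masks (D : ChevalleyDatum) (L : List ℕ) : ∀ (n m : ℕ),
    m ∈ masks D L n ↔ ∃ k < n, m = Nat.xor (actL D L (ek k)) (ek k)
  | 0, m => by
    constructor
    · intro h; exact absurd h List.not_mem_nil
    · rintro ⟨k, hk, -⟩; exact absurd hk (Nat.not_lt_zero _)
  | n + 1, m => by
    show m ∈ Nat.xor (actL D L (ek n)) (ek n) :: masks D L n ↔ _
    rw [List.mem_cons, mem_masks D L n m]
    constructor
    · rintro (rfl | ⟨k, hk, rfl⟩)
      · exact ⟨n, Nat.lt_succ_self n, rfl⟩
      · exact ⟨k, Nat.lt_succ_of_lt hk, rfl⟩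
    · rintro ⟨k, hk, rfl⟩
      rcases Nat.lt_succ_iff_lt_or_eq.1 hk with h | rfl
      · exact Or.inr ⟨k, h, rfl⟩
      · exact Or.inl rfl

/-- The kernel check: the product of the `x_r(1)`, `r ∈ L`, minus one has rank `k`. -/
def chk (D : ChevalleyDatum) (L : List ℕ) (k : ℕ) : Bool :=
  (L.all fun r => Nat.blt r D.nroots) &&
    ((fun B : List ℕ => Nat.beq B.length k &&
        B.all fun b => Nat.ble 64 (Nat.log2 b) && Nat.blt (Nat.log2 b) (Nat.add (Nat.add 64 D.rank) D.nroots))
      (elim (masks D L (Nat.add D.rank D.nroots)) []))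

theorem rank_of_chk (hD : InList D) {L : List ℕ} {k : ℕ} (h : chk D L k = true) :
    ((L.map fun r => D.x F r (1 : F)).prod - 1).rank = k := by
  simp only [chk, Bool.and_eq_true, List.all_eq_true] at h
  obtain ⟨hL, hk, hB⟩ := h
  have hL' : ∀ r ∈ L, r < D.nroots := fun r hr => blt_iff.1 (hL r hr)
  have hB' : ∀ b ∈ elim (masks D L (D.rank + D.nroots)) [], ∃ v, code D v = Nat.log2 b := fun b hb =>
    exists_code D (Nat.le_of_ble_eq_true (hB b hb).1) (blt_iff.1 (hB b hb).2)
  rw [← Nat.eq_of_beq_eq_true hk, Matrix.rank_eq_finrank_span_cols]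
  have h1 := finrank_S F (code D) (le_code D) (masks D L (D.rank + D.nroots)) hB'
  rw [show Nat.add D.rank D.nroots = D.rank + D.nroots from rfl, ← h1]
  have h2 : Submodule.span F (Set.range ((L.map fun r => D.x F r (1 : F)).prod - 1).col) =
      S F (code D) (masks D L (D.rank + D.nroots)) := by
    unfold S
    congr 1
    ext x
    have key : ∀ (j : D.Idx) (k : ℕ), code D j = 64 + k → ((L.map fun r => D.x F r (1 : F)).prod - 1).col j =
        vec F (code D) (Nat.xor (actL D L (ek k)) (ek k)) := by
      intro j k hjk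
      have hk : k < D.rank + D.nroots := by
        have := code_lt D j
        omega
      rw [vec_xor, ← prod_mulVec (F := F) hD L hL' (ek k) (by rw [Nat.add_assoc]; exact ek_lt hk), vec_ek hjk,
        Matrix.mulVec_single_one]
      funext v
      show ((L.map fun r => D.x F r (1 : F)).prod - 1) v j = _
      rw [Matrix.sub_apply, sub_eq_add', Pi.add_apply, Pi.single_apply, Matrix.one_apply]
      rfl
    constructor
    · rintro ⟨j, rfl⟩
      have h3 := le_code D j
      have h4 := code_lt D j
      exact ⟨_, (mem_masks D L _ _).2 ⟨code D j - 64, by omega, rfl⟩, key j _ (by omega)⟩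
    · rintro ⟨m, hm, rfl⟩
      obtain ⟨k, hk, rfl⟩ := (mem_masks D L _ _).1 hm
      obtain ⟨j, hj⟩ := exists_code D (p := 64 + k) (by omega) (by omega)
      exact ⟨j, key j k hj⟩
  rw [h2]

end act

end Cfsg.Agent.H82.Rank
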