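/-
# Table of ranks of `∏ x_r(1) - 1` over fields of characteristic two (types `D₄, G₂, F₄, E₆, E₇`)
-/
import Cfsg.Agent.H82.Rank

set_option autoImplicit false

namespace Cfsg.Agent.H82.RankTab

open Cfsg.Lie Cfsg.Agent.ChevalleyStructure.Elts Cfsg.Agent.H82.Rank

universe u

theorem hD4 : InList chevD4 := by simp [InList]
theorem hG2 : InList chevG2 := by simp [InList]
theorem hF4 : InList chevF4 := by simp [InList]
theorem hE6 : InList chevE6 := by simp [InList]
theorem hE7 : InList chevE7 := by simp [InList]
theorem hE8 : InList chevE8 := by simp [InList]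

theorem coe_prod {D : ChevalleyDatum} {F : Type u} [Field F] (hD : InList D) (L : List ℕ) :
    (((L.map fun r => xG hD r (1 : F)).prod : GL D.Idx F) : Matrix D.Idx D.Idx F) = (L.map fun r => D.x F r 1).prod := by
  induction L with
  | nil => simp
  | cons r L ih =>
    simp only [List.map_cons, List.prod_cons, Units.val_mul]
    rw [ih]
    rfl

theorem rank_coe {D : ChevalleyDatum} {F : Type u} [Field F] [CharP F 2] (hD : InList D) {L : List ℕ} {k : ℕ}
    (h : chk D L k = true) :
    ((((L.map fun r => xG hD r (1 : F)).prod : GL D.Idx F) : Matrix D.Idx D.Idx F) - 1).rank = k := by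
  rw [coe_prod]
  exact rank_of_chk hD h

/-- conjugate elements `y` have `y - 1` of equal rank -/
theorem rank_conj {n : Type*} [Fintype n] [DecidableEq n] {F : Type u} [Field F] {x y h : GL n F}
    (e : h * x * h⁻¹ = y) : ((x : Matrix n n F) - 1).rank = ((y : Matrix n n F) - 1).rank := by
  have h1 : ((y : Matrix n n F) - 1) = (h : Matrix n n F) * ((x : Matrix n n F) - 1) * ((h⁻¹ : GL n F) : Matrix n n F) := by
    rw [← e, mul_sub, sub_mul, mul_one, ← Units.val_mul, ← Units.val_mul, ← Units.val_mul, mul_inv_cancel, Units.val_one]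
  have hh : IsUnit (h : Matrix n n F).det := (Matrix.isUnit_iff_isUnit_det _).1 h.isUnit
  have hh' : IsUnit ((h⁻¹ : GL n F) : Matrix n n F).det := (Matrix.isUnit_iff_isUnit_det _).1 (h⁻¹).isUnit
  rw [h1, Matrix.rank_mul_eq_left_of_isUnit_det _ _ hh', Matrix.rank_mul_eq_right_of_isUnit_det _ _ hh]

theorem d4a : chk chevD4 [23] 10 = true := by decide +kernel
theorem d4b : chk chevD4 [23, 12, 13] 12 = true := by decide +kernel
theorem g2a : chk chevG2 [11] 6 = true := by decide +kernel
theorem g2b : chk chevG2 [9] 6 = true := by decide +kernel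
theorem f4a : chk chevF4 [47] 16 = true := by decide +kernel
theorem f4b : chk chevF4 [44] 16 = true := by decide +kernel
theorem f4c : chk chevF4 [47, 44] 21 = true := by decide +kernel
theorem f4d : chk chevF4 [39, 45] 24 = true := by decide +kernel
theorem e6a : chk chevE6 [71] 22 = true := by decide +kernel
theorem e6b : chk chevE6 [71, 60] 32 = true := by decide +kernel
theorem e6c : chk chevE6 [71, 60, 44] 38 = true := by decide +kernel
theorem e6b' : chk chevE6 [68, 66] 32 = true := by decide +kernel
theorem e6c' : chk chevE6 [55, 65, 67] 38 = true := by decide +kernel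
theorem e7a : chk chevE7 [125] 34 = true := by decide +kernel
theorem e7b : chk chevE7 [125, 92] 52 = true := by decide +kernel
theorem e7c : chk chevE7 [125, 92, 63] 53 = true := by decide +kernel
theorem e7d : chk chevE7 [125, 92, 87] 62 = true := by decide +kernel
theorem e7e : chk chevE7 [125, 92, 63, 87] 63 = true := by decide +kernel
theorem d4c : chk chevD4 [23, 12] 11 = true := by decide +kernel

end Cfsg.Agent.H82.RankTab
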