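import Cfsg.Agent.H82.TwE6

/-! The subfield subgroup of `²E₆(q)`: the unipotent part and the main theorem. -/

set_option autoImplicit false

namespace Cfsg.Agent.H82.TwE6

open Cfsg.Lie Cfsg.Agent.H82.Level Cfsg.Agent.H82.TwMax Cfsg.Agent.ChevalleyStructure
open Cfsg.Agent.ChevalleyStructure.RootCombGood (co car)
open Cfsg.Agent.ChevalleyStructure.RootWord (wact)
open Cfsg.Agent.ChevalleyStructure.TwistedU
open Cfsg.Agent.ChevalleyStructure.TwistedE6Sigma (rho eps)
open Cfsg.Agent.ChevalleyStructure.TwistedE6U (L)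
open Cfsg.Agent.ChevalleyStructure.TwE6Basic (hE6 sg fix mem_fix n posE negE nE)
open Cfsg.Agent.ChevalleyStructure.TwE6BN (rs x_mem_rs rs_le conj_rs acts_n VJ VJ_le)
open scoped commutatorElement

universe u

variable {K : Type u} [Field K]

theorem lprod_mem_rs {A : List ℕ} {f : ℕ → K} : ∀ l : List ℕ, (∀ s ∈ l, s ∈ A ∨ f s = 0) →
    lprod (Elts.xG hE6) l f ∈ rs K A := by
  intro l
  induction l with
  | nil => intro _; rw [lprod_nil]; exact one_mem _
  | cons s l ih =>
    intro hl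
    rw [lprod_cons]
    refine mul_mem ?_ (ih fun s hs => hl s (List.mem_cons_of_mem _ hs))
    rcases hl s List.mem_cons_self with h | h
    · exact x_mem_rs h _
    · rw [h, Elts.xG_zero]; exact one_mem _

theorem lead8 (u : GL chevE6.Idx K) : lead hE6 L.flatten 8 u ∈ rs K [66, 68] := by
  have h1 : ∀ s ∈ L.flatten, ht chevE6 s = 8 → s ∈ [66, 68] := by decide +kernel
  unfold lead
  refine lprod_mem_rs _ fun s hs => ?_
  by_cases h : ht chevE6 s = 8
  · exact Or.inl (h1 s hs h)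
  · right
    rw [if_neg h]

/-- the element `∏ x_j(1)` of a class -/
noncomputable def eo (K : Type u) [Field K] (o : List ℕ) : GL chevE6.Idx K :=
  (o.map fun j => X (chevE6.simple j) (1 : K)).prod

theorem simple_mem : ∀ j < 6, chevE6.simple j ∈ L.flatten ∧ chevE6.simple j < 72 ∧ ht chevE6 (chevE6.simple j) = 1 := by
  decide +kernel

theorem eo_mem_Lv : ∀ o : List ℕ, (∀ j ∈ o, j < 6) → eo K o ∈ Lv K hE6 slE6 1 := by
  intro o
  induction o with
  | nil => intro _; exact one_mem _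
  | cons j o ih =>
    intro ho
    obtain ⟨h1, -, h2⟩ := simple_mem j (ho j List.mem_cons_self)
    unfold eo
    rw [List.map_cons, List.prod_cons]
    exact mul_mem (mem_Lv_X h1 (by rw [h2]) 1) (ih fun j hj => ho j (List.mem_cons_of_mem _ hj))

theorem cf_comm_eo {γ : ℕ} {m : ℤ} {u : GL chevE6.Idx K} (hu : u ∈ Lv K hE6 slE6 m)
    (hγm : ht chevE6 γ = 1 + m) : ∀ o : List ℕ, (∀ j ∈ o, j < 6) →
    cf γ ⁅eo K o, u⁆ = (o.map fun j => cf γ ⁅X (chevE6.simple j) (1 : K), u⁆).sum := by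
  intro o
  induction o with
  | nil =>
    intro _
    unfold eo
    rw [List.map_nil, List.prod_nil, commutatorElement_one_left, cf_one]
    rfl
  | cons j o ih =>
    intro ho
    obtain ⟨h1, -, h2⟩ := simple_mem j (ho j List.mem_cons_self)
    have ho' : ∀ j ∈ o, j < 6 := fun j hj => ho j (List.mem_cons_of_mem _ hj)
    have e : eo K (j :: o) = X (chevE6.simple j) (1 : K) * eo K o := by
      unfold eo
      rw [List.map_cons, List.prod_cons]
    rw [e, cf_comm_mul_left hE6 slE6 (m := 1) (n := m) (mem_Lv_X h1 (by rw [h2]) 1) (eo_mem_Lv o ho') hu le_rfl hγm,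
      ih ho', List.map_cons, List.sum_cons]

theorem cf_eo' {i : ℕ} (hi : i < 6) : ∀ o : List ℕ, (∀ j ∈ o, j < 6) →
    cf (chevE6.simple i) (eo K o) = (o.map fun j => if i = j then (1 : K) else 0).sum := by
  intro o
  obtain ⟨g1, g2, g3⟩ := simple_mem i hi
  induction o with
  | nil =>
    intro _
    unfold eo
    rw [List.map_nil, List.prod_nil, cf_one]
    rfl
  | cons j o ih =>
    intro ho
    obtain ⟨h1, h2, h3⟩ := simple_mem j (ho j List.mem_cons_self)
    have ho' : ∀ j ∈ o, j < 6 := fun j hj => ho j (List.mem_cons_of_mem _ hj)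
    have e : eo K (j :: o) = X (chevE6.simple j) (1 : K) * eo K o := by
      unfold eo
      rw [List.map_cons, List.prod_cons]
    rw [e, cf_mul_left hE6 slE6 (mem_Lv_X h1 (by rw [g3, h3]) 1) (eo_mem_Lv o ho').1, ih ho', List.map_cons,
      List.sum_cons, cf_X g2 h2]
    congr 1
    have hinj : ∀ i < 6, ∀ j < 6, (chevE6.simple i = chevE6.simple j ↔ i = j) := by decide +kernel
    by_cases hij : i = j
    · rw [if_pos hij, if_pos ((hinj i hi j (ho j List.mem_cons_self)).2 hij)]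
    · rw [if_neg hij, if_neg fun h => hij ((hinj i hi j (ho j List.mem_cons_self)).1 h)]

theorem cf_eo {i : ℕ} {o : List ℕ} (ho : ∀ j ∈ o, j < 6) (hnd : o.Nodup) (hio : i ∈ o) :
    cf (chevE6.simple i) (eo K o) = 1 := by
  rw [cf_eo' (ho i hio) o ho]
  exact sum_map_ite hnd hio fun _ => (1 : K)

/-- coordinate of a commutator with a class element -/
theorem cf_comm_eo' {m : ℤ} {u : GL chevE6.Idx K} (hu : u ∈ Lv K hE6 slE6 m) (hm : 1 ≤ m) {o : List ℕ}
    (ho : ∀ j ∈ o, j < 6) (hnd : o.Nodup) {j r : ℕ} (hj : j ∈ o) (hr : r ∈ L.flatten) (hrm : ht chevE6 r = m)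
    (hlt : add chevE6 (chevE6.simple j) r < 72)
    (hno : ∀ j' ∈ o, j' ≠ j → ∀ s ∈ L.flatten, add chevE6 (chevE6.simple j') s ≠ add chevE6 (chevE6.simple j) r) :
    cf (add chevE6 (chevE6.simple j) r) ⁅eo K o, u⁆ = (kap chevE6 (chevE6.simple j) r : K) * cf r u := by
  have O := ord (K := K) hE6 slE6 twE6
  obtain ⟨hj1, hj2, hj3⟩ := simple_mem j (ho j hj)
  obtain ⟨hp, hht, -⟩ := pos_of_add hE6 slE6 (pos_of_mem hj1) (pos_of_mem hr) hlt
  rw [hj3, hrm] at hht
  rw [cf_comm_eo hu hht o ho]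
  rw [← sum_map_ite hnd hj fun _ => (kap chevE6 (chevE6.simple j) r : K) * cf r u]
  congr 1
  refine List.map_congr_left fun j' hj' => ?_
  obtain ⟨hj1', hj2', hj3'⟩ := simple_mem j' (ho j' hj')
  rw [cf_comm_X_left hE6 slE6 O (pos_of_mem hj1') hu hm hp (by rw [hht, hj3'])]
  by_cases e : j = j'
  · subst e
    rw [if_pos rfl, Finset.sum_eq_single r]
    · rw [if_pos rfl, one_mul]
    · intro s hs hsr
      rw [if_neg]
      intro he
      apply hsr
      have hs' := pos_of_mem (List.mem_toFinset.1 hs)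
      have h2 := slE6.add_neg (chevE6.simple j) hj2 s hs'.1 (by rw [he]; exact hlt)
      have h3 := slE6.add_neg (chevE6.simple j) hj2 r (pos_of_mem hr).1 hlt
      rw [← h2, he, h3]
    · intro h
      exact absurd (List.mem_toFinset.2 hr) h
  · rw [if_neg e]
    refine Finset.sum_eq_zero fun s hs => ?_
    rw [if_neg (hno j' hj' (Ne.symm e) s (List.mem_toFinset.1 hs))]

section Step

variable [Fintype K] {q : ℕ} {φ : K →+* K} (hφ : ∀ x, φ x = x ^ q) (hφφ : ∀ t, φ (φ t) = t)
  {H : Subgroup (GL chevE6.Idx K)} (hMH : ∀ g ∈ twistedE6 K q, fr chevE6 φ g = g → g ∈ H) (hHG : H ≤ twistedE6 K q)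

include hφ hφφ hMH hHG in
theorem good8 (hne : H ≠ twistedE6 K q) {u : GL chevE6.Idx K} (huH : u ∈ H)
    (hu : u ∈ Lv K hE6 slE6 8) {r : ℕ} (hr : r ∈ [66, 68]) : φ (cf r u) = cf r u := by
  have W := tw (q := q) hφ hφφ
  have hqq : ∀ t : K, (t ^ q) ^ q = t := fun t => by rw [← hφ, ← hφ, hφφ]
  have hfix : ∀ r ∈ L.flatten, 9 ≤ ht chevE6 r → rho r = r ∧ eps r = 1 := by decide +kernel
  have h1 := lead_mem_H W hMH hHG (m := 8) (fun r hr h9 => hfix r (mem_of_pos hr) h9) huH hu
  have h2 := lead8 u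
  have hn := n_mem (H := H) hφ hφφ hMH
  have hcl := (cls (K := K) (q := q) hφ hφφ).nh_fr
  obtain ⟨m, hm⟩ : ∃ m, m = n (K := K) 1 * n 3 * n 0 * n 2 * n 3 * n 1 * n 2 * n 3 := ⟨_, rfl⟩
  have hmH : m ∈ H := by
    rw [hm]
    exact mul_mem (mul_mem (mul_mem (mul_mem (mul_mem (mul_mem (mul_mem (hn 1) (hn 3)) (hn 0)) (hn 2)) (hn 3)) (hn 1))
      (hn 2)) (hn 3)
  have hmfr : fr chevE6 φ m = m := by
    rw [hm]
    simp only [map_mul, hcl]
  have hA : TwE6BN.Acts m _ :=
    hm ▸ ((((((((acts_n 1).mul (acts_n 3)).mul (acts_n 0)).mul (acts_n 2)).mul (acts_n 3)).mul (acts_n 1)).mul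
      (acts_n 2)).mul (acts_n 3))
  obtain ⟨l, hl⟩ : ∃ l, l = lead hE6 L.flatten 8 u := ⟨_, rfl⟩
  rw [← hl] at h1 h2
  have h3 : m * l * m⁻¹ ∈ rs K [42, 37] := conj_rs hA (by decide +kernel) h2
  have h4 : m * l * m⁻¹ ∈ H := mul_mem (mul_mem hmH h1) (inv_mem hmH)
  obtain ⟨t, s, h5⟩ := TwE6BN.PairOK.mem_pos TwE6BN.pair2 h3
  have h6 : s = φ t := by
    refine TwE6BN.PairOK.fix_pos TwE6BN.pair2 ?_
    rw [← h5]
    exact TwE6Basic.twisted_le_fix φ hφ hqq (hHG h4)
  have h7 : m * l * m⁻¹ = Q φ t := by rw [h5, h6]; rfl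
  have h8 : φ t = t := by
    by_contra h
    rw [h7] at h4
    exact hne (all_of_bad hφ hφφ hMH hHG h4 h)
  have h9 : fr chevE6 φ l = l := by
    have e : l = m⁻¹ * Q φ t * m := by rw [← h7]; group
    rw [e, map_mul, map_mul, map_inv, hmfr, fr_Q h8]
  have h10 : ∀ r ∈ [66, 68], ht chevE6 r = 8 ∧ r ∈ L.flatten := by decide +kernel
  obtain ⟨h11, h12⟩ := h10 r hr
  have h13 := cf_lead hE6 slE6 (ord (K := K) hE6 slE6 twE6) (r := r) (pos_of_mem h12) u
  rw [h11, ← hl] at h13
  rw [← h13]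
  exact cf_of_fr φ h9

include hφ hMH in
omit [Fintype K] in
theorem eo_mem_H {o : List ℕ} (ho : o ∈ cl) : eo K o ∈ H := by
  simp only [cl, List.mem_cons, List.not_mem_nil, or_false] at ho
  obtain ⟨s0, s1, s2, s3, s4, s5⟩ := simples
  rcases ho with rfl | rfl | rfl | rfl
  · have e : eo K [1] = X 46 1 := by
      unfold eo
      rw [List.map_cons, List.map_nil, List.prod_cons, List.prod_nil, mul_one, s1]
    rw [e]
    exact hMH _ (TwE6Basic.single_mem (one_pow _) (by decide)) (by rw [fr_X, map_one])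
  · have e : eo K [3] = X 39 1 := by
      unfold eo
      rw [List.map_cons, List.map_nil, List.prod_cons, List.prod_nil, mul_one, s3]
    rw [e]
    exact hMH _ (TwE6Basic.single_mem (one_pow _) (by decide)) (by rw [fr_X, map_one])
  · have e : eo K [2, 4] = Q φ 1 := by
      unfold eo Q
      rw [List.map_cons, List.map_cons, List.map_nil, List.prod_cons, List.prod_cons, List.prod_nil, mul_one, s2, s4,
        map_one]
    rw [e]
    exact V_fix hφ hMH (map_one φ)
  · have e : eo K [0, 5] = X 56 1 * X 36 1 := by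
      unfold eo
      rw [List.map_cons, List.map_cons, List.map_nil, List.prod_cons, List.prod_cons, List.prod_nil, mul_one, s0, s5]
    rw [e]
    have h1 := TwE6BN.PairOK.pos_mem_G (K := K) (q := q) TwE6BN.pair3 1
    rw [one_pow] at h1
    exact hMH _ h1 (by rw [map_mul, fr_X, fr_X, map_one])

include hφ hφφ hMH hHG in
theorem climb (hne : H ≠ twistedE6 K q) : ∀ k : ℕ, ∀ m : ℤ, 12 ≤ m + k → ∀ u ∈ H, u ∈ Lv K hE6 slE6 m →
    ∀ r, chevE6.IsPosRoot r → ht chevE6 r = m → φ (cf r u) = cf r u := by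
  have W := tw (q := q) hφ hφφ
  intro k
  induction k with
  | zero =>
    intro m hm u _ _ r hr hrm
    exfalso
    have h1 : ∀ r ∈ L.flatten, ht chevE6 r ≤ 11 := by decide +kernel
    have := h1 r (mem_of_pos hr)
    push_cast at hm
    omega
  | succ k ih =>
    intro m hm u huH hu r hr hrm
    by_cases h1 : rho r = r
    · have h2 := cf_rho W hr (g := u) (by rw [hrm]; exact hu) (W.G_fix u (hHG huH))
      rw [h1, TwistedE6Sigma.eps_of_rho_eq r hr.1 h1, Int.cast_one, one_mul] at h2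
      exact h2.symm
    · by_cases h2 : r ∈ [66, 68]
      · have h3 : ∀ r ∈ [66, 68], ht chevE6 r = 8 := by decide +kernel
        have h4 := h3 r h2
        rw [hrm] at h4
        subst h4
        exact good8 hφ hφφ hMH hHG hne huH hu h2
      · have hrL := mem_of_pos hr
        obtain ⟨o, ho, j, hj, hlt, hno⟩ := climbTab r hrL h1 h2
        have hcl : ∀ o ∈ cl, (∀ j ∈ o, j < 6) ∧ o.Nodup := by decide
        obtain ⟨ho6, hnd⟩ := hcl o ho
        obtain ⟨hj1, hj2, hj3⟩ := simple_mem j (ho6 j hj)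
        have hm1 : 1 ≤ m := by rw [← hrm]; exact slE6.pos r hr.1 hr
        obtain ⟨hp, hht, hk⟩ := pos_of_add hE6 slE6 (pos_of_mem hj1) hr hlt
        rw [hj3, hrm] at hht
        have heH := eo_mem_H (K := K) hφ hMH ho
        have hgH : ⁅eo K o, u⁆ ∈ H := by
          rw [commutatorElement_def]
          exact mul_mem (mul_mem (mul_mem heH huH) (inv_mem heH)) (inv_mem huH)
        have hg : ⁅eo K o, u⁆ ∈ Lv K hE6 slE6 (1 + m) := comm_mem_Lv hE6 slE6 (eo_mem_Lv o ho6) hu
        have h3 := ih (1 + m) (by push_cast at hm; omega) _ hgH hg _ hp hht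
        rw [cf_comm_eo' hu hm1 ho6 hnd hj hrL hrm hlt hno, map_mul, map_intCast] at h3
        have h4 : (kap chevE6 (chevE6.simple j) r : K) ≠ 0 := by rcases hk with hk | hk <;> rw [hk] <;> simp
        exact mul_left_cancel₀ h4 h3

include hφ hφφ hMH hHG in
theorem hA (hne : H ≠ twistedE6 K q) : ∀ u ∈ H, u ∈ chevE6.posUnipotent K → fr chevE6 φ u = u :=
  stepA (tw hφ hφφ) hMH hHG fun m u huH hu r hr hrm =>
    climb hφ hφφ hMH hHG hne (12 + m.natAbs) m (by omega) u huH hu r hr hrm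

include hφ hφφ hMH hHG in
theorem pairStage (hne : H ≠ twistedE6 K q) {w : List ℕ} {b m u : GL chevE6.Idx K}
    (hb : b ∈ chevE6.borelSubgroup K) (hn : NW rho (twistedE6 K q) m w)
    (hu : u ∈ chevE6.posUnipotent K) (hg : b * m * u ∈ H)
    (hfix : ∀ d ∈ [71, 70, 69], wact chevE6 w d = d)
    (hγ : (wact chevE6 w.reverse 66 = 55 ∧ wact chevE6 w.reverse 68 = 67) ∨
      (wact chevE6 w.reverse 66 = 67 ∧ wact chevE6 w.reverse 68 = 55)) :
    φ (cf 56 u) = cf 56 u := by
  have W := tw (q := q) hφ hφφ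
  have Gd := RootComb.good_of_mem hE6
  have O := ord (K := K) hE6 slE6 twE6
  have hA' := hA hφ hφφ hMH hHG hne
  obtain ⟨r55, r67, r66, r68, t55, t67, t66, t68, a1, a2, a3, a4, e66, e68⟩ := tab55
  have hL : ∀ r ∈ [55, 67, 66, 68, 56], r ∈ L.flatten := by decide
  have c66 : ∀ s t : K, Commute (X 66 s : GL chevE6.Idx K) (X 68 t) := by
    intro s t
    rw [← commutatorElement_eq_one_iff_commute, comm_X hE6 slE6 (by decide) (by decide) (by decide) (by decide +kernel),
      a3, Elts.xG_of_not_lt hE6 (r := 72) (by decide), mul_one, mul_inv_cancel]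
  have c55 : ∀ s t : K, Commute (X 55 s : GL chevE6.Idx K) (X 67 t) := by
    intro s t
    rw [← commutatorElement_eq_one_iff_commute, comm_X hE6 slE6 (by decide) (by decide) (by decide) (by decide +kernel),
      a2, Elts.xG_of_not_lt hE6 (r := 72) (by decide), mul_one, mul_inv_cancel]
  have h8 : ∀ a c : K, X 66 a * X 68 c ∈ Lv K hE6 slE6 8 := fun a c =>
    mul_mem (mem_Lv_X (hL 66 (by decide)) (by rw [t66]) a) (mem_Lv_X (hL 68 (by decide)) (by rw [t68]) c)
  have hc8 : ∀ a c : K, ∀ r < 72, ht chevE6 r = 8 →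
      cf r (X 66 a * X 68 c) = (if r = 66 then a else 0) + (if r = 68 then c else 0) := by
    intro a c r hr hr8
    rw [cf_mul_left hE6 slE6 (mem_Lv_X (hL 66 (by decide)) (by rw [hr8, t66]) a)
      (Elts.xG_mem_posUnipotent hE6 (pos_of_mem (hL 68 (by decide))) c), cf_X hr (by norm_num), cf_X hr (by norm_num)]
  obtain ⟨e, he⟩ : ∃ e, e = X 66 (1 : K) * X 68 1 := ⟨_, rfl⟩
  have he8 : e ∈ Lv K hE6 slE6 8 := by rw [he]; exact h8 1 1
  have heH : e ∈ H := by
    refine hMH _ (W.U_fix _ he8.1 ?_) ?_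
    · rw [he, map_mul, W.sg_X 66 (pos_of_mem (hL 66 (by decide))), W.sg_X 68 (pos_of_mem (hL 68 (by decide))), r66, r68,
        e66, e68, map_one, Int.cast_one, one_mul]
      exact (c66 1 1).symm.eq
    · rw [he, map_mul, fr_X, fr_X, map_one]
  obtain ⟨h1, h2⟩ := borel_conj hE6 slE6 hb he8
  obtain ⟨x1, hx1, h3⟩ := h2 66 t66
  obtain ⟨x2, hx2, h4⟩ := h2 68 t68
  rw [he, hc8 1 1 66 (by norm_num) t66, if_pos rfl, if_neg (by norm_num), add_zero, mul_one, ← he] at h3
  rw [he, hc8 1 1 68 (by norm_num) t68, if_neg (by norm_num), if_pos rfl, zero_add, mul_one, ← he] at h4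
  obtain ⟨y, hy⟩ : ∃ y, y = b⁻¹ * e * b := ⟨_, rfl⟩
  rw [← hy] at h1 h3 h4
  have h5 : (X 66 x1 * X 68 x2)⁻¹ * y ∈ Lv K hE6 slE6 9 := by
    have h9 : ∀ s ∈ L.flatten, ht chevE6 s = 8 → s = 66 ∨ s = 68 := by decide +kernel
    refine mem_Lv_succ hE6 slE6 O (m := 8) (mul_mem (inv_mem (h8 x1 x2)) h1) fun r hr hrm => ?_
    rw [cf_mul_left hE6 slE6 (by rw [hrm]; exact inv_mem (h8 x1 x2)) h1.1,
      cf_inv hE6 slE6 (by rw [hrm]; exact h8 x1 x2), hc8 x1 x2 r hr.1 hrm]
    rcases h9 r (mem_of_pos hr) hrm with rfl | rfl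
    · rw [h3]; norm_num
    · rw [h4]; norm_num
  have hni := hn.acts.inv Gd hn.lt
  have hlt : ∀ a ∈ w.reverse, a < chevE6.rank := fun a ha => hn.lt a (List.mem_reverse.1 ha)
  have h6 := n_conj_Lv W hni (m := 9) (fun s hs hms => by
    have h9 : ∀ s ∈ L.flatten, 9 ≤ ht chevE6 s → s ∈ [71, 70, 69] := by decide +kernel
    have := hfix s (h9 s (mem_of_pos hs) hms)
    rw [← this, RootWord.wact_reverse Gd hn.lt hs.1, this]) h5
  obtain ⟨c1, hc1, hc1'⟩ := acts_X hE6 hni (s := 66) (by decide) x1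
  obtain ⟨c2, hc2, hc2'⟩ := acts_X hE6 hni (s := 68) (by decide) x2
  obtain ⟨c, c', hc0, hcc⟩ : ∃ c c' : K, c ≠ 0 ∧ m⁻¹ * X 66 x1 * m⁻¹⁻¹ * (m⁻¹ * X 68 x2 * m⁻¹⁻¹) = X 55 c * X 67 c' := by
    rcases hγ with ⟨g1, g2⟩ | ⟨g1, g2⟩
    · refine ⟨c1, c2, hc1' hx1, ?_⟩
      rw [hc1, hc2, g1, g2]
    · refine ⟨c2, c1, hc2' hx2, ?_⟩
      rw [hc1, hc2, g1, g2]
      exact (c55 c2 c1).symm.eq
  obtain ⟨y', hy'⟩ : ∃ y', y' = m⁻¹ * ((X 66 x1 * X 68 x2)⁻¹ * y) * m⁻¹⁻¹ := ⟨_, rfl⟩
  rw [← hy'] at h6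
  have hz : (b * m * u)⁻¹ * e * (b * m * u) = u⁻¹ * (X 55 c * X 67 c') * u * (u⁻¹ * y' * u⁻¹⁻¹) := by
    rw [← hcc, hy', hy]
    group
  have hτ : u⁻¹ * y' * u⁻¹⁻¹ ∈ Lv K hE6 slE6 9 := conj_mem_Lv hE6 slE6 h6 (inv_mem hu)
  have hzH : u⁻¹ * (X 55 c * X 67 c') * u * (u⁻¹ * y' * u⁻¹⁻¹) ∈ H := by
    rw [← hz]
    exact mul_mem (mul_mem (inv_mem hg) heH) hg
  have hX55 : X 55 c ∈ Lv K hE6 slE6 7 := mem_Lv_X (hL 55 (by decide)) (by rw [t55]) c
  have hX67 : X 67 c' ∈ Lv K hE6 slE6 7 := mem_Lv_X (hL 67 (by decide)) (by rw [t67]) c'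
  have hzU : u⁻¹ * (X 55 c * X 67 c') * u * (u⁻¹ * y' * u⁻¹⁻¹) ∈ chevE6.posUnipotent K :=
    mul_mem (mul_mem (mul_mem (inv_mem hu) (mul_mem hX55.1 hX67.1)) hu) hτ.1
  have hf := hA' _ hzH hzU
  have h56 : ht chevE6 56 = 1 := ht_one (by decide)
  refine LS hE6 slE6 O φ (γ := 55) (j := 56) (pos_of_mem (hL 55 (by decide))) (pos_of_mem (hL 56 (by decide))) h56
    (by rw [a1]; decide) hu hc0 (y := X 67 c') (τ := u⁻¹ * y' * u⁻¹⁻¹) (by rw [t55]; exact hX67)
    (by rw [t55]; exact hτ) ?_ ?_ ?_ hf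
  · rw [cf_X (by norm_num) (by norm_num), if_neg (by norm_num)]
  · rw [a1, cf_mul hE6 slE6 (m := 7) (n := 7) hX55 hX67 (by rw [t66]; norm_num), cf_X (by norm_num) (by norm_num),
      cf_X (by norm_num) (by norm_num), if_neg (by norm_num), if_neg (by norm_num), add_zero]
  · rw [a1]
    exact cf_comm_X_right_zero hE6 slE6 O (pos_of_mem (hL 67 (by decide))) (pos_of_mem (hL 66 (by decide)))
      (by rw [t66, t67]; norm_num) (fun s hs => a4 s (mem_of_pos hs)) (inv_mem hu) c'

include hφ hφφ hMH in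
theorem high_mem {r : ℕ} (hr : r ∈ [71, 70, 69]) : X r (1 : K) ∈ H := by
  have W := tw (q := q) hφ hφφ
  have h1 : ∀ r ∈ [71, 70, 69], r ∈ L.flatten ∧ rho r = r := by decide +kernel
  obtain ⟨h2, h3⟩ := h1 r hr
  have hp := pos_of_mem h2
  refine hMH _ (W.U_fix _ (Elts.xG_mem_posUnipotent hE6 hp _) ?_) (by rw [fr_X, map_one])
  rw [W.sg_X r hp, h3, TwistedE6Sigma.eps_of_rho_eq r hp.1 h3, map_one, Int.cast_one, one_mul]

include hφ hφφ hMH hHG in
/-- the last stage -/
theorem last (hne : H ≠ twistedE6 K q) {w : List ℕ} {b m u : GL chevE6.Idx K}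
    (hb : b ∈ chevE6.borelSubgroup K) (hn : NW rho (twistedE6 K q) m w)
    (hu : u ∈ chevE6.posUnipotent K) (huG : u ∈ twistedE6 K q) (hg : b * m * u ∈ H)
    (hfix : ∀ d ∈ [71, 70, 69], wact chevE6 w d = d) :
    (∀ i < chevE6.rank, chevE6.IsPosRoot (wact chevE6 w (chevE6.simple i))) ∨
      ∃ i, (∀ j ∈ TwE6Basic.J i, chevE6.IsNegRoot (wact chevE6 w (chevE6.simple j))) ∧
        ∀ j ∈ TwE6Basic.J i, φ (cf (chevE6.simple j) u) = cf (chevE6.simple j) u := by
  have W := tw (q := q) hφ hφφ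
  have Gd := RootComb.good_of_mem hE6
  obtain ⟨s0, s1, s2, s3, s4, s5⟩ := simples
  have hd72 : ∀ d ∈ [71, 70, 69], d < 72 := by decide
  have hcar : ∀ r < 72, ∀ d ∈ [71, 70, 69], car chevE6 (wact chevE6 w r) d = car chevE6 r d := by
    intro r hr d hd
    have h1 := RootWord.car_wact Gd hn.lt hr (hd72 d hd)
    rwa [hfix d hd] at h1
  have hwlt : ∀ r < 72, wact chevE6 w r < 72 := fun r hr => RootWord.wact_lt Gd hn.lt hr
  have hsl : ∀ i < 6, chevE6.simple i < 72 := fun i hi => Gd.simple_lt hi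
  have hinner : ∀ i < 6, i ∉ [0, 5] → chevE6.IsPosRoot (wact chevE6 w (chevE6.simple i)) := by
    intro i hi hi'
    rcases RootWord.pos_or_neg Gd (hwlt _ (hsl i hi)) with hp | hp
    · exact hp
    · exfalso
      have hneg := (RootWord.isPosRoot_neg Gd (hwlt _ (hsl i hi))).2 hp
      have hnlt := RootWord.neg_lt Gd (hwlt _ (hsl i hi))
      have hd : ∀ d ∈ [71, 70, 69], car chevE6 (chevE6.neg (wact chevE6 w (chevE6.simple i))) d =
          - car chevE6 (chevE6.simple i) d := by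
        intro d hd
        rw [RootWord.car_neg_left Gd (hwlt _ (hsl i hi)) d, hcar _ (hsl i hi) d hd]
      have d0 := hd 71 (by decide)
      have d1 := hd 70 (by decide)
      have d2 := hd 69 (by decide)
      rcases simple_pairing i hi hi' with h1 | ⟨h1, h2⟩ | ⟨h1, h2, h3⟩
      · have := lp0 _ hnlt hneg (by simp)
        omega
      · have := lp1 _ hnlt hneg (by
          intro d hd
          rw [List.mem_singleton] at hd
          subst hd
          omega)
        omega
      · have := lp2 _ hnlt hneg (by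
          intro d hd
          simp only [List.mem_cons, List.not_mem_nil, or_false] at hd
          rcases hd with rfl | rfl <;> omega)
        omega
  have hrho : wact chevE6 w 36 = rho (wact chevE6 w 56) := by
    have h1 := hn.comm 56 (by decide)
    have h2 : rho 56 = 36 := by decide +kernel
    rwa [h2] at h1
  have h56 := hwlt 56 (by norm_num)
  rcases RootWord.pos_or_neg Gd h56 with hp | hp
  · left
    intro i hi
    by_cases hi' : i ∈ [0, 5]
    · simp only [List.mem_cons, List.not_mem_nil, or_false] at hi'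
      rcases hi' with rfl | rfl
      · rw [s0]; exact hp
      · rw [s5, hrho]; exact rho_pos W hp
    · exact hinner i hi hi'
  · right
    have hneg := (RootWord.isPosRoot_neg Gd h56).2 hp
    have hnlt := RootWord.neg_lt Gd h56
    have ho : ∀ d ∈ [71, 70, 69], car chevE6 (chevE6.neg (wact chevE6 w 56)) d = 0 := by
      intro d hd
      rw [RootWord.car_neg_left Gd h56 d, hcar 56 (by norm_num) d hd, ← s0, (pairTab' d hd).2, neg_zero]
    have hlt : ∀ a ∈ w.reverse, a < chevE6.rank := fun a ha => hn.lt a (List.mem_reverse.1 ha)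
    have key : ∀ x ∈ [66, 68], 0 < car chevE6 (chevE6.neg (wact chevE6 w 56)) x → wact chevE6 w.reverse x = 55 := by
      intro x hx hpos
      have hx' : ∀ x ∈ [66, 68], x < 72 := by decide
      have hx2 := hx' x hx
      have hx3 := RootWord.wact_lt Gd hlt hx2
      have hx4 := RootWord.wact_reverse' Gd hn.lt hx2
      refine pairTab _ hx3 ?_ ?_
      · intro d hd
        rw [← hcar _ hx3 d hd, hx4]
        simp only [List.mem_cons, List.not_mem_nil, or_false] at hx
        rcases hx with rfl | rfl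
        · rfl
        · exact (pairTab' d hd).1
      · rw [s0, ← RootWord.car_wact Gd hn.lt (by decide) hx3, hx4]
        rw [RootWord.car_neg_left Gd h56 x] at hpos
        omega
    obtain ⟨r55, r67, r66, r68, -⟩ := tab55
    have hrr : ∀ x < 72, wact chevE6 w.reverse x = 55 → wact chevE6 w.reverse (rho x) = 67 := by
      intro x hx h1
      have h2 := hn.comm 55 (by decide)
      have h3 := RootWord.wact_reverse' Gd hn.lt (r := x) hx
      rw [h1] at h3
      rw [r55, h3] at h2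
      have h4 := RootWord.wact_reverse Gd hn.lt (r := 67) (by decide)
      rwa [h2] at h4
    have hγ : (wact chevE6 w.reverse 66 = 55 ∧ wact chevE6 w.reverse 68 = 67) ∨
      (wact chevE6 w.reverse 66 = 67 ∧ wact chevE6 w.reverse 68 = 55) := by
      rcases pairPos _ hnlt hneg ho with h1 | h1
      · left
        have h2 := key 66 (by decide) h1
        have h3 := hrr 66 (by norm_num) h2
        rw [r66] at h3
        exact ⟨h2, h3⟩
      · right
        have h2 := key 68 (by decide) h1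
        have h3 := hrr 68 (by norm_num) h2
        rw [r68] at h3
        exact ⟨h3, h2⟩
    have h7 := pairStage hφ hφφ hMH hHG hne hb hn hu hg hfix hγ
    have h8 := cf_rho_iter W (pos_of_mem (by decide)) (ht_one (by decide)) hu huG h7 1
    have h9 : rho^[1] 56 = 36 := by decide +kernel
    rw [h9] at h8
    have hJ : ∀ j ∈ TwE6Basic.J 3, chevE6.simple j = 56 ∨ chevE6.simple j = 36 := by decide +kernel
    refine ⟨3, fun j hj => ?_, fun j hj => ?_⟩
    · rcases hJ j hj with e | e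
      · rw [e]; exact hp
      · rw [e, hrho]
        rcases RootWord.pos_or_neg Gd (twE6.rho_lt _ h56) with h10 | h10
        · exfalso
          have h11 := rho_pos W h10
          have h12 : ∀ r < 72, rho (rho r) = r := by decide +kernel
          rw [h12 _ h56] at h11
          exact RootWord.not_pos_of_neg Gd hp h11
        · exact h10
    · rcases hJ j hj with e | e
      · rw [e]; exact h7
      · rw [e]; exact h8.2.2

include hφ hφφ hMH hHG in
theorem key (hne : H ≠ twistedE6 K q) (w : List ℕ) (b m u : GL chevE6.Idx K)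
    (hb : b ∈ chevE6.borelSubgroup K) (hn : NW rho (twistedE6 K q) m w)
    (hu : u ∈ chevE6.posUnipotent K) (huG : u ∈ twistedE6 K q) (hg : b * m * u ∈ H) :
    (∀ i < chevE6.rank, chevE6.IsPosRoot (wact chevE6 w (chevE6.simple i))) ∨
      ∃ i, (∀ j ∈ TwE6Basic.J i, chevE6.IsNegRoot (wact chevE6 w (chevE6.simple j))) ∧
        ∀ j ∈ TwE6Basic.J i, φ (cf (chevE6.simple j) u) = cf (chevE6.simple j) u := by
  have W := tw (q := q) hφ hφφ
  have hA' := hA hφ hφφ hMH hHG hne
  have hcl : ∀ o ∈ cl, ∀ j ∈ o, j < chevE6.rank := by decide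
  have horb : ∀ o ∈ cl, ∀ j ∈ o, ∀ j' ∈ o, ∃ k, rho^[k] (chevE6.simple j) = chevE6.simple j' := by
    have : ∀ o ∈ cl, ∀ j ∈ o, ∀ j' ∈ o, ∃ k < 2, rho^[k] (chevE6.simple j) = chevE6.simple j' := by decide +kernel
    intro o ho j hj j' hj'
    obtain ⟨k, -, hk⟩ := this o ho j hj j' hj'
    exact ⟨k, hk⟩
  have hfin : (∃ o ∈ cl, (∀ j ∈ o, chevE6.IsNegRoot (wact chevE6 w (chevE6.simple j))) ∧
      ∀ j ∈ o, φ (cf (chevE6.simple j) u) = cf (chevE6.simple j) u) →
      ∃ i, (∀ j ∈ TwE6Basic.J i, chevE6.IsNegRoot (wact chevE6 w (chevE6.simple j))) ∧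
        ∀ j ∈ TwE6Basic.J i, φ (cf (chevE6.simple j) u) = cf (chevE6.simple j) u := by
    rintro ⟨o, ho, h1, h2⟩
    have : ∀ o ∈ cl, ∃ i, TwE6Basic.J i = o := by decide
    obtain ⟨i, rfl⟩ := this o ho
    exact ⟨i, h1, h2⟩
  have hpos : ∀ d ∈ [71, 70, 69], chevE6.IsPosRoot d := by
    intro d hd
    have : ∀ d ∈ [71, 70, 69], d ∈ L.flatten := by decide
    exact pos_of_mem (this d hd)
  have huniq : ∀ d ∈ [71, 70, 69], ∀ s, chevE6.IsPosRoot s → ht chevE6 s = ht chevE6 d → s = d := by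
    have : ∀ d ∈ [71, 70, 69], ∀ s ∈ L.flatten, ht chevE6 s = ht chevE6 d → s = d := by decide +kernel
    exact fun d hd s hs h => this d hd s (mem_of_pos hs) h
  by_cases hw0 : wact chevE6 w 71 = 71
  · by_cases hw1 : wact chevE6 w 70 = 70
    · by_cases hw2 : wact chevE6 w 69 = 69
      · exact last hφ hφφ hMH hHG hne hb hn hu huG hg (by
          intro d hd
          simp only [List.mem_cons, List.not_mem_nil, or_false] at hd
          rcases hd with rfl | rfl | rfl
          · exact hw0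
          · exact hw1
          · exact hw2)
      · right
        apply hfin
        exact stage W hA' stage2 lp2 hcl horb (by simp) (by simp) (by decide) (hpos 69 (by decide)) (by decide +kernel)
          (huniq 69 (by decide)) (high_mem hφ hφφ hMH (by decide))
          (by
            intro s hs h1
            have : ∀ s ∈ L.flatten, ht chevE6 69 + 1 ≤ ht chevE6 s → s ∈ [71, 70] := by decide +kernel
            exact this s (mem_of_pos hs) h1) hb hn hu huG hg
          (by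
            intro d hd
            simp only [List.mem_cons, List.not_mem_nil, or_false] at hd
            rcases hd with rfl | rfl
            · exact hw0
            · exact hw1) hw2
    · right
      apply hfin
      exact stage W hA' stage1 lp1 hcl horb (by simp) (by simp) (by decide) (hpos 70 (by decide)) (by decide +kernel)
        (huniq 70 (by decide)) (high_mem hφ hφφ hMH (by decide))
        (by
          intro s hs h1
          have : ∀ s ∈ L.flatten, ht chevE6 70 + 1 ≤ ht chevE6 s → s ∈ [71] := by decide +kernel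
          exact this s (mem_of_pos hs) h1) hb hn hu huG hg
        (by
          intro d hd
          rw [List.mem_singleton] at hd
          subst hd
          exact hw0) hw1
  · right
    apply hfin
    exact stage W hA' stage0 lp0 hcl horb
      (by
        intro β hβ
        have h1 : ∀ β ∈ [71, 70], β ∈ [71, 70, 69] := by decide
        exact ⟨hpos β (h1 β hβ), high_mem hφ hφφ hMH (h1 β hβ)⟩)
      (by
        intro _ s hs
        have : ∀ s ∈ L.flatten, ht chevE6 s ≤ ht chevE6 71 := by decide +kernel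
        exact this s (mem_of_pos hs)) (by simp) (hpos 71 (by decide)) (by decide +kernel)
      (huniq 71 (by decide)) (high_mem hφ hφφ hMH (by decide))
      (by
        intro s hs h1
        have : ∀ s ∈ L.flatten, ¬ (ht chevE6 71 + 1 ≤ ht chevE6 s) := by decide +kernel
        exact absurd h1 (this s (mem_of_pos hs))) hb hn hu huG hg (by simp) hw0

include hφ hφφ hMH hHG in
/-- a subgroup between the subfield subgroup and `²E₆(q)` -/
theorem dichotomy (hne : H ≠ twistedE6 K q) : ∀ g ∈ H, fr chevE6 φ g = g := by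
  have hqq : ∀ t : K, (t ^ q) ^ q = t := fun t => by rw [← hφ, ← hφ, hφφ]
  refine main hE6 slE6 (TwE6BN.T φ q hφ hqq) (rho := rho) (φ := φ) (J := TwE6Basic.J) rfl rfl (cls hφ hφφ) hMH hHG
    (hA hφ hφφ hMH hHG hne) ?_ (fun w b m u hb _ hn hu huG hg => key hφ hφφ hMH hHG hne w b m u hb hn hu huG hg)
  intro i hi
  have h1 : ∀ i < 6, ∃ o ∈ cl, i ∈ o := by decide
  obtain ⟨o, ho, hio⟩ := h1 i hi
  have hcl : ∀ o ∈ cl, (∀ j ∈ o, j < 6) ∧ o.Nodup := by decide
  obtain ⟨ho6, hnd⟩ := hcl o ho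
  have hU := eo_mem_Lv (K := K) o ho6
  refine ⟨eo K o, eo_mem_H hφ hMH ho, hU.1, ?_⟩
  exact cf_eo ho6 hnd hio

end Step

end Cfsg.Agent.H82.TwE6
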