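import Cfsg.Agent.ChevalleyStructure.Grading
import Cfsg.Agent.ChevalleyStructure.BruhatSplit
import Cfsg.Agent.ChevalleyStructure.TwistedU
import Cfsg.Agent.ChevalleyStructure.Columns
import Cfsg.Agent.ChevStructure.FieldMap

/-!
The height filtration of the unipotent subgroup `U` of a simply laced Chevalley group, by matrix entries.

`Lv K D m` is the subgroup of the `g` in `U` with `g - 1` graded in degrees `≥ m`; `cf r g` is the coordinate of `g`
at the root `r`, read off one entry of `g`.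
-/

set_option autoImplicit false

namespace Cfsg.Agent.H82.Level

open Cfsg.Lie Cfsg.Agent.ChevalleyStructure Cfsg.Agent.ChevalleyStructure.Elts
open Cfsg.Agent.ChevalleyStructure.TwistedU
open scoped commutatorElement

universe u

/-! ### Tables -/

/-- the height of a root (of its coroot) -/
def ht (D : ChevalleyDatum) (r : ℕ) : ℤ := (D.coroot.getD r #[]).toList.sum

/-- the weight of a coordinate -/
def wt (D : ChevalleyDatum) : D.Idx → ℤ
  | Sum.inl _ => 0
  | Sum.inr s => ht D s.val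

/-- a simple index `i` with `A_{p_i, r} = ±1` -/
def ii (D : ChevalleyDatum) (r : ℕ) : ℕ :=
  ((List.range D.rank).find? fun i => D.cartan i r = 1 || D.cartan i r = -1).getD 0

/-- the index of `r + s` (out of range if not a root) -/
def add (D : ChevalleyDatum) (r s : ℕ) : ℕ := ((D.commTerms r s).map Prod.fst).headD D.nroots

/-- the structure constant of the commutator formula -/
def kap (D : ChevalleyDatum) (r s : ℕ) : ℤ := ((D.commTerms r s).map fun c => c.2.1).headD 0

/-- the combinatorial facts used -/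
structure SL (D : ChevalleyDatum) : Prop where
  gr : ∀ r < D.nroots, Grading.gradeCheck D (ht D) r = true
  pos : ∀ r < D.nroots, D.IsPosRoot r → 1 ≤ ht D r
  ii_ok : ∀ r < D.nroots, ii D r < D.rank ∧ (D.cartan (ii D r) r = 1 ∨ D.cartan (ii D r) r = -1)
  comm : ∀ r < D.nroots, ∀ s < D.nroots, s ≠ r → s ≠ D.neg r →
    (D.commTerms r s = [] ∧ add D r s = D.nroots) ∨
    (D.commTerms r s = [(add D r s, kap D r s, 1, 1)] ∧ add D r s < D.nroots ∧
      (kap D r s = 1 ∨ kap D r s = -1) ∧ ht D (add D r s) = ht D r + ht D s)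
  simple : ∀ i < D.rank, ht D (D.simple i) = 1
  comm_self : ∀ r < D.nroots, add D r r = D.nroots
  comm_neg : ∀ r < D.nroots, add D r (D.neg r) = D.nroots
  add_comm : ∀ r < D.nroots, ∀ s < D.nroots, add D r s = add D s r
  add_neg : ∀ r < D.nroots, ∀ s < D.nroots, add D r s < D.nroots → add D (add D r s) (D.neg r) = s

/-! ### Graded matrices -/

section Gr

variable {D : ChevalleyDatum} {K : Type u} [Field K]

/-- `A` is supported in degrees `≥ m`. -/
def Gr (m : ℤ) (A : Matrix D.Idx D.Idx K) : Prop := ∀ k l, wt D k - wt D l < m → A k l = 0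

theorem Gr.mono {m n : ℤ} {A : Matrix D.Idx D.Idx K} (h : Gr m A) (hnm : n ≤ m) : Gr n A :=
  fun k l hkl => h k l (by omega)

theorem Gr.add {m : ℤ} {A B : Matrix D.Idx D.Idx K} (hA : Gr m A) (hB : Gr m B) : Gr m (A + B) :=
  fun k l h => by rw [Matrix.add_apply, hA k l h, hB k l h, add_zero]

theorem Gr.neg {m : ℤ} {A : Matrix D.Idx D.Idx K} (hA : Gr m A) : Gr m (-A) :=
  fun k l h => by rw [Matrix.neg_apply, hA k l h, neg_zero]

theorem Gr.sub {m : ℤ} {A B : Matrix D.Idx D.Idx K} (hA : Gr m A) (hB : Gr m B) : Gr m (A - B) :=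
  fun k l h => by rw [Matrix.sub_apply, hA k l h, hB k l h, sub_zero]

theorem Gr.mul {m n : ℤ} {A B : Matrix D.Idx D.Idx K} (hA : Gr m A) (hB : Gr n B) : Gr (m + n) (A * B) := by
  intro k l h
  rw [Matrix.mul_apply]
  refine Finset.sum_eq_zero fun j _ => ?_
  by_cases h1 : wt D k - wt D j < m
  · rw [hA k j h1, zero_mul]
  · rw [hB j l (by omega), mul_zero]

theorem Gr.zero_one : Gr 0 (1 : Matrix D.Idx D.Idx K) := by
  intro k l h
  rw [Matrix.one_apply_ne]
  rintro rfl
  omega

theorem gr_zero (m : ℤ) : Gr m (0 : Matrix D.Idx D.Idx K) := fun _ _ _ => rfl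

theorem one_le_of_mem_chainCoeff {r s u : ℕ} {km : ℕ × ℤ} (h : km ∈ D.chainCoeff r s u) : 1 ≤ km.1 := by
  unfold ChevalleyDatum.chainCoeff at h
  rw [List.mem_flatMap] at h
  obtain ⟨e, _, h⟩ := h
  rw [List.mem_map] at h
  obtain ⟨q, _, rfl⟩ := h
  exact Nat.succ_pos _

theorem gr_xMat (h : SL D) (r : Fin D.nroots) (hr : 1 ≤ ht D r.val) (t : K) : Gr (ht D r.val) (D.xMat K r t - 1) := by
  have hg := h.gr r.val r.2
  have hneg : ht D (D.negIdx.getD r.val 0) = - ht D r.val := by
    unfold Grading.gradeCheck at hg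
    rw [Bool.and_eq_true] at hg
    exact of_decide_eq_true hg.1
  rintro (i | u) (j | s) hk
  · rw [Matrix.sub_apply, Columns.xMat_inl_inl, Matrix.one_apply]
    by_cases hij : i = j
    · subst hij; simp
    · simp [hij]
  · rw [Matrix.sub_apply, Columns.xMat_inl_inr, Matrix.one_apply_ne (by simp), sub_zero]
    by_cases hs : s = r
    · rw [if_pos hs]
    · rw [if_neg hs, if_neg]
      intro h1
      have h2 : (0 : ℤ) - ht D s.val < ht D r.val := hk
      rw [h1, hneg] at h2
      omega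
  · rw [Matrix.sub_apply, Columns.xMat_inr_inl, Matrix.one_apply_ne (by simp), sub_zero, if_neg]
    rintro rfl
    have h2 : ht D u.val - 0 < ht D u.val := hk
    omega
  · have h2 : ht D u.val - ht D s.val < ht D r.val := hk
    rw [Matrix.sub_apply]
    show (if s = r then (if u = r then (1 : K) else 0) else if s.val = D.negIdx.getD r.val 0 then
      (if u = s then (1 : K) else if u = r then -(t ^ 2) else 0) else (if u = s then (1 : K) else 0) +
             ((D.chainCoeff r.val s.val u.val).map fun km => ((km.2 : ℤ) : K) * t ^ km.1).sum) -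
        (1 : Matrix D.Idx D.Idx K) (Sum.inr u) (Sum.inr s) = 0
    have h1 : (1 : Matrix D.Idx D.Idx K) (Sum.inr u) (Sum.inr s) = if u = s then 1 else 0 := by
      rw [Matrix.one_apply]
      by_cases hus : u = s
      · simp [hus]
      · simp [hus]
    rw [h1]
    by_cases hs : s = r
    · rw [if_pos hs, hs, sub_self]
    · rw [if_neg hs]
      by_cases hn : s.val = D.negIdx.getD r.val 0
      · rw [if_pos hn]
        by_cases hus : u = s
        · rw [if_pos hus, if_pos hus, sub_self]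
        · rw [if_neg hus, if_neg hus, sub_zero, if_neg]
          rintro rfl
          rw [hn, hneg] at h2
          omega
      · rw [if_neg hn, add_sub_cancel_left]
        have : D.chainCoeff r.val s.val u.val = [] := by
          rw [List.eq_nil_iff_forall_not_mem]
          intro km hkm
          have h3 := Grading.chainCoeff_grade D (ht D) r.val hg s.val u.val km hkm
          have h4 := one_le_of_mem_chainCoeff hkm
          rw [h3] at h2
          have h5 : (1 : ℤ) ≤ (km.1 : ℤ) := by exact_mod_cast h4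
          nlinarith
        rw [this]
        rfl

end Gr

/-! ### Levels -/

section Lv

variable {D : ChevalleyDatum} {K : Type u} [Field K]

theorem gr_xG (hD : InList D) (h : SL D) {r : ℕ} (hr : D.IsPosRoot r) (t : K) :
    Gr (ht D r) ((xG hD r t : GL D.Idx K).val - 1) := by
  have := gr_xMat h ⟨r, hr.1⟩ (h.pos r hr.1 hr) t
  rwa [← x_of_lt hr.1] at this

theorem wordG_inv (hD : InList D) (w : List (ℕ × K)) :
    (wordG hD w)⁻¹ = wordG hD (w.map fun p => (p.1, -p.2)).reverse := by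
  induction w with
  | nil => simp [wordG_nil]
  | cons p w ih =>
    rw [wordG_cons, mul_inv_rev, ih, List.map_cons, List.reverse_cons, wordG_append, wordG_cons, wordG_nil,
      mul_one, xG_inv]

theorem gr_val (hD : InList D) (h : SL D) {g : GL D.Idx K} (hg : g ∈ D.posUnipotent K) : Gr 1 (g.val - 1) := by
  have key : ∀ a b : Matrix D.Idx D.Idx K, Gr 1 (a - 1) → Gr 1 (b - 1) → Gr 1 (a * b - 1) := by
    intro a b ha hb
    have e : a * b - 1 = (a - 1) * (b - 1) + ((a - 1) + (b - 1)) := by noncomm_ring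
    rw [e]
    exact ((ha.mul hb).mono (by norm_num)).add (ha.add hb)
  have key2 : ∀ w : List (ℕ × K), (∀ p ∈ w, D.IsPosRoot p.1) → Gr 1 ((wordG hD w : GL D.Idx K).val - 1) := by
    intro w
    induction w with
    | nil => intro _; rw [wordG_nil]; simpa using gr_zero (D := D) (K := K) 1
    | cons p w ih =>
      intro hw
      rw [wordG_cons, Units.val_mul]
      exact key _ _ ((gr_xG hD h (hw p List.mem_cons_self) p.2).mono (h.pos _ (hw p List.mem_cons_self).1
        (hw p List.mem_cons_self))) (ih fun q hq => hw q (List.mem_cons_of_mem _ hq))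
  have hex : ∃ w : List (ℕ × K), (∀ p ∈ w, D.IsPosRoot p.1) ∧ g = wordG hD w := by
    refine Subgroup.closure_induction (p := fun g _ => ∃ w : List (ℕ × K), (∀ p ∈ w, D.IsPosRoot p.1) ∧
      g = wordG hD w) ?_ ?_ ?_ ?_ hg
    · rintro g ⟨r, t, hr, hg⟩
      refine ⟨[(r, t)], by simpa using hr, ?_⟩
      rw [wordG_cons, wordG_nil, mul_one]
      exact Units.ext hg
    · exact ⟨[], by simp, rfl⟩
    · rintro _ _ _ _ ⟨w, hw, rfl⟩ ⟨w', hw', rfl⟩
      refine ⟨w ++ w', fun p hp => ?_, (wordG_append hD w w').symm⟩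
      rcases List.mem_append.1 hp with hp | hp
      · exact hw p hp
      · exact hw' p hp
    · rintro _ _ ⟨w, hw, rfl⟩
      refine ⟨(w.map fun p => (p.1, -p.2)).reverse, fun p hp => ?_, ?_⟩
      · obtain ⟨q, hq, rfl⟩ := List.mem_map.1 (List.mem_reverse.1 hp)
        exact hw q hq
      · exact wordG_inv hD w
  obtain ⟨w, hw, rfl⟩ := hex
  exact key2 w hw

theorem gr_val0 (hD : InList D) (h : SL D) {g : GL D.Idx K} (hg : g ∈ D.posUnipotent K) : Gr 0 g.val := by
  have e : g.val = (g.val - 1) + 1 := by abel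
  rw [e]
  exact ((gr_val hD h hg).mono (by norm_num)).add Gr.zero_one

/-- The elements of `U` with `g - 1` in degrees `≥ m`. -/
def Lv (K : Type u) [Field K] (hD : InList D) (h : SL D) (m : ℤ) : Subgroup (GL D.Idx K) where
  carrier := {g | g ∈ D.posUnipotent K ∧ Gr m (g.val - 1)}
  one_mem' := ⟨one_mem _, by simpa using gr_zero (D := D) (K := K) m⟩
  mul_mem' := by
    rintro a b ⟨ha, ha'⟩ ⟨hb, hb'⟩
    refine ⟨mul_mem ha hb, ?_⟩
    have e : (a * b : GL D.Idx K).val - 1 = (a.val - 1) * b.val + (b.val - 1) := by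
      rw [Units.val_mul]; noncomm_ring
    rw [e]
    exact ((ha'.mul (gr_val0 hD h hb)).mono (by omega)).add hb'
  inv_mem' := by
    rintro a ⟨ha, ha'⟩
    refine ⟨inv_mem ha, ?_⟩
    have e : (a⁻¹ : GL D.Idx K).val - 1 = -((a⁻¹ : GL D.Idx K).val * (a.val - 1)) := by
      rw [mul_sub, ← Units.val_mul, inv_mul_cancel, Units.val_one, mul_one, neg_sub]
    rw [e]
    exact (((gr_val0 hD h (inv_mem ha)).mul ha').mono (by omega)).neg

variable (hD : InList D) (h : SL D)

theorem mem_Lv {m : ℤ} {g : GL D.Idx K} : g ∈ Lv K hD h m ↔ g ∈ D.posUnipotent K ∧ Gr m (g.val - 1) := Iff.rfl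

theorem Lv_le (m : ℤ) : Lv K hD h m ≤ D.posUnipotent K := fun _ hg => hg.1

theorem Lv_anti {m n : ℤ} (hmn : m ≤ n) : Lv K hD h n ≤ Lv K hD h m := fun _ hg => ⟨hg.1, hg.2.mono hmn⟩

theorem Lv_one : Lv K hD h 1 = D.posUnipotent K :=
  le_antisymm (Lv_le hD h 1) fun _ hg => ⟨hg, gr_val hD h hg⟩

theorem xG_mem_Lv {r : ℕ} (hr : D.IsPosRoot r) (t : K) : xG hD r t ∈ Lv K hD h (ht D r) :=
  ⟨xG_mem_posUnipotent hD hr t, gr_xG hD h hr t⟩

theorem conj_mem_Lv {m : ℤ} {g v : GL D.Idx K} (hg : g ∈ Lv K hD h m) (hv : v ∈ D.posUnipotent K) :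
    v * g * v⁻¹ ∈ Lv K hD h m := by
  refine ⟨mul_mem (mul_mem hv hg.1) (inv_mem hv), ?_⟩
  have e : (v * g * v⁻¹ : GL D.Idx K).val - 1 = v.val * (g.val - 1) * (v⁻¹ : GL D.Idx K).val := by
    rw [mul_sub, sub_mul, mul_one, ← Units.val_mul, ← Units.val_mul, ← Units.val_mul, mul_inv_cancel, Units.val_one]
  rw [e]
  exact (((gr_val0 hD h hv).mul hg.2).mul (gr_val0 hD h (inv_mem hv))).mono (by omega)

theorem comm_val (a b : GL D.Idx K) :
    (⁅a, b⁆ : GL D.Idx K).val - 1 =
      ((a.val - 1) * (b.val - 1) - (b.val - 1) * (a.val - 1)) * (a⁻¹ * b⁻¹ : GL D.Idx K).val := by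
  have e1 : (a.val - 1) * (b.val - 1) - (b.val - 1) * (a.val - 1) = (a * b : GL D.Idx K).val - (b * a : GL D.Idx K).val := by
    rw [Units.val_mul, Units.val_mul]
    noncomm_ring
  rw [e1, sub_mul, ← Units.val_mul, ← Units.val_mul]
  have e2 : b * a * (a⁻¹ * b⁻¹) = 1 := by group
  have e3 : a * b * (a⁻¹ * b⁻¹) = ⁅a, b⁆ := by rw [commutatorElement_def]; group
  rw [e2, e3, Units.val_one]

theorem comm_mem_Lv {m n : ℤ} {a b : GL D.Idx K} (ha : a ∈ Lv K hD h m) (hb : b ∈ Lv K hD h n) :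
    ⁅a, b⁆ ∈ Lv K hD h (m + n) := by
  refine ⟨?_, ?_⟩
  · rw [commutatorElement_def]
    exact mul_mem (mul_mem (mul_mem ha.1 hb.1) (inv_mem ha.1)) (inv_mem hb.1)
  · rw [comm_val]
    have h1 : Gr (m + n) ((a.val - 1) * (b.val - 1) - (b.val - 1) * (a.val - 1)) :=
      (ha.2.mul hb.2).sub ((hb.2.mul ha.2).mono (by omega))
    exact (h1.mul (gr_val0 hD h (mul_mem (inv_mem ha.1) (inv_mem hb.1)))).mono (by omega)

/-! ### Coordinates -/

/-- an entry with natural number indices -/
noncomputable def ent (A : Matrix D.Idx D.Idx K) (r i : ℕ) : K :=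
  if h : r < D.nroots ∧ i < D.rank then A (Sum.inr ⟨r, h.1⟩) (Sum.inl ⟨i, h.2⟩) else 0

/-- the linear form giving the coordinate at `r` -/
noncomputable def lin (r : ℕ) (A : Matrix D.Idx D.Idx K) : K := -((D.cartan (ii D r) r : ℤ) : K) * ent A r (ii D r)

/-- the coordinate at `r` -/
noncomputable def cf (r : ℕ) (g : GL D.Idx K) : K := lin r g.val

theorem lin_add (r : ℕ) (A B : Matrix D.Idx D.Idx K) : lin r (A + B) = lin r A + lin r B := by
  unfold lin ent
  split_ifs
  · rw [Matrix.add_apply]; ring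
  · ring

theorem lin_sub (r : ℕ) (A B : Matrix D.Idx D.Idx K) : lin r (A - B) = lin r A - lin r B := by
  unfold lin ent
  split_ifs
  · rw [Matrix.sub_apply]; ring
  · ring

theorem lin_one (r : ℕ) : lin r (1 : Matrix D.Idx D.Idx K) = 0 := by
  unfold lin ent
  split_ifs
  · rw [Matrix.one_apply_ne (by simp), mul_zero]
  · ring

theorem lin_gr {r : ℕ} {m : ℤ} {A : Matrix D.Idx D.Idx K} (hA : Gr m A) (hr : ht D r < m) : lin r A = 0 := by
  unfold lin ent
  split_ifs with h1
  · rw [hA _ _ (by show ht D r - 0 < m; omega), mul_zero]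
  · ring

theorem cf_eq (r : ℕ) (g : GL D.Idx K) : cf r g = lin r (g.val - 1) := by
  unfold cf
  rw [lin_sub, lin_one, sub_zero]

theorem cf_one (r : ℕ) : cf r (1 : GL D.Idx K) = 0 := lin_one r

include h in
theorem cf_xG {r s : ℕ} (hr : r < D.nroots) (hs : s < D.nroots) (t : K) :
    cf r (xG hD s t) = if r = s then t else 0 := by
  obtain ⟨h1, h2⟩ := h.ii_ok r hr
  unfold cf lin ent
  rw [dif_pos ⟨hr, h1⟩, coe_xG, x_of_lt hs, Columns.xMat_inr_inl]
  by_cases hrs : r = s
  · subst hrs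
    rw [if_pos rfl, if_pos rfl]
    have e : ((Columns.car D (ii D r) r : ℤ) : K) = ((D.cartan (ii D r) r : ℤ) : K) := rfl
    rw [e]
    rcases h2 with h2 | h2 <;> rw [h2] <;> push_cast <;> ring
  · rw [if_neg hrs, if_neg (fun e => hrs (congrArg Fin.val e)), mul_zero]

theorem cf_Lv {r : ℕ} {m : ℤ} {g : GL D.Idx K} (hg : g ∈ Lv K hD h m) (hr : ht D r < m) : cf r g = 0 := by
  rw [cf_eq]
  exact lin_gr hg.2 hr

theorem cf_mul {r : ℕ} {m n : ℤ} {a b : GL D.Idx K} (ha : a ∈ Lv K hD h m) (hb : b ∈ Lv K hD h n)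
    (hr : ht D r < m + n) : cf r (a * b) = cf r a + cf r b := by
  rw [cf_eq, cf_eq, cf_eq]
  have e : (a * b : GL D.Idx K).val - 1 = (a.val - 1) * (b.val - 1) + ((a.val - 1) + (b.val - 1)) := by
    rw [Units.val_mul]; noncomm_ring
  rw [e, lin_add, lin_add, lin_gr (ha.2.mul hb.2) hr, zero_add]

/-- additivity, left factor at level `≥ ht r` -/
theorem cf_mul_left {r : ℕ} {a b : GL D.Idx K} (ha : a ∈ Lv K hD h (ht D r)) (hb : b ∈ D.posUnipotent K) :
    cf r (a * b) = cf r a + cf r b :=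
  cf_mul hD h ha (by rw [Lv_one]; exact hb) (by omega)

theorem cf_mul_right {r : ℕ} {a b : GL D.Idx K} (ha : a ∈ D.posUnipotent K) (hb : b ∈ Lv K hD h (ht D r)) :
    cf r (a * b) = cf r a + cf r b :=
  cf_mul hD h (m := 1) (by rw [Lv_one]; exact ha) hb (by omega)

theorem cf_inv {r : ℕ} {a : GL D.Idx K} (ha : a ∈ Lv K hD h (ht D r)) : cf r a⁻¹ = - cf r a := by
  have h1 := cf_mul_left hD h (r := r) ha (inv_mem (Lv_le hD h _ ha))
  rw [mul_inv_cancel, cf_one] at h1
  linear_combination -h1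

theorem cf_conj {r : ℕ} {a v : GL D.Idx K} (ha : a ∈ Lv K hD h (ht D r)) (hv : v ∈ D.posUnipotent K) :
    cf r (v * a * v⁻¹) = cf r a := by
  have h1 := cf_mul_left hD h (r := r) (conj_mem_Lv hD h ha hv) hv
  rw [inv_mul_cancel_right, cf_mul_right hD h hv ha] at h1
  linear_combination -h1

theorem cf_comm {r : ℕ} {m n : ℤ} {a b : GL D.Idx K} (ha : a ∈ Lv K hD h m) (hb : b ∈ Lv K hD h n)
    (hr : ht D r = m + n) :
    cf r ⁅a, b⁆ = lin r ((a.val - 1) * (b.val - 1) - (b.val - 1) * (a.val - 1)) := by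
  rw [cf_eq, comm_val]
  have h1 : Gr (m + n) ((a.val - 1) * (b.val - 1) - (b.val - 1) * (a.val - 1)) :=
    (ha.2.mul hb.2).sub ((hb.2.mul ha.2).mono (by omega))
  have h2 : Gr 1 ((a⁻¹ * b⁻¹ : GL D.Idx K).val - 1) := gr_val hD h (mul_mem (inv_mem ha.1) (inv_mem hb.1))
  generalize (a.val - 1) * (b.val - 1) - (b.val - 1) * (a.val - 1) = C at h1 ⊢
  have e : C * (a⁻¹ * b⁻¹ : GL D.Idx K).val = C * ((a⁻¹ * b⁻¹ : GL D.Idx K).val - 1) + C := by
    rw [mul_sub, mul_one, sub_add_cancel]
  rw [e, lin_add, lin_gr (h1.mul h2) (by omega), zero_add]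

theorem cf_comm_mul_right {r : ℕ} {m n : ℤ} {a b b' : GL D.Idx K} (ha : a ∈ Lv K hD h m) (hb : b ∈ Lv K hD h n)
    (hb' : b' ∈ Lv K hD h n) (hn : 1 ≤ n) (hr : ht D r = m + n) : cf r ⁅a, b * b'⁆ = cf r ⁅a, b⁆ + cf r ⁅a, b'⁆ := by
  rw [cf_comm hD h ha (mul_mem hb hb') hr, cf_comm hD h ha hb hr, cf_comm hD h ha hb' hr, Units.val_mul, ← lin_add]
  have e : (a.val - 1) * (b.val * b'.val - 1) - (b.val * b'.val - 1) * (a.val - 1) =
      ((a.val - 1) * ((b.val - 1) * (b'.val - 1)) - (b.val - 1) * (b'.val - 1) * (a.val - 1)) +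
      (((a.val - 1) * (b.val - 1) - (b.val - 1) * (a.val - 1)) +
        ((a.val - 1) * (b'.val - 1) - (b'.val - 1) * (a.val - 1))) := by noncomm_ring
  rw [e, lin_add, lin_gr (m := m + (n + n)) _ (by omega), zero_add]
  exact (ha.2.mul (hb.2.mul hb'.2)).sub (((hb.2.mul hb'.2).mul ha.2).mono (by omega))

theorem cf_comm_mul_left {r : ℕ} {m n : ℤ} {a a' b : GL D.Idx K} (ha : a ∈ Lv K hD h m) (ha' : a' ∈ Lv K hD h m)
    (hb : b ∈ Lv K hD h n) (hm : 1 ≤ m) (hr : ht D r = m + n) : cf r ⁅a * a', b⁆ = cf r ⁅a, b⁆ + cf r ⁅a', b⁆ := by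
  rw [cf_comm hD h (mul_mem ha ha') hb hr, cf_comm hD h ha hb hr, cf_comm hD h ha' hb hr, Units.val_mul, ← lin_add]
  have e : (a.val * a'.val - 1) * (b.val - 1) - (b.val - 1) * (a.val * a'.val - 1) =
      ((a.val - 1) * (a'.val - 1) * (b.val - 1) - (b.val - 1) * ((a.val - 1) * (a'.val - 1))) +
      (((a.val - 1) * (b.val - 1) - (b.val - 1) * (a.val - 1)) +
        ((a'.val - 1) * (b.val - 1) - (b.val - 1) * (a'.val - 1))) := by noncomm_ring
  rw [e, lin_add, lin_gr (m := m + m + n) _ (by omega), zero_add]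
  exact ((ha.2.mul ha'.2).mul hb.2).sub ((hb.2.mul (ha.2.mul ha'.2)).mono (by omega))

/-! ### Root elements -/

include h in
theorem ht_neg {r : ℕ} (hr : r < D.nroots) : ht D (D.neg r) = - ht D r := by
  have hg := h.gr r hr
  unfold Grading.gradeCheck at hg
  rw [Bool.and_eq_true] at hg
  exact of_decide_eq_true hg.1

include hD h in
theorem pos_iff_ht {r : ℕ} (hr : r < D.nroots) : D.IsPosRoot r ↔ 0 < ht D r := by
  have G := RootComb.good_of_mem hD
  constructor
  · intro h1
    have := h.pos r hr h1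
    omega
  · intro h1
    rcases RootWord.pos_or_neg G hr with h2 | h2
    · exact h2
    · have h3 := h.pos _ (RootWord.neg_lt G hr) ((RootWord.isPosRoot_neg G hr).2 h2)
      rw [ht_neg h hr] at h3
      omega

include h in
/-- the commutator formula -/
theorem comm_X {r s : ℕ} (hr : r < D.nroots) (hs : s < D.nroots) (hrs : s ≠ r) (hneg : s ≠ D.neg r) (t u : K) :
    ⁅(xG hD r t : GL D.Idx K), xG hD s u⁆ =
      xG hD s u * xG hD (add D r s) ((kap D r s : K) * (t * u)) * (xG hD s u)⁻¹ := by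
  have h1 : xG hD s u * xG hD r (-t) = xG hD r (-t) * xG hD s u * wordG hD (D.commWord K r s (-t) u) := by
    apply Units.ext
    rw [Units.val_mul, Units.val_mul, Units.val_mul, coe_wordG]
    exact Cfsg.Agent.S1025.result D hD r s hr hs hrs hneg (-t) u
  have h2 : wordG hD (D.commWord K r s (-t) u) = xG hD (add D r s) ((kap D r s : K) * (t * u)) := by
    unfold ChevalleyDatum.commWord
    rcases h.comm r hr s hs hrs hneg with ⟨h3, h4⟩ | ⟨h3, -, -, -⟩
    · rw [h4, h3, xG_of_not_lt hD (by omega)]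
      rfl
    · rw [h3, List.map_cons, List.map_nil, wordG_cons, wordG_nil, mul_one]
      congr 1
      rw [pow_one, pow_one, neg_neg, mul_assoc]
  rw [h2] at h1
  have h3 : (xG hD r (-t) : GL D.Idx K) = (xG hD r t)⁻¹ := (xG_inv hD r t).symm
  rw [h3] at h1
  rw [commutatorElement_def, mul_assoc (xG hD r t), h1]
  group

include h in
theorem cf_comm_X {r s γ : ℕ} (hr : D.IsPosRoot r) (hs : D.IsPosRoot s) (hγ : γ < D.nroots)
    (hht : ht D γ = ht D r + ht D s) (t u : K) :
    cf γ ⁅(xG hD r t : GL D.Idx K), xG hD s u⁆ = if add D r s = γ then (kap D r s : K) * (t * u) else 0 := by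
  by_cases hrs : s = r
  · subst hrs
    rw [if_neg (by rw [h.comm_self s hs.1]; omega), commutatorElement_def, xG_add, xG_inv, xG_inv, xG_add, xG_add]
    have e : t + u + -t + -u = 0 := by ring
    rw [e, xG_zero, cf_one]
  have G := RootComb.good_of_mem hD
  have hneg : s ≠ D.neg r := by
    rintro rfl
    exact RootWord.not_pos_of_neg G ((RootWord.isNegRoot_neg G hr.1).2 hr) hs
  rw [comm_X hD h hr.1 hs.1 hrs hneg]
  rcases h.comm r hr.1 s hs.1 hrs hneg with ⟨-, h4⟩ | ⟨-, h4, -, h5⟩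
  · rw [h4, xG_of_not_lt hD (lt_irrefl D.nroots), mul_one, mul_inv_cancel, cf_one, if_neg (by omega)]
  · have hp : D.IsPosRoot (add D r s) := by
      rw [pos_iff_ht hD h h4, h5]
      have := (pos_iff_ht hD h hr.1).1 hr
      have := (pos_iff_ht hD h hs.1).1 hs
      omega
    have h6 := xG_mem_Lv (K := K) hD h hp ((kap D r s : K) * (t * u))
    rw [cf_conj hD h (by rw [hht, ← h5]; exact h6) (xG_mem_posUnipotent hD hs u), cf_xG hD h hγ h4]
    by_cases he : add D r s = γ
    · rw [if_pos he, if_pos he.symm]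
    · rw [if_neg he, if_neg (Ne.symm he)]

/-! ### Ordered products -/

theorem lprod_mem_Lv {k : ℤ} {l : List ℕ} {f : ℕ → K} (hl : ∀ s ∈ l, xG hD s (f s) ∈ Lv K hD h k) :
    lprod (xG hD) l f ∈ Lv K hD h k := lprod_mem _ hl

theorem cf_lprod {k : ℤ} {r : ℕ} (hr : ht D r = k) {l : List ℕ} {f : ℕ → K}
    (hl : ∀ s ∈ l, xG hD s (f s) ∈ Lv K hD h k) :
    cf r (lprod (xG hD) l f) = (l.map fun s => cf r (xG hD s (f s) : GL D.Idx K)).sum := by
  induction l with
  | nil => rw [lprod_nil, cf_one]; rfl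
  | cons a l ih =>
    have h1 := ih fun s hs => hl s (List.mem_cons_of_mem _ hs)
    rw [lprod_cons, cf_mul_left hD h (by rw [hr]; exact hl a List.mem_cons_self)
      (lprod_mem _ fun s hs => (hl s (List.mem_cons_of_mem _ hs)).1), h1, List.map_cons, List.sum_cons]

/-- a list of the positive roots giving the ordered products -/
structure Ord (K : Type u) [Field K] (hD : InList D) (L : List ℕ) : Prop where
  nodup : L.Nodup
  mem : ∀ r, r ∈ L ↔ D.IsPosRoot r
  ex : ∀ g ∈ D.posUnipotent K, ∃ f : ℕ → K, g = lprod (xG hD) L f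

variable {L : List ℕ} (O : Ord K hD L)

theorem sum_map_ite {l : List ℕ} (hl : l.Nodup) {r : ℕ} (hr : r ∈ l) (f : ℕ → K) :
    (l.map fun s => if r = s then f s else 0).sum = f r := by
  rw [← List.sum_toFinset _ hl, Finset.sum_ite_eq, if_pos (List.mem_toFinset.2 hr)]

include O in
theorem cf_lprod_L {k : ℤ} {r : ℕ} (hr : ht D r = k) (hp : D.IsPosRoot r) {f : ℕ → K}
    (hl : ∀ s ∈ L, xG hD s (f s) ∈ Lv K hD h k) : cf r (lprod (xG hD) L f) = f r := by
  rw [cf_lprod hD h hr hl]
  have e : (L.map fun s => cf r (xG hD s (f s) : GL D.Idx K)) = L.map fun s => if r = s then f s else 0 := by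
    refine List.map_congr_left fun s hs => ?_
    exact cf_xG hD h hp.1 ((O.mem s).1 hs).1 _
  rw [e, sum_map_ite O.nodup ((O.mem r).2 hp)]

include O in
/-- An element of `Lv m` without coordinates at height `m` lies in `Lv (m+1)`. -/
theorem mem_Lv_succ {m : ℤ} {g : GL D.Idx K} (hg : g ∈ Lv K hD h m)
    (hc : ∀ r, D.IsPosRoot r → ht D r = m → cf r g = 0) : g ∈ Lv K hD h (m + 1) := by
  obtain ⟨f, rfl⟩ := O.ex g hg.1
  have key : ∀ n : ℕ, (n : ℤ) ≤ m + 1 → ∀ s ∈ L, xG hD s (f s) ∈ Lv K hD h n := by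
    intro n
    induction n with
    | zero =>
      intro _ s hs
      exact Lv_anti hD h (by have := h.pos s ((O.mem s).1 hs).1 ((O.mem s).1 hs); push_cast; omega)
        (xG_mem_Lv hD h ((O.mem s).1 hs) (f s))
    | succ n ih =>
      intro hn s hs
      push_cast at hn ⊢
      have ih' := ih (by omega)
      have hp := (O.mem s).1 hs
      by_cases hsn : ht D s = n
      · have h1 := cf_lprod_L hD h O hsn hp ih'
        have h2 : cf s (lprod (xG hD) L f : GL D.Idx K) = 0 := by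
          by_cases hnm : (n : ℤ) = m
          · exact hc s hp (by omega)
          · exact cf_Lv hD h hg (by omega)
        rw [h2] at h1
        rw [← h1, xG_zero]
        exact one_mem _
      · by_cases hlt : ht D s < n
        · have h1 := cf_Lv hD h (ih' s hs) hlt
          rw [cf_xG hD h hp.1 hp.1, if_pos rfl] at h1
          rw [h1, xG_zero]
          exact one_mem _
        · exact Lv_anti hD h (by omega) (xG_mem_Lv hD h hp (f s))
  by_cases hm : 0 ≤ m + 1
  · obtain ⟨n, hn⟩ := Int.eq_ofNat_of_zero_le hm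
    rw [hn]
    exact lprod_mem_Lv hD h (key n (by omega))
  · exact Lv_anti hD h (by omega) (by rw [Lv_one]; exact hg.1 : _ ∈ Lv K hD h 1)

/-- the leading part of `g` at level `m` -/
noncomputable def lead (L : List ℕ) (m : ℤ) (g : GL D.Idx K) : GL D.Idx K :=
  lprod (xG hD) L fun s => if ht D s = m then cf s g else 0

include O in
theorem lead_factor_mem (m : ℤ) (g : GL D.Idx K) : ∀ s ∈ L,
    xG hD s (if ht D s = m then cf s g else 0) ∈ Lv K hD h m := by
  intro s hs
  by_cases e : ht D s = m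
  · rw [if_pos e, ← e]
    exact xG_mem_Lv hD h ((O.mem s).1 hs) _
  · rw [if_neg e, xG_zero]
    exact one_mem _

include O in
theorem lead_mem (m : ℤ) (g : GL D.Idx K) : lead hD L m g ∈ Lv K hD h m :=
  lprod_mem_Lv hD h (lead_factor_mem hD h O m g)

include O h in
theorem cf_lead {r : ℕ} (hp : D.IsPosRoot r) (g : GL D.Idx K) : cf r (lead hD L (ht D r) g) = cf r g := by
  have := cf_lprod_L hD h O (r := r) rfl hp (lead_factor_mem hD h O (ht D r) g)
  rw [if_pos rfl] at this
  exact this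

include O in
theorem lead_inv_mul_mem {m : ℤ} {g : GL D.Idx K} (hg : g ∈ Lv K hD h m) :
    (lead hD L m g)⁻¹ * g ∈ Lv K hD h (m + 1) := by
  refine mem_Lv_succ hD h O (mul_mem (inv_mem (lead_mem hD h O m g)) hg) fun r hp hr => ?_
  subst hr
  rw [cf_mul_right hD h (inv_mem (lead_mem hD h O _ g)).1 hg, cf_inv hD h (lead_mem hD h O _ g), cf_lead hD h O hp]
  ring

theorem cf_comm_lprod {r : ℕ} {m n : ℤ} {a : GL D.Idx K} (ha : a ∈ Lv K hD h m) (hn : 1 ≤ n)
    (hr : ht D r = m + n) {l : List ℕ} {f : ℕ → K} (hl : ∀ s ∈ l, xG hD s (f s) ∈ Lv K hD h n) :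
    cf r ⁅a, lprod (xG hD) l f⁆ = (l.map fun s => cf r ⁅a, xG hD s (f s)⁆).sum := by
  induction l with
  | nil => rw [lprod_nil, commutatorElement_one_right, cf_one]; rfl
  | cons b l ih =>
    have h1 := ih fun s hs => hl s (List.mem_cons_of_mem _ hs)
    rw [lprod_cons, cf_comm_mul_right hD h ha (hl b List.mem_cons_self)
      (lprod_mem_Lv hD h fun s hs => hl s (List.mem_cons_of_mem _ hs)) hn hr, h1, List.map_cons, List.sum_cons]

theorem cf_comm_zero_right {r : ℕ} {m n : ℤ} {a b : GL D.Idx K} (ha : a ∈ Lv K hD h m) (hb : b ∈ Lv K hD h n)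
    (hr : ht D r < m + n) : cf r ⁅a, b⁆ = 0 := cf_Lv hD h (comm_mem_Lv hD h ha hb) hr

include O in
/-- the coordinates of a commutator, second factor expanded -/
theorem cf_comm_right {r : ℕ} {m n : ℤ} {a b : GL D.Idx K} (ha : a ∈ Lv K hD h m) (hb : b ∈ Lv K hD h n)
    (hn : 1 ≤ n) (hr : ht D r = m + n) :
    cf r ⁅a, b⁆ = (L.map fun s => cf r ⁅a, xG hD s (if ht D s = n then cf s b else 0)⁆).sum := by
  have e : b = lead hD L n b * ((lead hD L n b)⁻¹ * b) := by group
  have h1 := lead_inv_mul_mem hD h O hb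
  conv_lhs => rw [e]
  rw [cf_comm_mul_right hD h ha (lead_mem hD h O n b) (Lv_anti hD h (by omega) h1) hn hr,
    cf_comm_zero_right hD h ha h1 (by omega), add_zero]
  exact cf_comm_lprod hD h ha hn hr (lead_factor_mem hD h O n b)

include O in
/-- commutator of a root element with an element of `Lv n` -/
theorem cf_comm_X_left {j γ : ℕ} {n : ℤ} {b : GL D.Idx K} (hj : D.IsPosRoot j) (hb : b ∈ Lv K hD h n) (hn : 1 ≤ n)
    (hγ : D.IsPosRoot γ) (hr : ht D γ = ht D j + n) (t : K) :
    cf γ ⁅(xG hD j t : GL D.Idx K), b⁆ = ∑ s ∈ L.toFinset, if add D j s = γ then (kap D j s : K) * (t * cf s b) else 0 := by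
  rw [cf_comm_right hD h O (xG_mem_Lv hD h hj t) hb hn hr, List.sum_toFinset _ O.nodup]
  congr 1
  refine List.map_congr_left fun s hs => ?_
  have hs' := (O.mem s).1 hs
  by_cases e : ht D s = n
  · rw [if_pos e, cf_comm_X hD h hj hs' hγ.1 (by rw [hr, e])]
  · rw [if_neg e, xG_zero, commutatorElement_one_right, cf_one, if_neg]
    intro he
    apply e
    by_cases hsj : s = j
    · subst hsj
      rw [h.comm_self s hs'.1] at he
      have := hγ.1
      omega
    have G := RootComb.good_of_mem hD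
    have hneg : s ≠ D.neg j := by
      rintro rfl
      exact RootWord.not_pos_of_neg G ((RootWord.isNegRoot_neg G hj.1).2 hj) hs'
    rcases h.comm j hj.1 s hs'.1 hsj hneg with ⟨-, h4⟩ | ⟨-, h4, -, h5⟩
    · have := hγ.1
      omega
    · rw [he] at h5
      omega

end Lv

end Cfsg.Agent.H82.Level
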