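import Cfsg.Agent.H902.Nice

/-!
# S3538, T4 (task 1796 of helper78): `|L_n(q)| = k |S|`, `S` sporadic or the Tits group, `4 k < |S|`
-/

set_option autoImplicit false

namespace Cfsg.Agent.H82.SporNum

open Cfsg Cfsg.Agent Cfsg.Agent.H902 Finset

/-- `∏_{i < k} (q ^ (i + 2) - 1)` -/
def numL : ℕ → ℕ → ℕ
  | 0, _ => 1
  | k + 1, q => numL k q * (q ^ (k + 2) - 1)

theorem numL_eq (k q : ℕ) : numL k q = ∏ i ∈ range k, (q ^ (i + 2) - 1) := by
  induction k with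
  | zero => rfl
  | succ k ih => rw [numL, ih, prod_range_succ]

/-- the order of `L_n(q)` -/
def ordL (n q : ℕ) : ℕ := q ^ (n * (n - 1) / 2) * numL (n - 1) q / Nat.gcd n (q - 1)

theorem ordL_eq {n p f M : ℕ} (h : Art.Real (.L n) p f M) : ordL n (p ^ f) = M := by
  have h1 := Art.val_eq h
  rw [← h1]
  unfold ordL Art.val
  rw [numL_eq]
  rfl

/-- the primes -/
def prs : List ℕ := [2, 3, 5, 7, 11, 13, 17, 19, 23, 29, 31, 37, 41, 43, 47, 59, 67, 71]

/-- the pairs `(n, f)` -/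
def pairs : List (ℕ × ℕ) :=
  (List.range 28).flatMap fun n => ((List.range 60).filter fun f =>
    Nat.ble 4 n && Nat.ble 1 f && Nat.ble (f * (n * (n - 1) / 2)) 358).map fun f => (n, f)

/-- the check for one group and one prime -/
def chk (N p : ℕ) : Bool :=
  pairs.all fun y => Nat.ble (N ^ 2) (4 * p ^ (y.2 * (y.1 * (y.1 - 1) / 2))) ||
    (let M := ordL y.1 (p ^ y.2)
     !(Nat.beq (M % N) 0) || Nat.ble (N ^ 2) (4 * M) ||
      (Nat.beq N 604800 && Nat.beq (M / N) 1632 && Nat.beq y.1 4 && Nat.beq (p ^ y.2) 4))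

set_option maxRecDepth 100000 in
theorem chk_all : (OrdDiv.spor.all fun x => prs.all fun p => !(Nat.beq (x.2 % p) 0) || chk x.2 p) = true := by
  decide +kernel

theorem mem_prs {x : OrdDiv.Grp × ℕ} (hx : x ∈ OrdDiv.spor) {p : ℕ} (hp : p.Prime) (h : p ∣ x.2) : p ∈ prs := by
  have h1 : ∀ x ∈ OrdDiv.spor, x.2 ∣ (prs.map fun l => l ^ 50).prod := by decide +kernel
  have h2 := h.trans (h1 x hx)
  rw [Prime.dvd_prod_iff hp.prime] at h2
  obtain ⟨a, ha, h3⟩ := h2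
  obtain ⟨l, hl, rfl⟩ := List.mem_map.1 ha
  have h4 : ∀ l ∈ prs, l.Prime := by
    intro l hl
    simp only [prs, List.mem_cons, List.not_mem_nil, or_false] at hl
    rcases hl with rfl | rfl | rfl | rfl | rfl | rfl | rfl | rfl | rfl | rfl | rfl | rfl | rfl | rfl | rfl | rfl | rfl |
      rfl <;> norm_num
  rw [(Nat.prime_dvd_prime_iff_eq hp (h4 l hl)).1 (hp.dvd_of_dvd_pow h3)]
  exact hl

theorem mem_pairs {n f : ℕ} (hn : 4 ≤ n) (hf : 1 ≤ f) (h : f * (n * (n - 1) / 2) ≤ 358) : (n, f) ∈ pairs := by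
  have h6 : 6 ≤ n * (n - 1) / 2 := by
    rw [Nat.le_div_iff_mul_le (by norm_num)]
    calc 6 * 2 = 4 * 3 := by norm_num
      _ ≤ n * (n - 1) := Nat.mul_le_mul hn (by omega)
  have hf60 : f < 60 := by
    by_contra hcon
    have : 60 * 6 ≤ f * (n * (n - 1) / 2) := Nat.mul_le_mul (by omega) h6
    omega
  have hn28 : n < 28 := by
    by_contra hcon
    have h7 : 378 ≤ n * (n - 1) / 2 := by
      rw [Nat.le_div_iff_mul_le (by norm_num)]
      calc 378 * 2 = 28 * 27 := by norm_num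
        _ ≤ n * (n - 1) := Nat.mul_le_mul (by omega) (by omega)
    have : 1 * (n * (n - 1) / 2) ≤ f * (n * (n - 1) / 2) := Nat.mul_le_mul_right _ hf
    omega
  unfold pairs
  rw [List.mem_flatMap]
  refine ⟨n, List.mem_range.2 hn28, List.mem_map.2 ⟨f, List.mem_filter.2 ⟨List.mem_range.2 hf60, ?_⟩, rfl⟩⟩
  rw [Bool.and_eq_true, Bool.and_eq_true, Nat.ble_eq, Nat.ble_eq, Nat.ble_eq]
  exact ⟨⟨hn, hf⟩, h⟩

/-- **T4.** -/
theorem spor_num {n p f M k : ℕ} {x : OrdDiv.Grp × ℕ} (hx : x ∈ OrdDiv.spor) (hn : 4 ≤ n)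
    (h : Art.Real (.L n) p f M) (hM : M = k * x.2) (hk : 4 * k < x.2) (hp : p ∣ x.2) :
    x.1 = .j2 ∧ k = 1632 ∧ n = 4 ∧ p ^ f = 4 := by
  have hx0 : 0 < x.2 := by omega
  have hMN : 4 * M < x.2 ^ 2 := by
    rw [hM, pow_two, ← mul_assoc]
    exact (Nat.mul_lt_mul_right hx0).2 hk
  have hM0 : M ≠ 0 := by
    intro h0
    have h1 := h.eq
    rw [h0, mul_zero] at h1
    have h2 : 0 < (p ^ f) ^ Art.NN (.L n) := pow_pos (pow_pos h.hp.pos _) _
    have h3 : 0 < Art.num (.L n) (p ^ f) := by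
      refine Finset.prod_pos fun i _ => ?_
      have h4 : 2 ≤ p ^ f := h.hp.two_le.trans (Nat.le_self_pow (by have := h.hf; omega) p)
      have h5 : 1 < (p ^ f) ^ (i + 2) := Nat.one_lt_pow (by omega) h4
      omega
    exact absurd h1 (Nat.mul_pos h2 h3).ne
  have hv : p ^ (f * (n * (n - 1) / 2)) ≤ M := by
    have h1 := h.P_self
    rw [Art.P] at h1
    have h2 : p ^ M.factorization p ∣ M := Nat.ordProj_dvd M p
    rw [h1] at h2
    rw [pow_mul]
    exact Nat.le_of_dvd (Nat.pos_of_ne_zero hM0) h2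
  have hbig : ∀ x ∈ OrdDiv.spor, x.2 ^ 2 ≤ 4 * 2 ^ 358 := by decide +kernel
  have hv2 : f * (n * (n - 1) / 2) ≤ 358 := by
    by_contra hcon
    have h1 : 2 ^ 358 ≤ p ^ (f * (n * (n - 1) / 2)) :=
      (Nat.pow_le_pow_right (by norm_num) (not_le.1 hcon).le).trans (Nat.pow_le_pow_left h.hp.two_le _)
    have h2 := hbig x hx
    generalize 2 ^ 358 = Z at h1 h2
    omega
  have h1 := chk_all
  rw [List.all_eq_true] at h1
  have h2 := h1 x hx
  rw [List.all_eq_true] at h2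
  have h3 := h2 p (mem_prs hx h.hp hp)
  have e1 : Nat.beq (x.2 % p) 0 = true := by rw [Nat.mod_eq_zero_of_dvd hp]; rfl
  rw [e1, Bool.not_true, Bool.false_or, chk, List.all_eq_true] at h3
  have h4 := h3 (n, f) (mem_pairs hn h.hf hv2)
  simp only [Bool.or_eq_true, Bool.and_eq_true, Nat.ble_eq, Bool.not_eq_true',
    ordL_eq h] at h4
  rcases h4 with h4 | (h4 | h4) | h4
  · omega
  · exfalso
    have : Nat.beq (M % x.2) 0 = true := by
      rw [hM, Nat.mul_mod_left]; rfl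
    rw [this] at h4
    exact absurd h4 (by simp)
  · omega
  · obtain ⟨⟨⟨h5, h6⟩, h7⟩, h8⟩ := h4
    replace h5 := Nat.eq_of_beq_eq_true h5
    replace h6 := Nat.eq_of_beq_eq_true h6
    replace h7 := Nat.eq_of_beq_eq_true h7
    replace h8 := Nat.eq_of_beq_eq_true h8
    have h9 : ∀ x ∈ OrdDiv.spor, x.2 = 604800 → x.1 = .j2 := by decide +kernel
    refine ⟨h9 x hx h5, ?_, h7, h8⟩
    rw [← h6, hM, Nat.mul_div_cancel _ hx0]

end Cfsg.Agent.H82.SporNum
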