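/-
# Table of ranks of `∏ x_r(1) - 1` over fields of characteristic two (type `E₈`)
-/
import Cfsg.Agent.H82.RankTab

set_option autoImplicit false

namespace Cfsg.Agent.H82.RankTabE8

open Cfsg.Lie Cfsg.Agent.H82.Rank

theorem e8a : chk chevE8 [239] 58 = true := by decide +kernel
theorem e8b : chk chevE8 [239, 226] 92 = true := by decide +kernel
theorem e8c : chk chevE8 [239, 226, 159] 110 = true := by decide +kernel
theorem e8d : chk chevE8 [239, 226, 159, 152] 120 = true := by decide +kernel
theorem e8b' : chk chevE8 [232, 233] 92 = true := by decide +kernel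
theorem e8c' : chk chevE8 [228, 222, 218] 110 = true := by decide +kernel
theorem e8d' : chk chevE8 [226, 220, 213, 216] 120 = true := by decide +kernel

end Cfsg.Agent.H82.RankTabE8
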