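import Cfsg.Agent.H959.T5.Tools
import Cfsg.Agent.H454.PslThree
import Cfsg.Agent.H947.Sy.Psl2

/-!
# The row `PSL_2(q)` of S3854, elements of prime order `p ≥ 5` (helper82, task 2805)

`noT_psl2` : an automorphism of prime order `p ≥ 5` of `PSL_2(q)` with `RC x` fails the test `T2`.
-/

set_option autoImplicit false
set_option linter.unusedSectionVars false

namespace Cfsg.Agent.H82.TfPsl2

open Subgroup Cfsg Matrix
open Cfsg.Agent.H459.Iface Cfsg.Agent.H459.Rad Cfsg.Agent.H959.Rad3 Cfsg.Agent.H959.T5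
open Cfsg.Agent.BpLin Cfsg.Agent.ClassicalGeometry.PSL2Solvable Cfsg.Agent.H301.SY
open Cfsg.Agent.ClassicalGeometry.AutPSL.Root Cfsg.Agent.ClassicalGeometry.AutPSL.Auto
  Cfsg.Agent.ClassicalGeometry.AutPSL.Main Cfsg.Agent.H109.EndPsl Cfsg.Agent.H454.PslThree Cfsg.Agent.H947.Sy

section Field

open Polynomial

variable {F : Type*} [Field F] [Finite F]

theorem card_eq_pow {σ : F ≃+* F} {p : ℕ} (hp : p.Prime) (h3 : σ ^ p = 1) (h1 : σ ≠ 1) :
    Nat.card F = Nat.card (dif σ).ker ^ p := by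
  classical
  have hF : Fintype F := Fintype.ofFinite F
  have : Fact p.Prime := ⟨hp⟩
  have ho : orderOf σ = p := orderOf_eq_prime h3 h1
  let G : Subgroup (F ≃+* F) := Subgroup.zpowers σ
  have hfin : Finite (F ≃+* F) := Finite.of_injective (fun e : F ≃+* F => (e : F → F)) DFunLike.coe_injective
  have hGf : Fintype G := Fintype.ofFinite G
  have hG : Fintype.card G = p := by rw [← Nat.card_eq_fintype_card, Nat.card_zpowers, ho]
  have h4 := FixedPoints.finrank_eq_card G F
  rw [hG] at h4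
  have h5 := Module.card_eq_pow_finrank (K := FixedPoints.subfield G F) (V := F)
  rw [h4] at h5
  rw [Nat.card_eq_fintype_card, h5]
  congr 1
  rw [← Nat.card_eq_fintype_card]
  refine Nat.card_congr (Equiv.subtypeEquivRight fun x => ?_)
  constructor
  · intro hx
    have h6 : σ x = x := hx ⟨σ, Subgroup.mem_zpowers σ⟩
    change dif σ x = 0
    rw [dif_apply, h6, sub_self]
  · intro hx
    have h6 : σ x = x := by
      have : dif σ x = 0 := hx
      rw [dif_apply, sub_eq_zero] at this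
      exact this.symm
    rintro ⟨τ, n, rfl⟩
    change (σ ^ n) x = x
    have h7 : σ ∈ MulAction.stabilizer (F ≃+* F) x := h6
    exact zpow_mem h7 n

theorem exists_eval_ne {σ : F ≃+* F} {p : ℕ} (hp : p.Prime) (h3 : σ ^ p = 1) (h1 : σ ≠ 1) {P : F[X]} (hP : P ≠ 0)
    (hd : P.natDegree < Nat.card (dif σ).ker ^ (p - 1)) : ∃ b, P.eval (b - σ b) ≠ 0 := by
  classical
  by_contra hcon
  push Not at hcon
  have h4 := card_eq_pow hp h3 h1
  have h5 : Nat.card F = Nat.card (dif σ).range * Nat.card (dif σ).ker := by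
    rw [AddSubgroup.card_eq_card_quotient_mul_card_addSubgroup (dif σ).ker]
    congr 1
    exact Nat.card_congr (QuotientAddGroup.quotientKerEquivRange (dif σ)).toEquiv
  have h6 : Nat.card (dif σ).range ≤ P.natDegree := by
    have h7 : ((dif σ).range : Set F) ⊆ (P.roots.toFinset : Set F) := by
      rintro _ ⟨b, rfl⟩
      rw [Finset.mem_coe, Multiset.mem_toFinset, mem_roots hP]
      exact hcon b
    calc Nat.card (dif σ).range = ((dif σ).range : Set F).ncard := rfl
      _ ≤ (P.roots.toFinset : Set F).ncard := Set.ncard_le_ncard h7 (Set.toFinite _)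
      _ = P.roots.toFinset.card := Set.ncard_coe_finset _
      _ ≤ Multiset.card P.roots := Multiset.toFinset_card_le _
      _ ≤ _ := P.card_roots'
  have h8 : 0 < Nat.card (dif σ).ker := Nat.card_pos
  rw [h4] at h5
  have h9 : Nat.card (dif σ).ker ^ (p - 1) = Nat.card (dif σ).range := by
    apply Nat.eq_of_mul_eq_mul_right h8
    rw [← h5, ← pow_succ, Nat.sub_add_cancel hp.one_lt.le]
  omega

theorem exists_param {σ : F ≃+* F} {p : ℕ} (hp : p.Prime) (hp5 : 5 ≤ p) (h3 : σ ^ p = 1) (h1 : σ ≠ 1) :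
    ∃ b : F, σ b ≠ b ∧ ((2 : F) ≠ 0 → ¬ Bad ((2 + (b - σ b) ^ 2) ^ 2)) := by
  classical
  have hF : Fintype F := Fintype.ofFinite F
  by_cases h2 : (2 : F) = 0
  · by_contra hcon
    push Not at hcon
    apply h1
    ext b
    by_contra hb
    exact (hcon b hb).1 h2
  have hne : ∀ b : F, ¬ Bad ((2 + (b - σ b) ^ 2) ^ 2) → σ b ≠ b := by
    intro b hb h
    apply hb
    rw [h, sub_self]
    unfold Bad
    ring
  have hk3 : 3 ≤ Nat.card (dif σ).ker := by
    have h5 : ({0, 1, -1} : Set F) ⊆ ((dif σ).ker : Set F) := by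
      rintro x (rfl | rfl | rfl)
      · exact zero_mem _
      · change dif σ 1 = 0
        rw [dif_apply, map_one, sub_self]
      · change dif σ (-1) = 0
        rw [dif_apply, map_neg, map_one, sub_self]
    have h6 : ({0, 1, -1} : Set F).ncard = 3 := by
      rw [Set.ncard_insert_of_notMem, Set.ncard_pair]
      · intro h
        apply h2
        linear_combination h
      · simp only [Set.mem_insert_iff, Set.mem_singleton_iff, not_or]
        refine ⟨zero_ne_one, fun h => ?_⟩
        apply zero_ne_one (α := F)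
        linear_combination -h
    calc 3 = ({0, 1, -1} : Set F).ncard := h6.symm
      _ ≤ ((dif σ).ker : Set F).ncard := Set.ncard_le_ncard h5 (Set.toFinite _)
      _ = _ := rfl
  set s : F[X] := (C 2 + X ^ 2) ^ 2 with hs
  have hdeg : ∀ k : F, (s - C k).Monic ∧ (s - C k).natDegree = 4 := by
    intro k
    have e : s - C k = X ^ 4 + (C 4 * X ^ 2 + C (4 - k)) := by
      rw [hs, C_sub]
      have : (C 4 : F[X]) = C 2 * C 2 := by rw [← C_mul]; norm_num
      have h4 : (C 4 : F[X]) = C 2 + C 2 := by rw [← C_add]; norm_num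
      linear_combination (-1 : F[X]) * this - X ^ 2 * h4
    rw [e]
    constructor
    · apply monic_X_pow_add
      compute_degree!
    · compute_degree!
  have hdeg0 : s.Monic ∧ s.natDegree = 4 := by
    have := hdeg 0
    rwa [C_0, sub_zero] at this
  set P : F[X] := s * (s - C 1) * (s - C 2) * (s - C 3) * (s - C 4) with hPdef
  have hPm : P.Monic := (((hdeg0.1.mul (hdeg 1).1).mul (hdeg 2).1).mul (hdeg 3).1).mul (hdeg 4).1
  have hPd : P.natDegree ≤ 20 := by
    have h1 := natDegree_mul_le (p := s * (s - C 1) * (s - C 2) * (s - C 3)) (q := s - C 4)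
    have h2 := natDegree_mul_le (p := s * (s - C 1) * (s - C 2)) (q := s - C 3)
    have h3 := natDegree_mul_le (p := s * (s - C 1)) (q := s - C 2)
    have h4 := natDegree_mul_le (p := s) (q := s - C 1)
    rw [(hdeg 4).2] at h1
    rw [(hdeg 3).2] at h2
    rw [(hdeg 2).2] at h3
    rw [(hdeg 1).2, hdeg0.2] at h4
    rw [hPdef]
    omega
  obtain ⟨b, hb⟩ := exists_eval_ne hp h3 h1 hPm.ne_zero (by
    have h5 : 3 ^ 4 ≤ Nat.card (dif σ).ker ^ 4 := Nat.pow_le_pow_left hk3 4
    have h6 : Nat.card (dif σ).ker ^ 4 ≤ Nat.card (dif σ).ker ^ (p - 1) :=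
      Nat.pow_le_pow_right (by omega) (by omega)
    omega)
  have hbad : ¬ Bad ((2 + (b - σ b) ^ 2) ^ 2) := by
    intro h
    apply hb
    rw [hPdef, hs]
    simp only [eval_mul, eval_sub, eval_pow, eval_add, eval_C, eval_X]
    exact h
  exact ⟨b, hne b hbad, fun _ => hbad⟩

end Field

section Grp

variable {F : Type*} [Field F]

local notation "S2" => Matrix.SpecialLinearGroup (Fin 2) F
local notation "P2" => Matrix.ProjectiveSpecialLinearGroup (Fin 2) F

/-- **No abelian subgroup is normalised by `σ` and `t_b`.** -/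
theorem no_abelian [Finite F] {σ : F ≃+* F} {p : ℕ} (hp : p.Prime) (hp5 : 5 ≤ p) (hσ : σ ^ p = 1) {b : F}
    (hb : σ b ≠ b) (hb' : (2 : F) ≠ 0 → ¬ Bad ((2 + (b - σ b) ^ 2) ^ 2))
    {A : Subgroup P2} (hA : ∀ x ∈ A, ∀ y ∈ A, x * y = y * x) (hA1 : A ≠ ⊥)
    (hAσ : ∀ a ∈ A, lift (fld σ) a ∈ A) (hAt : ∀ a ∈ A, pr (Tm b) * a * (pr (Tm b))⁻¹ ∈ A) : False := by
  have hσi : ∀ (i : ℕ) (n : S2), pr n ∈ A → pr (fld (σ ^ i) n) ∈ A := by
    intro i
    induction i with
    | zero => intro n hn; rwa [pow_zero, map_one]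
    | succ i ih =>
      intro n hn
      rw [pow_succ', map_mul]
      have := hAσ _ (ih n hn)
      rwa [lift_pr] at this
  have hpi : ∀ i : ℕ, σ ^ i * σ ^ ((p - 1) * i) = 1 := by
    intro i
    have e : i + (p - 1) * i = p * i := by
      obtain ⟨k, rfl⟩ : ∃ k, p = k + 1 := ⟨p - 1, by omega⟩
      rw [Nat.add_sub_cancel]; ring
    rw [← pow_add, e, pow_mul, hσ, one_pow]
  have hti : ∀ (i : ℕ) (n : S2), pr n ∈ A → pr (Tm ((σ ^ i) b) * n * (Tm ((σ ^ i) b))⁻¹) ∈ A := by
    intro i n hn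
    have h1 := hσi ((p - 1) * i) n hn
    have h2 := hAt _ h1
    rw [← map_inv, ← map_mul, ← map_mul] at h2
    have h3 := hσi i _ h2
    have h4 : fld (σ ^ i) (fld (σ ^ ((p - 1) * i)) n) = n := by
      rw [← MulAut.mul_apply, ← map_mul, hpi, map_one, MulAut.one_apply]
    have h5 : fld (σ ^ i) (Tm b * fld (σ ^ ((p - 1) * i)) n * (Tm b)⁻¹) =
        Tm ((σ ^ i) b) * n * (Tm ((σ ^ i) b))⁻¹ := by
      rw [map_mul (fld (σ ^ i)), map_mul (fld (σ ^ i)), map_inv (fld (σ ^ i)), fld_Tm, h4]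
    rwa [h5] at h3
  -- the three parameters are distinct
  have hb1 : ∀ i : ℕ, (σ ^ i) (σ b) ≠ (σ ^ i) b := fun i h => hb ((σ ^ i).injective h)
  have hb2 : (σ ^ 2) b ≠ b := by
    intro h
    apply hb
    have h2 : ∀ k : ℕ, (σ ^ (2 * k)) b = b := by
      intro k
      induction k with
      | zero => rw [mul_zero, pow_zero]; rfl
      | succ k ih => rw [mul_add, mul_one, pow_add, RingAut.mul_apply, h, ih]
    obtain ⟨k, hk⟩ := hp.odd_of_ne_two (by omega)
    have h4 : (σ ^ p) b = σ b := by rw [hk, pow_succ', RingAut.mul_apply, h2]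
    rw [← h4, hσ]; rfl
  by_cases hcase : ∀ n m : S2, pr n ∈ A → pr m ∈ A → n * m = m * n
  · -- the preimage is abelian
    obtain ⟨a, haA, ha1⟩ : ∃ a ∈ A, a ≠ 1 := by
      by_contra hcon
      push Not at hcon
      exact hA1 ((eq_bot_iff).2 fun x hx => mem_bot.2 (hcon x hx))
    obtain ⟨n, rfl⟩ := pr_surjective a
    have hns := ns_of_ne ha1
    have hk : ∀ i : ℕ, (tm ((σ ^ i) b) * (n : Matrix (Fin 2) (Fin 2) F)).trace = 0 ∨
        tm ((σ ^ i) b) * (n : Matrix (Fin 2) (Fin 2) F) = n * tm ((σ ^ i) b) := by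
      intro i
      apply key
      have h1 := hcase _ _ (hti i n haA) haA
      rw [sl_comm_iff, Matrix.SpecialLinearGroup.coe_mul, Matrix.SpecialLinearGroup.coe_mul, coe_Tm, coe_Tm_inv] at h1
      simp only [mul_neg, neg_mul, neg_inj] at h1
      simp only [mul_assoc] at h1 ⊢
      exact h1
    have hcomm : ∀ i : ℕ, ¬ (tm ((σ ^ i) b) * (n : Matrix (Fin 2) (Fin 2) F) = n * tm ((σ ^ i) b)) := by
      intro i h1
      have h1' : Tm ((σ ^ i) b) * n = n * Tm ((σ ^ i) b) := sl_comm_iff.2 h1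
      have h2 := congrArg (fld σ) h1'
      rw [map_mul, map_mul, fld_Tm] at h2
      have h3 : pr (fld σ n) ∈ A := by simpa using hσi 1 n haA
      have h4 : pr (fld σ n) ≠ 1 := by
        rw [← lift_pr]
        exact fun h => ha1 ((map_eq_one_iff _ (lift (fld σ)).injective).1 h)
      have h5 := hcase _ _ h3 haA
      have h6 := sl_comm_of_comm h4 h2.symm h5
      have h7 := sl_comm_of_comm ha1 h1'.symm h6.symm
      rw [sl_comm_iff, coe_Tm, coe_Tm] at h7
      have h8 := tm_comm h7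
      apply hb1 i
      rw [← RingAut.mul_apply, ← pow_succ, pow_succ', RingAut.mul_apply, ← h8]
    have h0 := (hk 0).resolve_right (hcomm 0)
    have h1 := (hk 1).resolve_right (hcomm 1)
    have h2 := (hk 2).resolve_right (hcomm 2)
    refine not_ns ?_ ?_ ?_ h0 h1 h2 hns
    · rw [pow_zero, pow_one]; exact fun h => hb h.symm
    · rw [pow_zero]; exact fun h => hb2 h.symm
    · intro h
      apply hb1 1
      rw [pow_one, ← RingAut.mul_apply, ← pow_two, ← h, pow_one]
  · push Not at hcase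
    obtain ⟨n, m, hn, hm, hnm⟩ := hcase
    have hc := hA _ hn _ hm
    have ha : Anti n m := (comm_or hc).resolve_left hnm
    have h2 : (2 : F) ≠ 0 := by
      intro h2
      apply hnm
      rw [sl_comm_iff]
      unfold Anti at ha
      rw [ha]
      ext i j
      rw [Matrix.neg_apply]
      linear_combination (-((m : Matrix (Fin 2) (Fin 2) F) * (n : Matrix (Fin 2) (Fin 2) F)) i j) * h2
    have hcl : ∀ g : P2, g ∈ A → g ≠ 1 → g = pr n ∨ g = pr m ∨ g = pr n * pr m := by
      intro g hg hg1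
      obtain ⟨g, rfl⟩ := pr_surjective g
      exact (claim hnm hc (hA _ hg _ hn) (hA _ hg _ hm)).resolve_left hg1
    have hn1 : pr n ≠ 1 := by
      intro h
      obtain ⟨c, hc⟩ := pr_eq_one h
      apply hnm
      rw [sl_comm_iff, hc, Matrix.smul_mul, Matrix.mul_smul, one_mul, mul_one]
    have hm1 : pr m ≠ 1 := by
      intro h
      obtain ⟨c, hc⟩ := pr_eq_one h
      apply hnm
      rw [sl_comm_iff, hc, Matrix.smul_mul, Matrix.mul_smul, one_mul, mul_one]
    -- `g = t_b t_(σ b)` normalises `A`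
    have hgA : ∀ a ∈ A, pr (Tm b * Tm (σ b)) * a * (pr (Tm b * Tm (σ b)))⁻¹ ∈ A := by
      intro a ha
      obtain ⟨a, rfl⟩ := pr_surjective a
      have h3 := hti 1 a ha
      rw [pow_one] at h3
      have h4 := hAt _ h3
      rw [← map_inv, ← map_mul, ← map_mul] at h4 ⊢
      have e : Tm b * (Tm (σ b) * a * (Tm (σ b))⁻¹) * (Tm b)⁻¹ = Tm b * Tm (σ b) * a * (Tm b * Tm (σ b))⁻¹ := by group
      rwa [e] at h4
    have hne1 : ∀ a : P2, a ≠ 1 → pr (Tm b * Tm (σ b)) * a * (pr (Tm b * Tm (σ b)))⁻¹ ≠ 1 := by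
      intro a ha h
      apply ha
      have h3 := mul_inv_eq_one.1 h
      exact mul_eq_left.1 h3
    have hbad := trace_of_four (g := Tm b * Tm (σ b)) hnm hc (hcl _ (hgA _ hn) (hne1 _ hn1)) (hcl _ (hgA _ hm) (hne1 _ hm1))
    apply hb' h2
    have htr : ((Tm b * Tm (σ b) : S2) : Matrix (Fin 2) (Fin 2) F).trace = -(2 + (b - σ b) ^ 2) := by
      rw [Matrix.SpecialLinearGroup.coe_mul, coe_Tm, coe_Tm, trace_tm_mul]
      simp only [tm, Matrix.of_apply, Matrix.cons_val', Matrix.cons_val_zero, Matrix.cons_val_one,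
        Matrix.cons_val_fin_one]
      ring
    rw [htr, neg_sq] at hbad
    exact hbad

/-- **Field automorphisms of prime order at least five fail the involution test.** -/
theorem outer_false [Finite F] {σ : F ≃+* F} {p : ℕ} (hp : p.Prime) (hp5 : 5 ≤ p) (hσ : σ ^ p = 1) (h1 : σ ≠ 1)
    (hI : Inv (lift (fld σ) : MulAut P2)) : False := by
  obtain ⟨b, hb, hb'⟩ := exists_param hp hp5 hσ h1
  have ht1 : pr (Tm b : S2) ≠ 1 := by
    intro h
    obtain ⟨c, hc⟩ := pr_eq_one h
    have h2 := congrFun (congrFun hc 0) 1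
    simp [coe_Tm, tm] at h2
  obtain ⟨A, hA1, hA, hAσ, hAt⟩ := exists_abelian_inv (hI _ (pr_Tm_sq b)) ht1
  exact no_abelian hp hp5 hσ hb hb' hA hA1 hAσ hAt

/-- the involution `[[v, 1], [-1 - v², -v]]` -/
def iv (v : F) : S2 := ⟨!![v, 1; -1 - v ^ 2, -v], by rw [Matrix.det_fin_two_of]; ring⟩

theorem coe_iv (v : F) : ((iv v : S2) : Matrix (Fin 2) (Fin 2) F) = !![v, 1; -1 - v ^ 2, -v] := rfl

theorem iv_sq (v : F) : (iv v : S2) * iv v = -1 := by
  apply Subtype.ext
  rw [Matrix.SpecialLinearGroup.coe_mul, coe_iv]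
  ext i j
  fin_cases i <;> fin_cases j <;> simp [Matrix.mul_apply, Fin.sum_univ_two] <;> ring

theorem pr_iv_sq (v : F) : (pr (iv v : S2) : P2) * pr (iv v) = 1 := by
  rw [← map_mul, iv_sq, ← map_one (pr : S2 →* P2)]
  exact pr_eq_iff.2 (Or.inr (neg_neg _).symm)

/-- **Case `p ∣ q - 1`.** -/
theorem split_false' [Fintype F] {p : ℕ} (hp : p.Prime) (hp5 : 5 ≤ p) {v : Fˣ}
    (hx : orderOf (pr (dge v) : P2) = p) (hT : TE (pr (dge v) : P2)) : False := by
  obtain ⟨l, hlF⟩ := CharP.exists F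
  have hl : Fact l.Prime := ⟨CharP.char_is_prime F l⟩
  have hv2 : v ^ 2 ≠ 1 := by
    intro h
    have := Nat.le_of_dvd (by norm_num) (hx ▸ orderOf_dvd_of_pow_eq_one (pr_dge_eq_one h))
    omega
  have hv4 : v ^ 4 ≠ 1 := by
    intro h
    have := Nat.le_of_dvd (by norm_num) (hx ▸ orderOf_dvd_of_pow_eq_one (pr_dge_four h))
    omega
  have hall := hT (pr (iv (v : F))) ⟨1, by rw [pow_one, pow_two, pr_iv_sq]⟩
  obtain ⟨τ, hτ⟩ : ∃ τ : S2, iv (v : F) = τ := ⟨_, rfl⟩
  have hτc : (τ : Matrix (Fin 2) (Fin 2) F) = !![(v : F), 1; -1 - (v : F) ^ 2, -(v : F)] := by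
    rw [← hτ]; exact coe_iv _
  rw [hτ] at hall
  have hvF : (v : F) ^ 2 ≠ 1 := fun h => hv2 (Units.ext (by rw [Units.val_pow_eq_pow_val, h, Units.val_one]))
  have hvF4 : (v : F) ^ 4 ≠ 1 := fun h => hv4 (Units.ext (by rw [Units.val_pow_eq_pow_val, h, Units.val_one]))
  have hc0 : -1 - (v : F) ^ 2 ≠ 0 := by
    intro h
    apply hvF4
    have h5 : (v : F) ^ 2 = -1 := by linear_combination -h
    linear_combination ((v : F) ^ 2 - 1) * h5
  set H := closure ({pr (dge v), pr τ} : Set P2) with hH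
  have hxH : (pr (dge v) : P2) ∈ H := subset_closure (Set.mem_insert _ _)
  have hyH : (pr τ : P2) ∈ H := subset_closure (Set.mem_insert_of_mem _ rfl)
  have hd : p ∣ Nat.card H := by
    rw [← hx, ← Subgroup.orderOf_mk _ hxH]
    exact orderOf_dvd_natCard _
  rcases shape (l := l) H hall hp hp5 hd with ⟨Q, hQ1, hQH, hQl, hQn, hQa⟩ | ⟨A, hAH, hAc, hA1, hA2⟩
  · obtain ⟨g, -, hg⟩ := exists_borel hQ1 hQl
    obtain ⟨b, hb, hxb⟩ := hg _ (hQn _ hxH)
    obtain ⟨b', hb', hyb⟩ := hg _ (hQn _ hyH)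
    obtain ⟨c, hc⟩ := exists_smul_of_pr_eq (x := g * b') (y := τ * g) (by
      rw [map_mul, map_mul, hyb]
      simp only [map_mul, map_inv]
      group)
    have h0 := congrFun (congrFun hc 0) 0
    have h1 := congrFun (congrFun hc 1) 0
    have hb0 := Cfsg.Agent.ClassicalGeometry.PSL2Solvable.mem_borel_iff.1 hb'
    rw [Matrix.SpecialLinearGroup.coe_mul, Matrix.SpecialLinearGroup.coe_mul, hτc] at h0 h1
    simp only [Matrix.smul_apply, Matrix.mul_apply, Fin.sum_univ_two, smul_eq_mul, Matrix.of_apply, Matrix.cons_val',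
      Matrix.cons_val_zero, Matrix.cons_val_one, Matrix.cons_val_fin_one] at h0 h1
    rw [hb0] at h0 h1
    have hdet : (g : Matrix (Fin 2) (Fin 2) F) 0 0 * (g : Matrix (Fin 2) (Fin 2) F) 1 1 -
      (g : Matrix (Fin 2) (Fin 2) F) 0 1 * (g : Matrix (Fin 2) (Fin 2) F) 1 0 = 1 := by
      rw [← Matrix.det_fin_two, Matrix.SpecialLinearGroup.det_coe]
    rcases eig_dge hv2 hb hxb with h2 | h2
    · rw [h2] at h0 hdet
      have h4 : (g : Matrix (Fin 2) (Fin 2) F) 1 0 = 0 := by linear_combination h0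
      rw [h4] at hdet
      simp at hdet
    · rw [h2] at h1 hdet
      have h3 : (-1 - (v : F) ^ 2) * (g : Matrix (Fin 2) (Fin 2) F) 0 0 = 0 := by linear_combination h1
      have h4 := (mul_eq_zero.1 h3).resolve_left hc0
      rw [h4] at hdet
      simp at hdet
  · have hx2 : (pr (dge v) : P2) ^ 2 ≠ 1 := by
      intro h1
      have := Nat.le_of_dvd (by norm_num) (hx ▸ orderOf_dvd_of_pow_eq_one h1)
      omega
    have hxA := hA1 _ hxH hx2
    have hvi : (v : F) * ((v⁻¹ : Fˣ) : F) = 1 := by rw [← Units.val_mul, mul_inv_cancel, Units.val_one]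
    by_cases hyA : (pr τ : P2) ∈ A
    · rcases comm_or (hAc _ hxA _ hyA) with h1 | h1
      · have h2 := congrArg (fun m : S2 => (m : Matrix (Fin 2) (Fin 2) F) 0 1) h1
        simp only [Matrix.SpecialLinearGroup.coe_mul, coe_dge, hτc, Matrix.mul_apply, Fin.sum_univ_two,
          Matrix.of_apply, Matrix.cons_val', Matrix.cons_val_zero, Matrix.cons_val_one, Matrix.cons_val_fin_one] at h2
        apply hvF
        have h4 : ((v : F) - ((v⁻¹ : Fˣ) : F)) = 0 := by linear_combination h2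
        linear_combination (v : F) * h4 + hvi
      · have h2 := congrFun (congrFun h1 0) 1
        simp only [coe_dge, hτc, Matrix.mul_apply, Fin.sum_univ_two, Matrix.neg_apply,
          Matrix.of_apply, Matrix.cons_val', Matrix.cons_val_zero, Matrix.cons_val_one, Matrix.cons_val_fin_one] at h2
        apply hvF4
        have h4 : ((v : F) + ((v⁻¹ : Fˣ) : F)) = 0 := by linear_combination h2
        have h5 : (v : F) ^ 2 = -1 := by linear_combination (v : F) * h4 - hvi
        linear_combination ((v : F) ^ 2 - 1) * h5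
    · have h1 := hA2 _ hyH hyA _ hxA
      have h2 : (pr (τ * dge v) : P2) = pr ((dge v)⁻¹ * τ) := by
        rw [map_mul, map_mul, map_inv, ← h1]
        group
      obtain ⟨c, hc⟩ := exists_smul_of_pr_eq h2
      have hi : (((dge v)⁻¹ : S2) : Matrix (Fin 2) (Fin 2) F) = !![((v⁻¹ : Fˣ) : F), 0; 0, (v : F)] := by
        rw [Matrix.SpecialLinearGroup.coe_inv, Matrix.adjugate_fin_two, coe_dge]
        ext i j
        fin_cases i <;> fin_cases j <;> simp
      have h3 := congrFun (congrFun hc 0) 1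
      have h4 := congrFun (congrFun hc 0) 0
      simp only [Matrix.SpecialLinearGroup.coe_mul, coe_dge, hτc, hi, Matrix.mul_apply, Fin.sum_univ_two,
        Matrix.smul_apply, smul_eq_mul,
        Matrix.of_apply, Matrix.cons_val', Matrix.cons_val_zero, Matrix.cons_val_one, Matrix.cons_val_fin_one] at h3 h4
      have h5 : ((v⁻¹ : Fˣ) : F) * (1 - c) = 0 := by linear_combination h3
      have h6 : (1 - c) = 0 := by
        rcases mul_eq_zero.1 h5 with h | h
        · exact absurd h (Units.ne_zero _)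
        · exact h
      have hc1 : c = 1 := by linear_combination -h6
      rw [hc1] at h4
      have h7 : (v : F) * ((v : F) - ((v⁻¹ : Fˣ) : F)) = 0 := by linear_combination -h4
      have h8 := (mul_eq_zero.1 h7).resolve_left (Units.ne_zero _)
      exact hvF (by linear_combination (v : F) * h8 + hvi)

theorem two_dvd_card_psl [Fintype F] : 2 ∣ Nat.card P2 := by
  have h := Cfsg.Agent.H394.SqPsl2.card_psl (F := F)
  have hq : 1 < Fintype.card F := Fintype.one_lt_card
  obtain ⟨m, hm⟩ := Nat.even_or_odd' (Fintype.card F)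
  rcases hm with hm | hm
  · have hg : Nat.gcd 2 (Fintype.card F - 1) = 1 := by
      have h2 : ¬ 2 ∣ Fintype.card F - 1 := by omega
      exact (Nat.Prime.coprime_iff_not_dvd Nat.prime_two).2 h2
    rw [hg, one_mul] at h
    rw [h, hm, mul_assoc]
    exact dvd_mul_right _ _
  · have hg : Nat.gcd 2 (Fintype.card F - 1) = 2 := Nat.gcd_eq_left (by omega)
    rw [hg] at h
    have h3 : (Fintype.card F) ^ 2 - 1 = 2 * (2 * (m * (m + 1))) := by
      rw [hm]
      have : (2 * m + 1) ^ 2 = 2 * (2 * (m * (m + 1))) + 1 := by ring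
      rw [this, Nat.add_sub_cancel]
    rw [h3] at h
    have h4 : Nat.card P2 = 2 * (Fintype.card F * (m * (m + 1))) := by
      apply Nat.eq_of_mul_eq_mul_left (show 0 < 2 by norm_num)
      rw [h]; ring
    rw [h4]
    exact dvd_mul_right _ _

/-- **The row, explicit form.** -/
theorem noT [Fintype F] {p : ℕ} [hpf : Fact p.Prime] [IsSimpleGroup P2] (hp : 5 ≤ p) : NoT p P2 := by
  intro x hx hR hT
  have hna : ¬ IsMulCommutative P2 := not_comm_psl
  have hZ : center P2 = ⊥ := center_eq_bot hna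
  have hxp : x ^ p = 1 := by rw [← hx]; exact pow_orderOf_eq_one x
  obtain ⟨A, σ, rfl⟩ := exists_type le_rfl (hpf.out.odd_of_ne_two (by omega)) hxp
  have hxp' := hxp
  rw [← map_pow, pow_type] at hxp'
  have h1 : lift (cj (NA A σ p) * fld (σ ^ p)) = lift (fld (ι := Fin 2) (1 : F ≃+* F)) := by
    rw [hxp', map_one fld, map_one]
  obtain ⟨⟨c, hc⟩, hσ⟩ := injective_aux h1
  have hc' : (NA A σ p : Matrix (Fin 2) (Fin 2) F) = c • 1 := by
    rw [← hc, Matrix.scalar_apply, Matrix.smul_one_eq_diagonal]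
  by_cases h2 : σ = 1
  · subst h2
    rw [map_one fld, mul_one] at hx hR hxp hT
    obtain ⟨s, hs⟩ := Cfsg.Agent.H999.RowPSL.inner_of_coprime (n := 2) (p := p)
      ((Nat.coprime_primes Nat.prime_two hpf.out).2 (by omega)) hxp
    rw [hs] at hx hR hT
    have hos : orderOf s = p := by
      rw [← hx]
      exact (orderOf_injective (MulAut.conj : P2 →* MulAut P2) (conj_injective hZ) s).symm
    have hTE : TE s := TE.of_t2 hZ hT
    have h2K : 2 ∣ Nat.card P2 := two_dvd_card_psl
    by_cases hpq : p ∣ Nat.card F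
    · -- the defining characteristic
      have hch : CharP F p := by
        obtain ⟨r, hr⟩ := CharP.exists F
        have hrp : Fact r.Prime := ⟨CharP.char_is_prime F r⟩
        obtain ⟨n, -, hn⟩ := FiniteField.card F r
        rw [Nat.card_eq_fintype_card, hn] at hpq
        have := (Nat.prime_dvd_prime_iff_eq hpf.out hrp.out).1 (hpf.out.dvd_of_dvd_pow hpq)
        rwa [this]
      by_cases hpc : Nat.card F = p
      · exact m0_false hna h2K hos hTE
          (m0_psl hpf.out hp (Or.inl (by rw [← Nat.card_eq_fintype_card]; exact hpc)) hos)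
      · exact unip_false hp hpc hx hR
    · have hpq' : ¬ p ∣ Fintype.card F := by rwa [← Nat.card_eq_fintype_card]
      have hcyc : ∀ P : Sylow p P2, IsCyclic (P : Subgroup P2) := isCyclic_sylow (by omega) hpq
      by_cases hp1 : p ∣ Fintype.card F - 1
      · obtain ⟨v, hv⟩ : ∃ v : Fˣ, orderOf v = p :=
          exists_prime_orderOf_dvd_card' p (by rwa [Nat.card_units, Nat.card_eq_fintype_card])
        have ho := orderOf_pr_dge hpf.out (by omega) hv
        have hL : p ∣ Nat.card ↥((dgh.range : Subgroup S2).map (pr : S2 →* P2)) := by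
          have hm : (pr (dge v) : P2) ∈ (dgh.range : Subgroup S2).map (pr : S2 →* P2) := ⟨_, ⟨v, rfl⟩, rfl⟩
          rw [← ho, ← Subgroup.orderOf_mk _ hm]
          exact orderOf_dvd_natCard _
        obtain ⟨g, _, ⟨v', rfl⟩, hv'⟩ := Cfsg.Agent.H301.SY.exists_conj_mem hcyc hos hL
        have hT' := hTE.conj g
        have hos' : orderOf (g * s * g⁻¹) = p := by
          rw [← hos]
          exact orderOf_injective (MulAut.conj g).toMonoidHom (MulAut.conj g).injective s
        rw [← hv'] at hT' hos'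
        exact split_false' hpf.out hp hos' hT'
      · exact m0_false hna h2K hos hTE (m0_psl hpf.out hp (Or.inr ⟨hpq', hp1⟩) hos)
  · obtain ⟨B, hB⟩ := exists_std hpf.out h2 hσ hc'
    have hI' := (T2.inv hT).tr (lift (cj B))⁻¹
    have he : Cfsg.Agent.H459.Rad.tr (lift (cj B))⁻¹ (lift (cj A * fld σ)) = lift (fld σ) := by
      rw [hB, map_mul, map_mul, map_inv]
      ext y
      rw [tr_apply]
      have h3 : ((lift (cj B))⁻¹ : MulAut P2).symm y = lift (cj B) y := rfl
      rw [h3, MulAut.mul_apply, MulAut.mul_apply, MulAut.inv_apply_self, MulAut.inv_apply_self]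
    rw [he] at hI'
    exact outer_false hpf.out hp hσ h2 hI'

end Grp

/-- **Row `PSL_2(q)` of S3854, prime order `p ≥ 5`.** -/
theorem noT_psl2 {K : Type*} [Group K] [Finite K] [IsSimpleGroup K] {F : Type} [Field F] [Fintype F]
    (e : Nonempty (K ≃* Matrix.ProjectiveSpecialLinearGroup (Fin 2) F)) {p : ℕ} [Fact p.Prime] (hp : 5 ≤ p) :
    Cfsg.Agent.H959.T5.NoT p K := by
  obtain ⟨e⟩ := e
  have : IsSimpleGroup (Matrix.ProjectiveSpecialLinearGroup (Fin 2) F) := e.symm.isSimpleGroup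
  have : Finite (Matrix.ProjectiveSpecialLinearGroup (Fin 2) F) := Quotient.finite _
  exact NoT.congr e (noT hp)

end Cfsg.Agent.H82.TfPsl2
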