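import Cfsg.Agent.H82.TwMaxC

/-! Table checks for the triality twisted group. -/

set_option autoImplicit false

namespace Cfsg.Agent.H82.TwD4

open Cfsg.Lie Cfsg.Agent.H82.Level Cfsg.Agent.H82.TwMax Cfsg.Agent.ChevalleyStructure
open Cfsg.Agent.ChevalleyStructure.RootCombGood (co car)
open Cfsg.Agent.ChevalleyStructure.RootWord (wact)

theorem hD4 : Elts.InList chevD4 := by
  unfold Elts.InList
  simp

/-- triality on root indices -/
def rho (r : ℕ) : ℕ :=
  [0, 1, 6, 2, 7, 10, 3, 8, 4, 9, 11, 5, 18, 12, 14, 19, 15, 20, 13, 16, 21, 17, 22, 23].getD r 0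

/-- the signs -/
def eps (r : ℕ) : ℤ := if r = 15 ∨ r = 17 ∨ r = 19 ∨ r = 21 then -1 else 1

/-- the orbits of positive roots, by height -/
def Lo : List (List ℕ) := [[14], [18, 13, 12], [19, 16, 15], [21, 17, 20], [22], [23]]

/-- classes of simple indices -/
def cl : List (List ℕ) := [[1], [0, 2, 3]]

set_option maxRecDepth 100000

set_option maxHeartbeats 4000000 in
set_option synthInstance.maxHeartbeats 400000 in
set_option synthInstance.maxSize 2000 in
theorem slD4 : SL chevD4 where
  gr := by decide +kernel
  pos := by decide +kernel
  ii_ok := by decide +kernel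
  comm := by decide +kernel
  simple := by decide +kernel
  comm_self := by decide +kernel
  comm_neg := by decide +kernel
  add_comm := by decide +kernel
  add_neg := by decide +kernel

theorem twD4 : TwOK chevD4 Lo rho where
  nodup := by decide +kernel
  lt := by decide +kernel
  mem := by decide +kernel
  good := by decide +kernel
  perm := by decide +kernel
  comm := by decide +kernel
  rho_lt := by decide +kernel
  rho_ht := by decide +kernel
  rho_inj := by decide +kernel

theorem stage0 : StageOK chevD4 rho eps cl [23] [] 23 := by decide +kernel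

theorem stage1 : StageOK chevD4 rho eps cl [] [23] 22 := by decide +kernel

theorem lp0 : LP chevD4 [] 23 := by decide +kernel

theorem lp1 : LP chevD4 [23] 22 := by decide +kernel

end Cfsg.Agent.H82.TwD4
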