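import Cfsg.Agent.H82.TwMaxD
import Cfsg.Agent.H82.TwD4Tab
import Cfsg.Agent.ChevalleyStructure.D4Twisted
import Cfsg.Agent.ChevalleyStructure.D4Perfect

/-! The subfield subgroup of `³D₄(q)`. -/

set_option autoImplicit false

namespace Cfsg.Agent.H82.TwD4

open Cfsg.Lie Cfsg.Agent.H82.Level Cfsg.Agent.H82.TwMax Cfsg.Agent.ChevalleyStructure
open Cfsg.Agent.ChevalleyStructure.RootCombGood (co car)
open Cfsg.Agent.ChevalleyStructure.RootWord (wact)
open Cfsg.Agent.ChevalleyStructure.TwistedU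
open Cfsg.Agent.ChevalleyStructure.D4Fixed (sig fix mem_fix twisted_le_fix twisted_induction)
open Cfsg.Agent.ChevalleyStructure.D4U (na nb na_mem nb_mem phi3 U_inf_eq)
open scoped commutatorElement

universe u

variable {K : Type u} [Field K]

/-- root elements -/
noncomputable abbrev X (r : ℕ) (t : K) : GL chevD4.Idx K := Elts.xG hD4 r t

theorem X_eq (r : ℕ) (t : K) : X r t = D4Comm.xG r t := rfl

theorem X_zero (r : ℕ) : X r (0 : K) = 1 := Elts.xG_zero hD4 r

theorem hG14_eq (t : K) : Elts.hG hD4 14 t = D4NConj.hR 14 t := by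
  rw [Elts.hG_def, Elts.nG_def, Elts.nG_def]
  rfl

theorem X_eqU (r : ℕ) (t : K) : X r t = D4Cols.xU r t := (D4U.xU_eq r t).symm

theorem sig_X (φ : K →+* K) (r : ℕ) (hr : chevD4.IsPosRoot r) (t : K) :
    sig φ (X r t) = X (rho r) ((eps r : K) * φ t) := by
  have h1 : r ∈ Lo.flatten := (twD4.mem r hr.1).1 hr
  have h2 : ∀ r ∈ Lo.flatten, r = 12 ∨ r = 13 ∨ r = 14 ∨ r = 15 ∨ r = 16 ∨ r = 17 ∨ r = 18 ∨ r = 19 ∨ r = 20 ∨
    r = 21 ∨ r = 22 ∨ r = 23 := by decide
  have e1 : ((1 : ℤ) : K) = 1 := Int.cast_one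
  have e2 : ((-1 : ℤ) : K) = -1 := by simp
  rcases h2 r h1 with rfl | rfl | rfl | rfl | rfl | rfl | rfl | rfl | rfl | rfl | rfl | rfl
  · have : eps 12 = 1 := rfl
    rw [this, e1, one_mul]; exact D4U.sig_12 φ t
  · have : eps 13 = 1 := rfl
    rw [this, e1, one_mul]; exact D4U.sig_13 φ t
  · have : eps 14 = 1 := rfl
    rw [this, e1, one_mul]; exact D4U.sig_14 φ t
  · have : eps 15 = -1 := rfl
    rw [this, e2, neg_one_mul]; exact D4U.sig_15 φ t
  · have : eps 16 = 1 := rfl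
    rw [this, e1, one_mul]; exact D4U.sig_16 φ t
  · have : eps 17 = -1 := rfl
    rw [this, e2, neg_one_mul]; exact D4U.sig_17 φ t
  · have : eps 18 = 1 := rfl
    rw [this, e1, one_mul]; exact D4U.sig_18 φ t
  · have : eps 19 = -1 := rfl
    rw [this, e2, neg_one_mul]; exact D4U.sig_19 φ t
  · have : eps 20 = 1 := rfl
    rw [this, e1, one_mul]; exact D4U.sig_20 φ t
  · have : eps 21 = -1 := rfl
    rw [this, e2, neg_one_mul]; exact D4U.sig_21 φ t
  · have : eps 22 = 1 := rfl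
    rw [this, e1, one_mul]; exact D4U.sig_22 φ t
  · have : eps 23 = 1 := rfl
    rw [this, e1, one_mul]; exact D4U.sig_23 φ t

/-- a coordinate at a simple root vanishes on root groups of other positive roots -/
theorem cf_rspan {D : ChevalleyDatum} (hD : Elts.InList D) (h : SL D) {r : ℕ} (hr : D.IsPosRoot r) (h1 : ht D r = 1)
    {l : List ℕ} (hl : ∀ s ∈ l, D.IsPosRoot s ∧ r ≠ s) {v : GL D.Idx K}
    (hv : v ∈ rspan (Elts.xG (F := K) hD) {k | k ∈ l}) : cf r v = 0 := by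
  have key : v ∈ Lv K hD h (ht D r) ∧ cf r v = 0 := by
    refine Subgroup.closure_induction (p := fun v _ => v ∈ Lv K hD h (ht D r) ∧ cf r v = 0) ?_ ?_ ?_ ?_ hv
    · rintro _ ⟨s, hs, t, rfl⟩
      obtain ⟨hp, hne⟩ := hl s hs
      refine ⟨Lv_anti hD h (by rw [h1]; exact h.pos s hp.1 hp) (xG_mem_Lv hD h hp t), ?_⟩
      rw [cf_xG hD h hr.1 hp.1, if_neg hne]
    · exact ⟨one_mem _, cf_one _⟩
    · rintro a b _ _ ⟨ha, ha'⟩ ⟨hb, hb'⟩
      exact ⟨mul_mem ha hb, by rw [cf_mul_left hD h ha hb.1, ha', hb', add_zero]⟩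
    · rintro a _ ⟨ha, ha'⟩
      exact ⟨inv_mem ha, by rw [cf_inv hD h ha, ha', neg_zero]⟩
  exact key.2

theorem na_eq : na K = Elts.nG hD4 (chevD4.simple 1) 1 := by
  rw [Elts.nG_def]
  rfl

theorem nb_eq : nb K = Elts.nG hD4 (chevD4.simple 0) 1 * Elts.nG hD4 (chevD4.simple 2) 1 *
    Elts.nG hD4 (chevD4.simple 3) 1 := by
  rw [Elts.nG_def, Elts.nG_def, Elts.nG_def]
  rfl

theorem acts_na : BruhatSplit.Acts (na K) [1] := by
  rw [na_eq]
  exact BruhatSplit.acts_nG_simple hD4 (i := 1) (by decide)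

theorem acts_nb : BruhatSplit.Acts (nb K) [0, 2, 3] := by
  rw [nb_eq]
  have Gd := RootComb.good_of_mem hD4
  have h0 := BruhatSplit.acts_nG_simple (F := K) hD4 (i := 0) (by decide)
  have h2 := BruhatSplit.acts_nG_simple (F := K) hD4 (i := 2) (by decide)
  have h3 := BruhatSplit.acts_nG_simple (F := K) hD4 (i := 3) (by decide)
  have e2 : ∀ a ∈ [2], a < chevD4.rank := by decide
  have e3 : ∀ a ∈ [3], a < chevD4.rank := by decide
  have h4 := BruhatSplit.Acts.mul Gd h0 h2 e2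
  have h5 := BruhatSplit.Acts.mul Gd h4 h3 e3
  have e : [0] ++ [2] ++ [3] = [0, 2, 3] := rfl
  rw [e] at h5
  exact h5

theorem pos_of_mem {r : ℕ} (hr : r ∈ Lo.flatten) : chevD4.IsPosRoot r := (isPosRoot_iff twD4 r).1 hr

section

variable {q : ℕ} {φ : K →+* K} (hφ : ∀ x, φ x = x ^ q)

/-- classes of simple roots -/
def J : Fin 2 → List ℕ := ![[1], [0, 2, 3]]

theorem Xt_eq (t : K) : D4Fixed.X φ t = X 18 t * X 13 (φ t) * X 12 (φ (φ t)) := by
  unfold D4Fixed.X
  rw [X_eqU, X_eqU, X_eqU]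

theorem Xt_mem_U (t : K) : D4Fixed.X φ t ∈ chevD4.posUnipotent K := by
  rw [Xt_eq]
  exact mul_mem (mul_mem (Elts.xG_mem_posUnipotent hD4 (pos_of_mem (by decide)) _)
    (Elts.xG_mem_posUnipotent hD4 (pos_of_mem (by decide)) _))
    (Elts.xG_mem_posUnipotent hD4 (pos_of_mem (by decide)) _)

theorem cf_X {r s : ℕ} (hr : r < 24) (hs : s < 24) (t : K) : cf r (X s t) = if r = s then t else 0 :=
  cf_xG hD4 slD4 hr hs t

theorem ht_one {r : ℕ} (hr : r ∈ [14, 18, 13, 12]) : ht chevD4 r = 1 := by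
  revert r
  decide +kernel

theorem cf_Xt {r : ℕ} (hr : r ∈ [14, 18, 13, 12]) (t : K) : cf r (D4Fixed.X φ t) =
    (if r = 18 then t else 0) + (if r = 13 then φ t else 0) + (if r = 12 then φ (φ t) else 0) := by
  have h1 := ht_one hr
  have hlt : r < 24 := by revert r; decide
  have hU : ∀ s ∈ Lo.flatten, ∀ a : K, X s a ∈ Lv K hD4 slD4 (ht chevD4 r) := by
    intro s hs a
    rw [h1, Lv_one]
    exact Elts.xG_mem_posUnipotent hD4 (pos_of_mem hs) a
  rw [Xt_eq, cf_mul_left hD4 slD4 (mul_mem (hU 18 (by decide) _) (hU 13 (by decide) _)) (hU 12 (by decide) _).1,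
    cf_mul_left hD4 slD4 (hU 18 (by decide) _) (hU 13 (by decide) _).1, cf_X hlt (by norm_num), cf_X hlt (by norm_num),
    cf_X hlt (by norm_num)]

theorem fr_Xt {t : K} (ht : φ t = t) : fr chevD4 φ (D4Fixed.X φ t) = D4Fixed.X φ t := by
  rw [Xt_eq, map_mul, map_mul, fr_X, fr_X, fr_X, ht, ht, ht]

include hφ in
theorem tw [Fintype K] (hK : Fintype.card K = q ^ 3) :
    Tw hD4 slD4 Lo rho eps φ (sig φ) (twistedD4 K q) where
  T := twD4
  sg_X := sig_X φ
  G_fix := fun g hg => twisted_le_fix hK hφ hg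
  U_fix := fun g hg hf => by
    have h1 := U_inf_eq (phi3 hK hφ) hφ (twisted_le_fix hK hφ)
    have h2 : g ∈ chevD4.posUnipotent K ⊓ fix φ := ⟨hg, hf⟩
    rw [← h1] at h2
    exact h2.2

include hφ in
theorem cls [Fintype K] (hK : Fintype.card K = q ^ 3) :
    Cls φ rho (twistedD4 K q) J ![na K, nb K] where
  rho_lt := twD4.rho_lt
  J_ne := by decide
  J_orth := by decide +kernel
  nhW := by
    intro i
    fin_cases i
    · exact ⟨na_mem hφ, (D4Twisted.tdata hφ (twisted_le_fix hK hφ)).n_mem_N 0, by decide, acts_na,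
        by decide +kernel⟩
    · exact ⟨nb_mem hφ, (D4Twisted.tdata hφ (twisted_le_fix hK hφ)).n_mem_N 1, by decide, acts_nb,
        by decide +kernel⟩
  nh_fr := by
    intro i
    fin_cases i
    · show fr chevD4 φ (na K) = na K
      rw [na_eq, fr_nG]
    · show fr chevD4 φ (nb K) = nb K
      rw [nb_eq, map_mul, map_mul, fr_nG, fr_nG, fr_nG]
  split := by
    intro i u hu huG hc
    have hf := twisted_le_fix hK hφ huG
    fin_cases i
    · obtain ⟨v, hv, t, ht, e⟩ := D4Twisted.decomp_a φ hu hf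
      have hx : D4Comm.xG 14 t ∈ twistedD4 K q := D4U.xG14_mem hφ ht
      refine ⟨v, D4Comm.xG 14 t, hx, ?_, ?_, D4Twisted.ordA_tail_conj hv, e⟩
      · rw [← X_eq, fr_X, ht]
      · have : v = u * (D4Comm.xG 14 t)⁻¹ := by rw [e]; group
        rw [this]
        exact mul_mem huG (inv_mem hx)
    · obtain ⟨v, hv, t, e⟩ := D4Twisted.decomp_b φ hu hf
      have hx : D4Fixed.X φ t ∈ twistedD4 K q := D4Fixed.X_mem hφ t
      have hvG : v ∈ twistedD4 K q := by
        have : v = u * (D4Fixed.X φ t)⁻¹ := by rw [e]; group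
        rw [this]
        exact mul_mem huG (inv_mem hx)
      have hvU : v ∈ chevD4.posUnipotent K := by
        have : v = u * (D4Fixed.X φ t)⁻¹ := by rw [e]; group
        rw [this]
        exact mul_mem hu (inv_mem (Xt_mem_U t))
      have h1 : cf 18 u = t := by
        have h2 : cf 18 v = 0 := cf_rspan hD4 slD4 (l := D4Pos.ordB.drop 3) (pos_of_mem (by decide))
          (ht_one (by decide)) (by
            have : ∀ s ∈ D4Pos.ordB.drop 3, s ∈ Lo.flatten ∧ 18 ≠ s := by decide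
            exact fun s hs => ⟨pos_of_mem (this s hs).1, (this s hs).2⟩) hv
        rw [e, cf_mul_left hD4 slD4 (by rw [ht_one (by decide), Lv_one]; exact hvU) (Xt_mem_U t), h2,
          cf_Xt (by decide)]
        simp
      have ht : φ t = t := by
        have := hc 0 (by decide)
        have e18 : chevD4.simple 0 = 18 := by decide +kernel
        rwa [e18, h1] at this
      exact ⟨v, D4Fixed.X φ t, hx, fr_Xt ht, hvG, D4Twisted.ordB_drop_conj hv, e⟩

end

/-! ### Conjugation by `n_a`, `n_b n_a` -/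

theorem na_X {s : ℕ} (hs : s < 24) : ∃ ζ : K, (ζ = 1 ∨ ζ = -1) ∧ ∀ t : K,
    na K * X s t * (na K)⁻¹ = X (D4NCheck.rfl' 1 s) (ζ * t) := by
  refine ⟨(D4NCheck.eta 1 s : K), ?_, fun t => D4NConj.nG_conj (by norm_num) hs t⟩
  rcases D4NConj.eta_cases (i := 1) (by norm_num) hs with h | h <;> rw [h] <;> simp

theorem nb_X {s : ℕ} (hs : s < 24) : ∃ ζ : K, (ζ = 1 ∨ ζ = -1) ∧ ∀ t : K,
    nb K * X s t * (nb K)⁻¹ = X (D4U.rb s) (ζ * t) := by
  have h3 := D4NConj.rfl'_lt (i := 3) (by norm_num) hs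
  have h2 := D4NConj.rfl'_lt (i := 2) (by norm_num) h3
  refine ⟨(D4NCheck.eta 0 (D4NCheck.rfl' 2 (D4NCheck.rfl' 3 s)) : K) * ((D4NCheck.eta 2 (D4NCheck.rfl' 3 s) : K) *
    (D4NCheck.eta 3 s : K)), ?_, fun t => ?_⟩
  · rcases D4NConj.eta_cases (i := 0) (by norm_num) h2 with h | h <;>
    rcases D4NConj.eta_cases (i := 2) (by norm_num) h3 with h' | h' <;>
    rcases D4NConj.eta_cases (i := 3) (by norm_num) hs with h'' | h'' <;> rw [h, h', h''] <;> simp
  · have e3 := D4NConj.nG_conj (i := 3) (by norm_num) hs t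
    have e2 := D4NConj.nG_conj (i := 2) (by norm_num) h3 ((D4NCheck.eta 3 s : K) * t)
    have e0 := D4NConj.nG_conj (i := 0) (by norm_num) h2 ((D4NCheck.eta 2 (D4NCheck.rfl' 3 s) : K) *
      ((D4NCheck.eta 3 s : K) * t))
    rw [← e3] at e2
    rw [← e2] at e0
    have e4 : (D4NCheck.eta 0 (D4NCheck.rfl' 2 (D4NCheck.rfl' 3 s)) : K) * ((D4NCheck.eta 2 (D4NCheck.rfl' 3 s) : K) *
      (D4NCheck.eta 3 s : K)) * t = (D4NCheck.eta 0 (D4NCheck.rfl' 2 (D4NCheck.rfl' 3 s)) : K) *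
      ((D4NCheck.eta 2 (D4NCheck.rfl' 3 s) : K) * ((D4NCheck.eta 3 s : K) * t)) := by ring
    rw [e4]
    unfold D4U.rb
    refine Eq.trans ?_ e0
    unfold nb
    show _ = _
    rw [X_eq]
    group

/-! ### The set of parameters -/

section Step

variable [Fintype K] {q : ℕ} {φ : K →+* K} (hφ : ∀ x, φ x = x ^ q) (hK : Fintype.card K = q ^ 3)
  {H : Subgroup (GL chevD4.Idx K)} (hMH : ∀ g ∈ twistedD4 K q, fr chevD4 φ g = g → g ∈ H) (hHG : H ≤ twistedD4 K q)

theorem htv : ∀ r ∈ Lo.flatten, ht chevD4 r = (if r ∈ [14, 18, 13, 12] then 1 else if r ∈ [19, 16, 15] then 2 else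
    if r ∈ [21, 17, 20] then 3 else if r = 22 then 4 else 5) := by decide +kernel

omit [Fintype K] in
theorem mem_Lv_X {r : ℕ} (hr : r ∈ Lo.flatten) {m : ℤ} (hm : m ≤ ht chevD4 r) (t : K) :
    X r t ∈ Lv K hD4 slD4 m := Lv_anti hD4 slD4 hm (xG_mem_Lv hD4 slD4 (pos_of_mem hr) t)

include hφ hK in
/-- relations between the coordinates -/
theorem rels {u : GL chevD4.Idx K} (huG : u ∈ twistedD4 K q) {r : ℕ} (hr : r ∈ Lo.flatten)
    (hu : u ∈ Lv K hD4 slD4 (ht chevD4 r)) : cf (rho r) u = (eps r : K) * φ (cf r u) :=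
  cf_rho (tw hφ hK) (pos_of_mem hr) hu (twisted_le_fix hK hφ huG)

include hφ hK hMH hHG in
/-- a bad coordinate at level 3 gives a bad parameter -/
theorem top {u : GL chevD4.Idx K} (huH : u ∈ H) (hu : u ∈ Lv K hD4 slD4 3) :
    ∃ t, D4Fixed.X φ t ∈ H ∧ lead hD4 Lo.flatten 3 u = (nb K * na K) * D4Fixed.X φ t * (nb K * na K)⁻¹ := by
  have W := tw hφ hK
  have h1 := lead_mem_H W hMH hHG (m := 3) (by
    intro r hr hm
    have h2 : ∀ r ∈ Lo.flatten, 3 + 1 ≤ ht chevD4 r → rho r = r ∧ eps r = 1 := by decide +kernel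
    exact h2 r ((isPosRoot_iff twD4 r).2 hr) hm) huH hu
  have hG := hHG h1
  have hRS : lead hD4 Lo.flatten 3 u ∈ D4U.RS K [21, 17, 20] := by
    refine lprod_mem _ fun s hs => ?_
    by_cases h3 : ht chevD4 s = 3
    · have h4 : s ∈ [21, 17, 20] := by
        have : ∀ s ∈ Lo.flatten, ht chevD4 s = 3 → s ∈ [21, 17, 20] := by decide +kernel
        exact this s hs h3
      exact mem_rspan _ (S := {k | k ∈ [21, 17, 20]}) h4 _
    · rw [if_neg h3, Elts.xG_zero]
      exact one_mem _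
  have h2 : (nb K)⁻¹ * lead hD4 Lo.flatten 3 u * nb K ∈ D4U.RS K [19, 16, 15] :=
    D4Twisted.nb_inv_RS K (by decide +kernel) hRS
  have h3 : (na K)⁻¹ * ((nb K)⁻¹ * lead hD4 Lo.flatten 3 u * nb K) * na K ∈ D4U.RS K [18, 13, 12] :=
    D4Twisted.na_inv_RS K (by decide +kernel) h2
  have hnaH : na K ∈ H := hMH _ (na_mem hφ) ((cls hφ hK).nh_fr 0)
  have hnbH : nb K ∈ H := hMH _ (nb_mem hφ) ((cls hφ hK).nh_fr 1)
  have h4 : (na K)⁻¹ * ((nb K)⁻¹ * lead hD4 Lo.flatten 3 u * nb K) * na K ∈ H :=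
    mul_mem (mul_mem (inv_mem hnaH) (mul_mem (mul_mem (inv_mem hnbH) h1) hnbH)) hnaH
  obtain ⟨t, ht⟩ := D4U.RS_outer_fix h3 (twisted_le_fix hK hφ (hHG h4))
  refine ⟨t, ht ▸ h4, ?_⟩
  rw [← ht]
  group

omit [Fintype K] in
/-- coordinates at `21` of the conjugate -/
theorem cf21 : ∃ ζ : K, (ζ = 1 ∨ ζ = -1) ∧ ∀ (φ : K →+* K) (t : K),
    cf 21 ((nb K * na K) * D4Fixed.X φ t * (nb K * na K)⁻¹) = ζ * φ (φ t) := by
  obtain ⟨a1, -, e1⟩ := na_X (K := K) (s := 18) (by norm_num)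
  obtain ⟨a2, -, e2⟩ := na_X (K := K) (s := 13) (by norm_num)
  obtain ⟨a3, ha3, e3⟩ := na_X (K := K) (s := 12) (by norm_num)
  obtain ⟨b1, -, f1⟩ := nb_X (K := K) (s := 19) (by norm_num)
  obtain ⟨b2, -, f2⟩ := nb_X (K := K) (s := 16) (by norm_num)
  obtain ⟨b3, hb3, f3⟩ := nb_X (K := K) (s := 15) (by norm_num)
  have r1 : D4NCheck.rfl' 1 18 = 19 := by decide +kernel
  have r2 : D4NCheck.rfl' 1 13 = 16 := by decide +kernel
  have r3 : D4NCheck.rfl' 1 12 = 15 := by decide +kernel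
  have s1 : D4U.rb 19 = 17 := by decide +kernel
  have s2 : D4U.rb 16 = 20 := by decide +kernel
  have s3 : D4U.rb 15 = 21 := by decide +kernel
  rw [r1] at e1
  rw [r2] at e2
  rw [r3] at e3
  rw [s1] at f1
  rw [s2] at f2
  rw [s3] at f3
  refine ⟨b3 * a3, ?_, fun φ t => ?_⟩
  · rcases ha3 with rfl | rfl <;> rcases hb3 with rfl | rfl <;> simp
  · have e : (nb K * na K) * D4Fixed.X φ t * (nb K * na K)⁻¹ =
        X 17 (b1 * (a1 * t)) * X 20 (b2 * (a2 * φ t)) * X 21 (b3 * (a3 * φ (φ t))) := by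
      rw [Xt_eq, ← f1, ← f2, ← f3, ← e1, ← e2, ← e3]
      group
    have ht3 : ht chevD4 21 = 3 := by decide +kernel
    rw [e, cf_mul_left hD4 slD4 (mul_mem (mem_Lv_X (by decide) (by decide +kernel) _)
      (mem_Lv_X (by decide) (by decide +kernel) _)) (Elts.xG_mem_posUnipotent hD4 (pos_of_mem (by decide)) _),
      cf_mul_left hD4 slD4 (mem_Lv_X (by decide) (by decide +kernel) _)
      (Elts.xG_mem_posUnipotent hD4 (pos_of_mem (by decide)) _), cf_X (by norm_num) (by norm_num),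
      cf_X (by norm_num) (by norm_num), cf_X (by norm_num) (by norm_num), if_neg (by norm_num),
      if_neg (by norm_num), if_pos rfl]
    ring

/-! the parameters `t` with `X(t) ∈ H` -/

omit [Fintype K] in
theorem X_zero' : D4Fixed.X φ 0 = 1 := by
  rw [Xt_eq, map_zero, map_zero, X_zero, X_zero, X_zero, mul_one, mul_one]

omit [Fintype K] in
theorem V_add {s t : K} (hs : D4Fixed.X φ s ∈ H) (ht : D4Fixed.X φ t ∈ H) : D4Fixed.X φ (s + t) ∈ H := by
  rw [← D4Perfect.X_mul]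
  exact mul_mem hs ht

omit [Fintype K] in
theorem V_neg {s : K} (hs : D4Fixed.X φ s ∈ H) : D4Fixed.X φ (-s) ∈ H := by
  rw [D4Twisted.X_neg]
  exact inv_mem hs

include hφ hMH in
omit [Fintype K] in
theorem V_smul {c s : K} (hc : φ c = c) (hs : D4Fixed.X φ s ∈ H) : D4Fixed.X φ (c * s) ∈ H := by
  by_cases hc0 : c = 0
  · rw [hc0, zero_mul, X_zero']
    exact one_mem _
  have hd0 : c⁻¹ ≠ 0 := inv_ne_zero hc0
  have hd : φ c⁻¹ = c⁻¹ := by rw [map_inv₀, hc]
  have h1 : Elts.hG hD4 14 c⁻¹ ∈ H := by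
    refine hMH _ ?_ (by rw [fr_hG, hd])
    rw [hG14_eq]
    exact D4Twisted.h14_mem hφ hd
  have e14 : chevD4.simple 1 = 14 := by decide +kernel
  have key : ∀ s, s < 24 → chevD4.cartan 1 s = -1 → ∀ a : K,
      Elts.hG hD4 14 c⁻¹ * X s a * (Elts.hG hD4 14 c⁻¹)⁻¹ = X s (c * a) := by
    intro s hs hcar a
    have h2 := BruhatSplit.hG_simple_conj hD4 (i := 1) (s := s) (by decide) hs hd0 a
    rw [e14, hcar, zpow_neg_one, inv_inv] at h2
    exact h2
  have e : Elts.hG hD4 14 c⁻¹ * D4Fixed.X φ s * (Elts.hG hD4 14 c⁻¹)⁻¹ = D4Fixed.X φ (c * s) := by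
    rw [Xt_eq, Xt_eq, map_mul, map_mul, hc, hc, ← key 18 (by norm_num) (by decide +kernel),
      ← key 13 (by norm_num) (by decide +kernel), ← key 12 (by norm_num) (by decide +kernel)]
    group
  rw [← e]
  exact mul_mem (mul_mem h1 hs) (inv_mem h1)

include hφ hMH in
omit [Fintype K] in
theorem V_fix {c : K} (hc : φ c = c) : D4Fixed.X φ c ∈ H := hMH _ (D4Fixed.X_mem hφ c) (fr_Xt hc)

include hφ hK hMH hHG in
/-- the quadratic map -/
theorem V_sharp {t : K} (hXt : D4Fixed.X φ t ∈ H) : D4Fixed.X φ (φ t * φ (φ t)) ∈ H := by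
  have W := tw hφ hK
  have O := ord (K := K) hD4 slD4 twD4
  have hXG : D4Fixed.X φ t ∈ twistedD4 K q := D4Fixed.X_mem hφ t
  have h14G : X 14 (1 : K) ∈ twistedD4 K q := D4U.xG14_mem hφ (map_one φ)
  have h14H : X 14 (1 : K) ∈ H := hMH _ h14G (by rw [fr_X, map_one])
  have hnaH : na K ∈ H := hMH _ (na_mem hφ) ((cls hφ hK).nh_fr 0)
  have L1 : ∀ r ∈ [14, 18, 13, 12], ∀ a : K, X r a ∈ Lv K hD4 slD4 1 := fun r hr a =>
    mem_Lv_X (by
      have : ∀ r ∈ [14, 18, 13, 12], r ∈ Lo.flatten := by decide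
      exact this r hr) (by rw [ht_one hr]) a
  -- the commutator
  obtain ⟨g, hg⟩ : ∃ g, g = ⁅X 14 (1 : K), D4Fixed.X φ t⁆ := ⟨_, rfl⟩
  have hgH : g ∈ H := by
    rw [hg, commutatorElement_def]
    exact mul_mem (mul_mem (mul_mem h14H hXt) (inv_mem h14H)) (inv_mem hXt)
  have hX1 : D4Fixed.X φ t ∈ Lv K hD4 slD4 1 := by rw [Lv_one]; exact Xt_mem_U t
  have hg2 : g ∈ Lv K hD4 slD4 2 := by
    rw [hg]
    exact comm_mem_Lv hD4 slD4 (m := 1) (n := 1) (L1 14 (by decide) 1) hX1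
  -- the level two coordinates
  have ht2 : ∀ γ ∈ [19, 16, 15], ht chevD4 γ = 1 + 1 := by decide +kernel
  have kk1 : kap chevD4 14 18 = 1 := by decide +kernel
  have kk2 : kap chevD4 14 13 = -1 := by decide +kernel
  have kk3 : kap chevD4 18 16 = -1 := by decide +kernel
  have cfc : ∀ γ ∈ [19, 16, 15], ∀ b ∈ Lv K hD4 slD4 1, cf γ ⁅X 14 (1 : K), b⁆ =
      ∑ s ∈ Lo.flatten.toFinset, if add chevD4 14 s = γ then (kap chevD4 14 s : K) * (1 * cf s b) else 0 := by
    intro γ hγ b hb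
    refine cf_comm_X_left hD4 slD4 O (pos_of_mem (by decide)) hb le_rfl ?_ ?_ 1
    · have : ∀ γ ∈ [19, 16, 15], γ ∈ Lo.flatten := by decide
      exact pos_of_mem (this γ hγ)
    · rw [ht2 γ hγ, ht_one (by decide)]
  have cf19 : ∀ b ∈ Lv K hD4 slD4 1, cf 19 ⁅X 14 (1 : K), b⁆ = cf 18 b := by
    intro b hb
    rw [cfc 19 (by decide) b hb, Finset.sum_eq_single 18]
    · have : add chevD4 14 18 = 19 := by decide +kernel
      rw [if_pos this, kk1]; simp
    · intro s hs hne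
      rw [if_neg]
      have : ∀ s ∈ Lo.flatten, s ≠ 18 → add chevD4 14 s ≠ 19 := by decide +kernel
      exact this s (List.mem_toFinset.1 hs) hne
    · intro h; exact absurd (List.mem_toFinset.2 (by decide)) h
  have cf16 : ∀ b ∈ Lv K hD4 slD4 1, cf 16 ⁅X 14 (1 : K), b⁆ = - cf 13 b := by
    intro b hb
    rw [cfc 16 (by decide) b hb, Finset.sum_eq_single 13]
    · have : add chevD4 14 13 = 16 := by decide +kernel
      rw [if_pos this, kk2]; simp
    · intro s hs hne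
      rw [if_neg]
      have : ∀ s ∈ Lo.flatten, s ≠ 13 → add chevD4 14 s ≠ 16 := by decide +kernel
      exact this s (List.mem_toFinset.1 hs) hne
    · intro h; exact absurd (List.mem_toFinset.2 (by decide)) h
  have hg19 : cf 19 g = t := by
    rw [hg, cf19 _ hX1, cf_Xt (by decide)]; simp
  -- the conjugate by `n_a`
  obtain ⟨a1, ha1, e1⟩ := na_X (K := K) (s := 18) (by norm_num)
  obtain ⟨a2, -, e2⟩ := na_X (K := K) (s := 13) (by norm_num)
  obtain ⟨a3, -, e3⟩ := na_X (K := K) (s := 12) (by norm_num)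
  have r1 : D4NCheck.rfl' 1 18 = 19 := by decide +kernel
  have r2 : D4NCheck.rfl' 1 13 = 16 := by decide +kernel
  have r3 : D4NCheck.rfl' 1 12 = 15 := by decide +kernel
  rw [r1] at e1
  rw [r2] at e2
  rw [r3] at e3
  obtain ⟨s, hs, hs1⟩ : ∃ s, D4Fixed.X φ s ∈ H ∧ a1 * s = t := by
    rcases ha1 with rfl | rfl
    · exact ⟨t, hXt, one_mul t⟩
    · exact ⟨-t, V_neg hXt, by ring⟩
  obtain ⟨y, hy⟩ : ∃ y, y = na K * D4Fixed.X φ s * (na K)⁻¹ := ⟨_, rfl⟩
  have hyH : y ∈ H := by rw [hy]; exact mul_mem (mul_mem hnaH hs) (inv_mem hnaH)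
  have ye : y = X 19 (a1 * s) * X 16 (a2 * φ s) * X 15 (a3 * φ (φ s)) := by
    rw [hy, Xt_eq, ← e1, ← e2, ← e3]; group
  have L2 : ∀ r ∈ [19, 16, 15], ∀ a : K, X r a ∈ Lv K hD4 slD4 2 := fun r hr a =>
    mem_Lv_X (by
      have : ∀ r ∈ [19, 16, 15], r ∈ Lo.flatten := by decide
      exact this r hr) (by rw [ht2 r hr]; norm_num) a
  have hy2 : y ∈ Lv K hD4 slD4 2 := by
    rw [ye]
    exact mul_mem (mul_mem (L2 19 (by decide) _) (L2 16 (by decide) _)) (L2 15 (by decide) _)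
  have cfy : ∀ r < 24, ht chevD4 r < 4 → cf r y = (if r = 19 then a1 * s else 0) + (if r = 16 then a2 * φ s else 0) +
      (if r = 15 then a3 * φ (φ s) else 0) := by
    intro r hr hr4
    rw [ye, cf_mul hD4 slD4 (m := 2) (n := 2) (mul_mem (L2 19 (by decide) _) (L2 16 (by decide) _))
      (L2 15 (by decide) _) (by omega), cf_mul hD4 slD4 (m := 2) (n := 2) (L2 19 (by decide) _) (L2 16 (by decide) _)
      (by omega), cf_X hr (by norm_num), cf_X hr (by norm_num), cf_X hr (by norm_num)]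
  have hy19 : cf 19 y = t := by
    rw [cfy 19 (by norm_num) (by decide +kernel)]; simp [hs1]
  have hyG := hHG hyH
  have hgG := hHG hgH
  -- all level two coordinates agree
  have rel : ∀ u ∈ twistedD4 K q, u ∈ Lv K hD4 slD4 2 → cf 16 u = -φ (cf 19 u) ∧ cf 15 u = φ (cf 16 u) := by
    intro u huG hu
    have h1 := rels hφ hK huG (r := 19) (by decide) (by rw [ht2 19 (by decide)]; exact hu)
    have h2 := rels hφ hK huG (r := 16) (by decide) (by rw [ht2 16 (by decide)]; exact hu)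
    have e4 : rho 19 = 16 := rfl
    have e5 : rho 16 = 15 := rfl
    have e6 : eps 19 = -1 := rfl
    have e7 : eps 16 = 1 := rfl
    rw [e4, e6] at h1
    rw [e5, e7] at h2
    constructor
    · rw [h1]; push_cast; ring
    · rw [h2]; push_cast; ring
  have hagree : ∀ r, chevD4.IsPosRoot r → ht chevD4 r = 2 → cf r y = cf r g := by
    intro r hr hr2
    have h3 : ∀ r ∈ Lo.flatten, ht chevD4 r = 2 → r = 19 ∨ r = 16 ∨ r = 15 := by decide +kernel
    obtain ⟨g1, g2⟩ := rel g hgG hg2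
    obtain ⟨y1, y2⟩ := rel y hyG hy2
    rcases h3 r ((isPosRoot_iff twD4 r).2 hr) hr2 with rfl | rfl | rfl
    · rw [hy19, hg19]
    · rw [g1, y1, hy19, hg19]
    · rw [g2, y2, g1, y1, hy19, hg19]
  have hu3 : y⁻¹ * g ∈ Lv K hD4 slD4 3 := by
    refine mem_Lv_succ hD4 slD4 O (m := 2) (mul_mem (inv_mem hy2) hg2) fun r hr hr2 => ?_
    rw [cf_mul_left hD4 slD4 (by rw [hr2]; exact inv_mem hy2) hg2.1, cf_inv hD4 slD4 (by rw [hr2]; exact hy2),
      hagree r hr hr2]
    ring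
  -- the coordinate at 21
  have hX18 := L1 18 (by decide) t
  have hX13 := L1 13 (by decide) (φ t)
  have hX12 := L1 12 (by decide) (φ (φ t))
  have ht21 : ht chevD4 21 = 3 := by decide +kernel
  have h21g : cf 21 g = t * φ t := by
    have single : ∀ r ∈ [18, 13, 12], ∀ a : K, cf 21 ⁅X 14 (1 : K), X r a⁆ = 0 := by
      intro r hr a
      have hr' : ∀ r ∈ [18, 13, 12], r < 24 ∧ r ≠ 14 ∧ r ≠ chevD4.neg 14 ∧ add chevD4 14 r ∈ [19, 16, 15] := by
        decide +kernel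
      obtain ⟨q1, q2, q3, q4⟩ := hr' r hr
      have hXr : X r a ∈ Lv K hD4 slD4 1 := L1 r (by
        have : ∀ r ∈ [18, 13, 12], r ∈ [14, 18, 13, 12] := by decide
        exact this r hr) a
      have hne : ∀ s ∈ [19, 16, 15], (21 : ℕ) ≠ s ∧ s < 24 := by decide
      have hYY := L2 _ q4 ((kap chevD4 14 r : K) * (1 * a))
      have eq1 : X r a * X (add chevD4 14 r) ((kap chevD4 14 r : K) * (1 * a)) * (X r a)⁻¹ =
          X (add chevD4 14 r) ((kap chevD4 14 r : K) * (1 * a)) := by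
        have hc : Commute (X r a : GL chevD4.Idx K) (X (add chevD4 14 r) ((kap chevD4 14 r : K) * (1 * a))) := by
          rw [← commutatorElement_eq_one_iff_commute]
          have t1 : ∀ r ∈ [18, 13, 12], add chevD4 14 r ≠ r ∧ add chevD4 14 r ≠ chevD4.neg r ∧
            add chevD4 r (add chevD4 14 r) = 24 := by decide +kernel
          obtain ⟨t2, t3, t4⟩ := t1 r hr
          rw [comm_X hD4 slD4 q1 (hne _ q4).2 t2 t3, t4, Elts.xG_of_not_lt hD4 (r := 24) (by decide), mul_one, mul_inv_cancel]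
        rw [hc.eq]
        group
      rw [comm_X hD4 slD4 (by decide) q1 q2 q3, eq1, cf_X (by norm_num) (hne _ q4).2, if_neg (hne _ q4).1]
    -- the expansion `⁅x, ab⁆ = ⁅x, a⁆ ⁅a, ⁅x, b⁆⁆ ⁅x, b⁆`
    have expand : ∀ a b : GL chevD4.Idx K, a ∈ Lv K hD4 slD4 1 → b ∈ Lv K hD4 slD4 1 →
        cf 21 ⁅X 14 (1 : K), a * b⁆ = cf 21 ⁅X 14 (1 : K), a⁆ + cf 21 ⁅a, ⁅X 14 (1 : K), b⁆⁆ +
          cf 21 ⁅X 14 (1 : K), b⁆ := by
      intro a b ha hb
      have e4 : ⁅X 14 (1 : K), a * b⁆ = ⁅X 14 (1 : K), a⁆ * (⁅a, ⁅X 14 (1 : K), b⁆⁆ * ⁅X 14 (1 : K), b⁆) := by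
        simp only [commutatorElement_def]; group
      have m1 := comm_mem_Lv hD4 slD4 (m := 1) (n := 1) (L1 14 (by decide) 1) ha
      have m2 := comm_mem_Lv hD4 slD4 (m := 1) (n := 1) (L1 14 (by decide) 1) hb
      have m3 := comm_mem_Lv hD4 slD4 ha m2
      rw [e4, cf_mul hD4 slD4 m1 (mul_mem (Lv_anti hD4 slD4 (by norm_num) m3) m2) (by rw [ht21]; norm_num),
        cf_mul hD4 slD4 (m := 1 + (1 + 1)) (n := 1 + 1) m3 m2 (by rw [ht21]; norm_num)]
      ring
    have pair : ∀ r ∈ [18, 13], ∀ (a : K) (c : GL chevD4.Idx K), c ∈ Lv K hD4 slD4 2 →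
        cf 21 ⁅X r a, c⁆ = if r = 18 then -(a * cf 16 c) else a * cf 19 c := by
      intro r hr a c hc
      have hrL : r ∈ Lo.flatten := by
        have : ∀ r ∈ [18, 13], r ∈ Lo.flatten := by decide
        exact this r hr
      rw [cf_comm_X_left hD4 slD4 O (pos_of_mem hrL) hc (by norm_num) (pos_of_mem (by decide))
        (by rw [ht21, ht_one (by
          have : ∀ r ∈ [18, 13], r ∈ [14, 18, 13, 12] := by decide
          exact this r hr)]; norm_num)]
      simp only [List.mem_cons, List.not_mem_nil, or_false] at hr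
      rcases hr with rfl | rfl
      · rw [if_pos rfl, Finset.sum_eq_single 16]
        · have : add chevD4 18 16 = 21 := by decide +kernel
          rw [if_pos this, kk3]; push_cast; ring
        · intro s hs hne
          rw [if_neg]
          have : ∀ s ∈ Lo.flatten, s ≠ 16 → add chevD4 18 s ≠ 21 := by decide +kernel
          exact this s (List.mem_toFinset.1 hs) hne
        · intro h; exact absurd (List.mem_toFinset.2 (by decide)) h
      · rw [if_neg (by norm_num), Finset.sum_eq_single 19]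
        · have : add chevD4 13 19 = 21 := by decide +kernel
          have k4 : kap chevD4 13 19 = 1 := by decide +kernel
          rw [if_pos this, k4]; push_cast; ring
        · intro s hs hne
          rw [if_neg]
          have : ∀ s ∈ Lo.flatten, s ≠ 19 → add chevD4 13 s ≠ 21 := by decide +kernel
          exact this s (List.mem_toFinset.1 hs) hne
        · intro h; exact absurd (List.mem_toFinset.2 (by decide)) h
    have m12 := comm_mem_Lv hD4 slD4 (m := 1) (n := 1) (L1 14 (by decide) 1) hX12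
    have mb : X 13 (φ t) * X 12 (φ (φ t)) ∈ Lv K hD4 slD4 1 := mul_mem hX13 hX12
    have mbc := comm_mem_Lv hD4 slD4 (m := 1) (n := 1) (L1 14 (by decide) 1) mb
    rw [hg, Xt_eq, mul_assoc, expand _ _ hX18 mb, expand _ _ hX13 hX12, single 18 (by decide), single 13 (by decide),
      single 12 (by decide), pair 18 (by decide) _ _ mbc, pair 13 (by decide) _ _ m12, if_pos rfl,
      if_neg (by norm_num), cf16 _ mb, cf19 _ hX12,
      cf_mul_left hD4 slD4 (by rw [ht_one (by decide)]; exact hX13) hX12.1, cf_X (by norm_num) (by norm_num),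
      cf_X (by norm_num) (by norm_num), cf_X (by norm_num) (by norm_num)]
    simp
  have h21 : cf 21 (y⁻¹ * g) = t * φ t := by
    rw [cf_mul hD4 slD4 (m := 2) (n := 2) (inv_mem hy2) hg2 (by rw [ht21]; norm_num), h21g]
    have h5 : cf 21 (y⁻¹) = 0 := by
      have h6 := cf_mul hD4 slD4 (r := 21) (m := 2) (n := 2) (inv_mem hy2) hy2 (by rw [ht21]; norm_num)
      rw [inv_mul_cancel, cf_one, cfy 21 (by norm_num) (by decide +kernel)] at h6
      simpa using h6.symm
    rw [h5, zero_add]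
  obtain ⟨s', hs', he⟩ := top hφ hK hMH hHG (mul_mem (inv_mem hyH) hgH) hu3
  obtain ⟨ζ, hζ, h7⟩ := cf21 (K := K)
  have h8 := cf_lead hD4 slD4 O (r := 21) (pos_of_mem (by decide)) (y⁻¹ * g)
  rw [ht21, he, h7, h21] at h8
  have h9 : φ (t * φ t) = ζ * s' := by
    rw [← h8, map_mul, phi3 hK hφ]
    rcases hζ with rfl | rfl
    · rw [map_one]
    · rw [map_neg, map_one]
  rw [map_mul] at h9
  rw [h9]
  rcases hζ with rfl | rfl
  · rwa [one_mul]
  · rw [neg_one_mul]
    exact V_neg hs'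

include hφ hK hMH hHG in
theorem V_inv {t : K} (hXt : D4Fixed.X φ t ∈ H) : D4Fixed.X φ t⁻¹ ∈ H := by
  by_cases h0 : t = 0
  · rw [h0, inv_zero, X_zero']
    exact one_mem _
  have h1 : φ t ≠ 0 := (map_ne_zero φ).2 h0
  have h2 : φ (φ t) ≠ 0 := (map_ne_zero φ).2 h1
  have h3 : φ (t * φ t * φ (φ t))⁻¹ = (t * φ t * φ (φ t))⁻¹ := by
    rw [map_inv₀, map_mul, map_mul, phi3 hK hφ]
    congr 1
    ring
  have h4 := V_smul hφ hMH h3 (V_sharp hφ hK hMH hHG hXt)
  have e : (t * φ t * φ (φ t))⁻¹ * (φ t * φ (φ t)) = t⁻¹ := by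
    field_simp
  rwa [e] at h4

include hφ hK hMH hHG in
theorem V_sq {t : K} (hXt : D4Fixed.X φ t ∈ H) (h0 : t ≠ 0) (h1 : t ≠ 1) : D4Fixed.X φ (t ^ 2) ∈ H := by
  have i1 := V_inv hφ hK hMH hHG hXt
  have h2 : D4Fixed.X φ (1 - t) ∈ H := by
    rw [sub_eq_add_neg]
    exact V_add (V_fix hφ hMH (map_one φ)) (V_neg hXt)
  have i2 := V_inv hφ hK hMH hHG h2
  have i3 := V_inv hφ hK hMH hHG (V_add i1 i2)
  have h3 : (1 : K) - t ≠ 0 := sub_ne_zero.2 (Ne.symm h1)
  have e : t + -(t⁻¹ + (1 - t)⁻¹)⁻¹ = t ^ 2 := by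
    have e1 : t⁻¹ + (1 - t)⁻¹ = (t * (1 - t))⁻¹ := by
      field_simp
      ring
    rw [e1, inv_inv]
    ring
  rw [← e]
  exact V_add hXt (V_neg i3)

omit [Fintype K] in
/-- `1, t, t²` are independent over the fixed field -/
theorem indep (h3 : ∀ x, φ (φ (φ x)) = x) {t : K} (ht : φ t ≠ t) {a b c : K} (ha : φ a = a) (hb : φ b = b)
    (hc : φ c = c) (h : a + b * t + c * t ^ 2 = 0) : a = 0 ∧ b = 0 ∧ c = 0 := by
  have h1 : a + b * φ t + c * φ t ^ 2 = 0 := by
    have := congrArg φ h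
    rwa [map_add, map_add, map_mul, map_mul, map_pow, ha, hb, hc, map_zero] at this
  have h2 : a + b * φ (φ t) + c * φ (φ t) ^ 2 = 0 := by
    have := congrArg φ h1
    rwa [map_add, map_add, map_mul, map_mul, map_pow, ha, hb, hc, map_zero] at this
  have n1 : t - φ t ≠ 0 := sub_ne_zero.2 (Ne.symm ht)
  have n2 : t - φ (φ t) ≠ 0 := by
    refine sub_ne_zero.2 fun e => ht ?_
    have := congrArg φ e
    rw [h3] at this
    exact this
  have n3 : φ t - φ (φ t) ≠ 0 := by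
    refine sub_ne_zero.2 fun e => ht ?_
    exact (φ.injective e).symm
  have e1 : b + c * (t + φ t) = 0 := by
    apply mul_left_cancel₀ n1
    linear_combination h - h1
  have e2 : b + c * (t + φ (φ t)) = 0 := by
    apply mul_left_cancel₀ n2
    linear_combination h - h2
  have hc0 : c = 0 := by
    apply mul_left_cancel₀ n3
    linear_combination e1 - e2
  subst hc0
  have hb0 : b = 0 := by simpa using e1
  subst hb0
  exact ⟨by simpa using h, rfl, rfl⟩

include hφ hK in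
theorem span {t : K} (ht : φ t ≠ t) (hq : 1 < q) (x : K) :
    ∃ a b c : K, φ a = a ∧ φ b = b ∧ φ c = c ∧ x = a + b * t + c * t ^ 2 := by
  classical
  have h3 := phi3 hK hφ
  let F := {a : K // φ a = a}
  have hF : Nat.card F = q := D4U.card_fix_field hq hK hφ
  let f : F × F × F → K := fun v => v.1.1 + v.2.1.1 * t + v.2.2.1 * t ^ 2
  have hinj : Function.Injective f := by
    rintro ⟨⟨a, ha⟩, ⟨b, hb⟩, ⟨c, hc⟩⟩ ⟨⟨a', ha'⟩, ⟨b', hb'⟩, ⟨c', hc'⟩⟩ h
    have h : a + b * t + c * t ^ 2 = a' + b' * t + c' * t ^ 2 := h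
    obtain ⟨h1, h2, h4⟩ := indep (φ := φ) h3 ht (a := a - a') (b := b - b') (c := c - c') (by rw [map_sub, ha, ha'])
      (by rw [map_sub, hb, hb']) (by rw [map_sub, hc, hc']) (by linear_combination h)
    rw [sub_eq_zero] at h1 h2 h4
    subst h1 h2 h4
    rfl
  have hcard : Nat.card K ≤ Nat.card (F × F × F) := by
    rw [Nat.card_prod, Nat.card_prod, hF, Nat.card_eq_fintype_card, hK]
    apply le_of_eq
    ring
  have hbij := hinj.bijective_of_nat_card_le hcard
  obtain ⟨⟨a, b, c⟩, h⟩ := hbij.2 x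
  exact ⟨a.1, b.1, c.1, a.2, b.2, c.2, h.symm⟩

include hφ hK hMH hHG in
theorem V_all {t : K} (hXt : D4Fixed.X φ t ∈ H) (ht : φ t ≠ t) (hq : 1 < q) (x : K) : D4Fixed.X φ x ∈ H := by
  have h0 : t ≠ 0 := by rintro rfl; exact ht (map_zero φ)
  have h1 : t ≠ 1 := by rintro rfl; exact ht (map_one φ)
  obtain ⟨a, b, c, ha, hb, hc, rfl⟩ := span hφ hK ht hq x
  exact V_add (V_add (V_fix hφ hMH ha) (V_smul hφ hMH hb hXt))
    (V_smul hφ hMH hc (V_sq hφ hK hMH hHG hXt h0 h1))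

include hφ hK hMH hHG in
/-- a bad parameter gives everything -/
theorem all_of_bad {t : K} (hXt : D4Fixed.X φ t ∈ H) (ht : φ t ≠ t) (hq : 1 < q) : H = twistedD4 K q := by
  have hX := V_all hφ hK hMH hHG hXt ht hq
  have hnbH : nb K ∈ H := hMH _ (nb_mem hφ) ((cls hφ hK).nh_fr 1)
  refine le_antisymm hHG (twisted_induction hφ ?_ ?_ hX ?_)
  · intro s hs
    refine hMH _ (D4Fixed.x14_mem ((hφ s).symm.trans hs)) ?_
    rw [← X_eqU, fr_X, hs]
  · intro s hs
    refine hMH _ (D4Fixed.x9_mem ((hφ s).symm.trans hs)) ?_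
    rw [← X_eqU, fr_X, hs]
  · intro s
    have hY : D4Fixed.Y φ s ∈ D4U.RS K [5, 10, 11] := by
      unfold D4Fixed.Y
      rw [D4U.xU_eq, D4U.xU_eq, D4U.xU_eq]
      exact mul_mem (mul_mem (mem_rspan _ (S := {k | k ∈ [5, 10, 11]}) (by simp) _)
        (mem_rspan _ (S := {k | k ∈ [5, 10, 11]}) (by simp) _))
        (mem_rspan _ (S := {k | k ∈ [5, 10, 11]}) (by simp) _)
    have h1 : (nb K)⁻¹ * D4Fixed.Y φ s * nb K ∈ D4U.RS K [18, 13, 12] :=
      D4Twisted.nb_inv_RS K (by decide +kernel) hY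
    have h2 : (nb K)⁻¹ * D4Fixed.Y φ s * nb K ∈ twistedD4 K q :=
      mul_mem (mul_mem (inv_mem (nb_mem hφ)) (D4Fixed.Y_mem hφ s)) (nb_mem hφ)
    obtain ⟨a, ha⟩ := D4U.RS_outer_fix h1 (twisted_le_fix hK hφ h2)
    have e : D4Fixed.Y φ s = nb K * D4Fixed.X φ a * (nb K)⁻¹ := by rw [← ha]; group
    rw [e]
    exact mul_mem (mul_mem hnbH (hX a)) (inv_mem hnbH)

include hφ hK hMH hHG in
/-- Step A -/
theorem good3 (hq : 1 < q) (hne : H ≠ twistedD4 K q) {u : GL chevD4.Idx K} (huH : u ∈ H)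
    (hu : u ∈ Lv K hD4 slD4 3) {r : ℕ} (hr : chevD4.IsPosRoot r) (hr3 : ht chevD4 r = 3) : φ (cf r u) = cf r u := by
  obtain ⟨t, ht, he⟩ := top hφ hK hMH hHG huH hu
  have ht' : φ t = t := by
    by_contra h
    exact hne (all_of_bad hφ hK hMH hHG ht h hq)
  have h1 : fr chevD4 φ (lead hD4 Lo.flatten 3 u) = lead hD4 Lo.flatten 3 u := by
    rw [he, map_mul, map_mul, map_inv, map_mul, fr_Xt ht', na_eq, nb_eq, map_mul, map_mul, fr_nG, fr_nG, fr_nG, fr_nG]
  have h2 := cf_lead hD4 slD4 (ord (K := K) hD4 slD4 twD4) (r := r) hr u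
  rw [hr3] at h2
  rw [← h2]
  exact cf_of_fr φ h1

include hφ hK hHG in
theorem good_fixed {r : ℕ} (hr : r ∈ [14, 22, 23]) {u : GL chevD4.Idx K} (huH : u ∈ H)
    (hu : u ∈ Lv K hD4 slD4 (ht chevD4 r)) : φ (cf r u) = cf r u := by
  have h1 : ∀ r ∈ [14, 22, 23], r ∈ Lo.flatten ∧ rho r = r ∧ eps r = 1 := by decide
  obtain ⟨h2, h3, h4⟩ := h1 r hr
  have h5 := rels hφ hK (hHG huH) h2 hu
  rw [h3, h4, Int.cast_one, one_mul] at h5
  exact h5.symm

include hφ hK hMH hHG in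
theorem good2 (hq : 1 < q) (hne : H ≠ twistedD4 K q) {u : GL chevD4.Idx K} (huH : u ∈ H)
    (hu : u ∈ Lv K hD4 slD4 2) {r : ℕ} (hr : chevD4.IsPosRoot r) (hr2 : ht chevD4 r = 2) : φ (cf r u) = cf r u := by
  have O := ord (K := K) hD4 slD4 twD4
  have huG := hHG huH
  have ht2 : ∀ γ ∈ [19, 16, 15], ht chevD4 γ = 2 := by decide +kernel
  have h1 := rels hφ hK huG (r := 19) (by decide) (by rw [ht2 19 (by decide)]; exact hu)
  have h2 := rels hφ hK huG (r := 16) (by decide) (by rw [ht2 16 (by decide)]; exact hu)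
  have e4 : rho 19 = 16 := rfl
  have e5 : rho 16 = 15 := rfl
  have e6 : eps 19 = -1 := rfl
  have e7 : eps 16 = 1 := rfl
  rw [e4, e6] at h1
  rw [e5, e7] at h2
  push_cast at h1 h2
  -- commutator with `X(1)`
  have hX1H : D4Fixed.X φ 1 ∈ H := V_fix hφ hMH (map_one φ)
  have hX1 : D4Fixed.X φ (1 : K) ∈ Lv K hD4 slD4 1 := by rw [Lv_one]; exact Xt_mem_U 1
  have hgH : ⁅D4Fixed.X φ (1 : K), u⁆ ∈ H := by
    rw [commutatorElement_def]
    exact mul_mem (mul_mem (mul_mem hX1H huH) (inv_mem hX1H)) (inv_mem huH)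
  have hg3 : ⁅D4Fixed.X φ (1 : K), u⁆ ∈ Lv K hD4 slD4 3 := comm_mem_Lv hD4 slD4 (m := 1) (n := 2) hX1 hu
  have ht21 : ht chevD4 21 = 3 := by decide +kernel
  have h3 := good3 hφ hK hMH hHG hq hne hgH hg3 (r := 21) (pos_of_mem (by decide)) ht21
  have L1 : ∀ r ∈ [14, 18, 13, 12], ∀ a : K, X r a ∈ Lv K hD4 slD4 1 := fun r hr a =>
    mem_Lv_X (by
      have : ∀ r ∈ [14, 18, 13, 12], r ∈ Lo.flatten := by decide
      exact this r hr) (by rw [ht_one hr]) a
  have hsum : ∀ j ∈ [18, 13, 12], ∀ a : K, cf 21 ⁅X j a, u⁆ =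
      ∑ s ∈ Lo.flatten.toFinset, if add chevD4 j s = 21 then (kap chevD4 j s : K) * (a * cf s u) else 0 := by
    intro j hj a
    have hj' : ∀ j ∈ [18, 13, 12], j ∈ [14, 18, 13, 12] ∧ j ∈ Lo.flatten := by decide
    exact cf_comm_X_left hD4 slD4 O (pos_of_mem (hj' j hj).2) hu (by norm_num) (pos_of_mem (by decide))
      (by rw [ht21, ht_one (hj' j hj).1]; norm_num) a
  have s18 : cf 21 ⁅X 18 (1 : K), u⁆ = - cf 16 u := by
    rw [hsum 18 (by decide), Finset.sum_eq_single 16]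
    · have h5 : add chevD4 18 16 = 21 := by decide +kernel
      have h6 : kap chevD4 18 16 = -1 := by decide +kernel
      rw [if_pos h5, h6]; simp
    · intro s hs hne
      rw [if_neg]
      have : ∀ s ∈ Lo.flatten, s ≠ 16 → add chevD4 18 s ≠ 21 := by decide +kernel
      exact this s (List.mem_toFinset.1 hs) hne
    · intro h; exact absurd (List.mem_toFinset.2 (by decide)) h
  have s13 : cf 21 ⁅X 13 (φ 1 : K), u⁆ = cf 19 u := by
    rw [hsum 13 (by decide), Finset.sum_eq_single 19]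
    · have h5 : add chevD4 13 19 = 21 := by decide +kernel
      have h6 : kap chevD4 13 19 = 1 := by decide +kernel
      rw [if_pos h5, h6]; simp
    · intro s hs hne
      rw [if_neg]
      have : ∀ s ∈ Lo.flatten, s ≠ 19 → add chevD4 13 s ≠ 21 := by decide +kernel
      exact this s (List.mem_toFinset.1 hs) hne
    · intro h; exact absurd (List.mem_toFinset.2 (by decide)) h
  have s12 : cf 21 ⁅X 12 (φ (φ 1) : K), u⁆ = 0 := by
    rw [hsum 12 (by decide)]
    refine Finset.sum_eq_zero fun s hs => ?_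
    rw [if_neg]
    have : ∀ s ∈ Lo.flatten, add chevD4 12 s ≠ 21 := by decide +kernel
    exact this s (List.mem_toFinset.1 hs)
  have h4 : cf 21 ⁅D4Fixed.X φ (1 : K), u⁆ = -cf 16 u + cf 19 u := by
    rw [Xt_eq, cf_comm_mul_left hD4 slD4 (m := 1) (n := 2) (mul_mem (L1 18 (by decide) _) (L1 13 (by decide) _))
      (L1 12 (by decide) _) hu le_rfl (by rw [ht21]; norm_num),
      cf_comm_mul_left hD4 slD4 (m := 1) (n := 2) (L1 18 (by decide) _) (L1 13 (by decide) _) hu le_rfl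
      (by rw [ht21]; norm_num), s18, s13, s12]
    ring
  rw [h4] at h3
  -- `c₁₆ = - φ c₁₉`
  have h5 : φ (cf 19 u) = cf 19 u := by
    rw [h1, map_add, map_neg, map_mul, map_neg, map_one] at h3
    have h6 : φ (φ (cf 19 u)) = cf 19 u := by linear_combination h3
    have h7 := phi3 hK hφ (cf 19 u)
    rw [h6] at h7
    exact h7
  have h6 : φ (cf 16 u) = cf 16 u := by rw [h1, map_mul, map_neg, map_one, h5, h5]
  have h7 : φ (cf 15 u) = cf 15 u := by rw [h2, map_mul, map_one, h6, h6]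
  have h8 : ∀ r ∈ Lo.flatten, ht chevD4 r = 2 → r = 19 ∨ r = 16 ∨ r = 15 := by decide +kernel
  rcases h8 r ((isPosRoot_iff twD4 r).2 hr) hr2 with rfl | rfl | rfl
  · exact h5
  · exact h6
  · exact h7

include hφ hK hMH hHG in
theorem good1 (hq : 1 < q) (hne : H ≠ twistedD4 K q) {u : GL chevD4.Idx K} (huH : u ∈ H)
    (hu : u ∈ Lv K hD4 slD4 1) {r : ℕ} (hr : r ∈ [18, 13, 12]) : φ (cf r u) = cf r u := by
  have O := ord (K := K) hD4 slD4 twD4
  have h14G : X 14 (1 : K) ∈ twistedD4 K q := D4U.xG14_mem hφ (map_one φ)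
  have h14H : X 14 (1 : K) ∈ H := hMH _ h14G (by rw [fr_X, map_one])
  have h14 : X 14 (1 : K) ∈ Lv K hD4 slD4 1 := mem_Lv_X (by decide) (by decide +kernel) 1
  have hgH : ⁅X 14 (1 : K), u⁆ ∈ H := by
    rw [commutatorElement_def]
    exact mul_mem (mul_mem (mul_mem h14H huH) (inv_mem h14H)) (inv_mem huH)
  have hg2 : ⁅X 14 (1 : K), u⁆ ∈ Lv K hD4 slD4 2 := comm_mem_Lv hD4 slD4 (m := 1) (n := 1) h14 hu
  have h1 : ∀ r ∈ [18, 13, 12], add chevD4 14 r ∈ Lo.flatten ∧ ht chevD4 (add chevD4 14 r) = 2 ∧ r ∈ Lo.flatten ∧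
      (kap chevD4 14 r = 1 ∨ kap chevD4 14 r = -1) ∧
      ∀ s ∈ Lo.flatten, s ≠ r → add chevD4 14 s ≠ add chevD4 14 r := by decide +kernel
  obtain ⟨h2, h3, h4, h5, h6⟩ := h1 r hr
  have h7 := good2 hφ hK hMH hHG hq hne hgH hg2 (pos_of_mem h2) h3
  rw [cf_comm_X_left hD4 slD4 O (pos_of_mem (by decide)) hu le_rfl (pos_of_mem h2)
    (by rw [h3, ht_one (by decide)]; norm_num), Finset.sum_eq_single r] at h7
  · rw [if_pos rfl, map_mul, map_intCast, one_mul] at h7
    have h8 : (kap chevD4 14 r : K) ≠ 0 := by rcases h5 with h5 | h5 <;> rw [h5] <;> simp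
    exact mul_left_cancel₀ h8 h7
  · intro s hs hne
    rw [if_neg (h6 s (List.mem_toFinset.1 hs) hne)]
  · intro h; exact absurd (List.mem_toFinset.2 h4) h

include hφ hK hMH hHG in
theorem hA (hq : 1 < q) (hne : H ≠ twistedD4 K q) : ∀ u ∈ H, u ∈ chevD4.posUnipotent K → fr chevD4 φ u = u := by
  refine stepA (tw hφ hK) hMH hHG fun m u huH hu r hr hrm => ?_
  have h1 : ∀ r ∈ Lo.flatten, r ∈ [14, 22, 23] ∨ (ht chevD4 r = 1 ∧ r ∈ [18, 13, 12]) ∨ ht chevD4 r = 2 ∨
    ht chevD4 r = 3 := by decide +kernel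
  rcases h1 r ((isPosRoot_iff twD4 r).2 hr) with h2 | ⟨h2, h3⟩ | h2 | h2
  · exact good_fixed hφ hK hHG h2 huH (by rw [hrm]; exact hu)
  · rw [hrm] at h2
    subst h2
    exact good1 hφ hK hMH hHG hq hne huH hu h3
  · rw [hrm] at h2
    subst h2
    exact good2 hφ hK hMH hHG hq hne huH hu hr hrm
  · rw [hrm] at h2
    subst h2
    exact good3 hφ hK hMH hHG hq hne huH hu hr hrm

include hφ hK hMH hHG in
theorem key (hq : 1 < q) (hne : H ≠ twistedD4 K q) (w : List ℕ) (b n u : GL chevD4.Idx K)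
    (hb : b ∈ chevD4.borelSubgroup K) (hn : NW rho (twistedD4 K q) n w)
    (hu : u ∈ chevD4.posUnipotent K) (huG : u ∈ twistedD4 K q) (hg : b * n * u ∈ H) :
    (∀ i < chevD4.rank, chevD4.IsPosRoot (wact chevD4 w (chevD4.simple i))) ∨
      ∃ i, (∀ j ∈ J i, chevD4.IsNegRoot (wact chevD4 w (chevD4.simple j))) ∧
        ∀ j ∈ J i, φ (cf (chevD4.simple j) u) = cf (chevD4.simple j) u := by
  have W := tw hφ hK
  have Gd := RootComb.good_of_mem hD4
  have hA' := hA hφ hK hMH hHG hq hne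
  have hcl : ∀ o ∈ cl, ∀ j ∈ o, j < chevD4.rank := by decide
  have horb : ∀ o ∈ cl, ∀ j ∈ o, ∀ j' ∈ o, ∃ k, rho^[k] (chevD4.simple j) = chevD4.simple j' := by
    have : ∀ o ∈ cl, ∀ j ∈ o, ∀ j' ∈ o, ∃ k < 3, rho^[k] (chevD4.simple j) = chevD4.simple j' := by decide +kernel
    intro o ho j hj j' hj'
    obtain ⟨k, -, hk⟩ := this o ho j hj j' hj'
    exact ⟨k, hk⟩
  have h23H : X 23 (1 : K) ∈ H := by
    refine hMH _ (W.U_fix _ (Elts.xG_mem_posUnipotent hD4 (pos_of_mem (by decide)) _) ?_) (by rw [fr_X, map_one])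
    rw [W.sg_X 23 (pos_of_mem (by decide))]
    have e1 : rho 23 = 23 := rfl
    have e2 : eps 23 = 1 := rfl
    rw [e1, e2, map_one, Int.cast_one, one_mul]
  have h22H : X 22 (1 : K) ∈ H := by
    refine hMH _ (W.U_fix _ (Elts.xG_mem_posUnipotent hD4 (pos_of_mem (by decide)) _) ?_) (by rw [fr_X, map_one])
    rw [W.sg_X 22 (pos_of_mem (by decide))]
    have e1 : rho 22 = 22 := rfl
    have e2 : eps 22 = 1 := rfl
    rw [e1, e2, map_one, Int.cast_one, one_mul]
  have hfin : (∃ o ∈ cl, (∀ j ∈ o, chevD4.IsNegRoot (wact chevD4 w (chevD4.simple j))) ∧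
      ∀ j ∈ o, φ (cf (chevD4.simple j) u) = cf (chevD4.simple j) u) →
      ∃ i, (∀ j ∈ J i, chevD4.IsNegRoot (wact chevD4 w (chevD4.simple j))) ∧
        ∀ j ∈ J i, φ (cf (chevD4.simple j) u) = cf (chevD4.simple j) u := by
    rintro ⟨o, ho, h1, h2⟩
    have : ∀ o ∈ cl, ∃ i, J i = o := by decide
    obtain ⟨i, rfl⟩ := this o ho
    exact ⟨i, h1, h2⟩
  by_cases hw0 : wact chevD4 w 23 = 23
  · by_cases hw1 : wact chevD4 w 22 = 22
    · left
      intro i hi
      have hsl := Gd.simple_lt hi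
      rcases RootWord.pos_or_neg Gd (RootWord.wact_lt Gd hn.lt hsl) with hp | hp
      · exact hp
      · exfalso
        have hneg := (RootWord.isPosRoot_neg Gd (RootWord.wact_lt Gd hn.lt hsl)).2 hp
        have hnlt := RootWord.neg_lt Gd (RootWord.wact_lt Gd hn.lt hsl)
        have c0 := RootWord.car_wact Gd hn.lt hsl (s := 23) (by decide)
        have c1 := RootWord.car_wact Gd hn.lt hsl (s := 22) (by decide)
        rw [hw0] at c0
        rw [hw1] at c1
        have d0 := RootWord.car_neg_left Gd (RootWord.wact_lt Gd hn.lt hsl) 23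
        have d1 := RootWord.car_neg_left Gd (RootWord.wact_lt Gd hn.lt hsl) 22
        have l0 := lp0 _ hnlt hneg (by simp)
        have t1 : ∀ i < 4, 0 ≤ car chevD4 (chevD4.simple i) 23 ∧ (car chevD4 (chevD4.simple i) 23 = 0 →
          0 < car chevD4 (chevD4.simple i) 22) := by decide +kernel
        obtain ⟨t2, t3⟩ := t1 i hi
        by_cases hz : car chevD4 (chevD4.simple i) 23 = 0
        · have l1 := lp1 _ hnlt hneg (by
            intro d hd
            rw [List.mem_singleton] at hd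
            subst hd
            rw [d0, c0, hz, neg_zero])
          have := t3 hz
          omega
        · omega
    · right
      apply hfin
      exact stage W hA' stage1 lp1 hcl horb (by simp) (by simp) (by decide) (pos_of_mem (by decide)) rfl
        (by
          intro s hs h1
          have : ∀ s ∈ Lo.flatten, ht chevD4 s = ht chevD4 22 → s = 22 := by decide +kernel
          exact this s ((isPosRoot_iff twD4 s).2 hs) h1) h22H
        (by
          intro s hs h1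
          have : ∀ s ∈ Lo.flatten, ht chevD4 22 + 1 ≤ ht chevD4 s → s ∈ [23] := by decide +kernel
          exact this s ((isPosRoot_iff twD4 s).2 hs) h1) hb hn hu huG hg
        (by
          intro d hd
          rw [List.mem_singleton] at hd
          subst hd
          exact hw0) hw1
  · right
    apply hfin
    exact stage W hA' stage0 lp0 hcl horb
      (by
        intro β hβ
        rw [List.mem_singleton] at hβ
        subst hβ
        exact ⟨pos_of_mem (by decide), h23H⟩)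
      (by
        intro _ s hs
        have : ∀ s ∈ Lo.flatten, ht chevD4 s ≤ ht chevD4 23 := by decide +kernel
        exact this s ((isPosRoot_iff twD4 s).2 hs)) (by simp) (pos_of_mem (by decide)) rfl
      (by
        intro s hs h1
        have : ∀ s ∈ Lo.flatten, ht chevD4 s = ht chevD4 23 → s = 23 := by decide +kernel
        exact this s ((isPosRoot_iff twD4 s).2 hs) h1) h23H
      (by
        intro s hs h1
        have : ∀ s ∈ Lo.flatten, ¬ (ht chevD4 23 + 1 ≤ ht chevD4 s) := by decide +kernel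
        exact absurd h1 (this s ((isPosRoot_iff twD4 s).2 hs))) hb hn hu huG hg (by simp) hw0

include hφ hK hMH hHG in
/-- a subgroup between the subfield subgroup and `³D₄(q)` -/
theorem dichotomy (hq : 1 < q) (hne : H ≠ twistedD4 K q) : ∀ g ∈ H, fr chevD4 φ g = g := by
  have hle := twisted_le_fix hK hφ
  refine main hD4 slD4 (D4Twisted.tdata hφ hle) (rho := rho) (φ := φ) (J := J) rfl rfl (cls hφ hK) hMH hHG
    (hA hφ hK hMH hHG hq hne) ?_ (fun w b n u hb _ hn hu huG hg => key hφ hK hMH hHG hq hne w b n u hb hn hu huG hg)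
  intro i hi
  have e14 : X 14 (1 : K) ∈ H := hMH _ (D4U.xG14_mem hφ (map_one φ)) (by rw [fr_X, map_one])
  have h1 : ∀ i < 4, chevD4.simple i ∈ [14, 18, 13, 12] := by decide +kernel
  have h2 := h1 i hi
  by_cases h14 : chevD4.simple i = 14
  · refine ⟨X 14 1, e14, Elts.xG_mem_posUnipotent hD4 (pos_of_mem (by decide)) _, ?_⟩
    rw [h14, cf_X (by norm_num) (by norm_num), if_pos rfl]
  · refine ⟨D4Fixed.X φ 1, V_fix hφ hMH (map_one φ), Xt_mem_U 1, ?_⟩
    rw [cf_Xt h2, map_one, map_one]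
    simp only [List.mem_cons, List.not_mem_nil, or_false] at h2
    rcases h2 with h3 | h3 | h3 | h3
    · exact absurd h3 h14
    · rw [h3]; norm_num
    · rw [h3]; norm_num
    · rw [h3]; norm_num

end Step

end Cfsg.Agent.H82.TwD4
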