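import Cfsg.Agent.H82.TwMaxC
import Cfsg.Agent.ChevalleyStructure.TwistedE6Rel

/-! Table checks for the twisted group of type E₆. -/

set_option autoImplicit false

namespace Cfsg.Agent.H82.TwE6

open Cfsg.Lie Cfsg.Agent.H82.Level Cfsg.Agent.H82.TwMax Cfsg.Agent.ChevalleyStructure
open Cfsg.Agent.ChevalleyStructure.RootCombGood (co car)
open Cfsg.Agent.ChevalleyStructure.RootWord (wact)
open Cfsg.Agent.ChevalleyStructure.TwistedE6Sigma (rho eps)
open Cfsg.Agent.ChevalleyStructure.TwistedE6U (L)

/-- classes of simple indices -/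
def cl : List (List ℕ) := [[1], [3], [2, 4], [0, 5]]

set_option maxRecDepth 100000

set_option maxHeartbeats 4000000 in
set_option synthInstance.maxHeartbeats 400000 in
set_option synthInstance.maxSize 2000 in
theorem slE6 : SL chevE6 where
  gr := by decide +kernel
  pos := by decide +kernel
  ii_ok := by decide +kernel
  comm := by decide +kernel
  simple := by decide +kernel
  comm_self := by decide +kernel
  comm_neg := by decide +kernel
  add_comm := by decide +kernel
  add_neg := by decide +kernel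

theorem twE6 : TwOK chevE6 L rho where
  nodup := by decide +kernel
  lt := by decide +kernel
  mem := by decide +kernel
  good := by decide +kernel
  perm := by decide +kernel
  comm := by decide +kernel
  rho_lt := by decide +kernel
  rho_ht := by decide +kernel
  rho_inj := by decide +kernel

theorem stage0 : StageOK chevE6 rho eps cl [71, 70] [] 71 := by decide +kernel

theorem stage1 : StageOK chevE6 rho eps cl [] [71] 70 := by decide +kernel

theorem stage2 : StageOK chevE6 rho eps cl [] [71, 70] 69 := by decide +kernel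

theorem lp0 : LP chevE6 [] 71 := by decide +kernel

theorem lp1 : LP chevE6 [71] 70 := by decide +kernel

theorem lp2 : LP chevE6 [71, 70] 69 := by decide +kernel

/-- the roots paired with the chain as `66` which go down at the first simple root -/
theorem pairTab : ∀ γ < 72, (∀ d ∈ [71, 70, 69], car chevE6 γ d = car chevE6 66 d) →
    car chevE6 (chevE6.simple 0) γ < 0 → γ = 55 := by decide +kernel

theorem pairTab' : ∀ d ∈ [71, 70, 69], car chevE6 68 d = car chevE6 66 d ∧ car chevE6 (chevE6.simple 0) d = 0 := by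
  decide +kernel

theorem pairPos : ∀ s < 72, chevE6.IsPosRoot s → (∀ d ∈ [71, 70, 69], car chevE6 s d = 0) →
    0 < car chevE6 s 66 ∨ 0 < car chevE6 s 68 := by decide +kernel

theorem tab55 : rho 55 = 67 ∧ rho 67 = 55 ∧ rho 66 = 68 ∧ rho 68 = 66 ∧ ht chevE6 55 = 7 ∧ ht chevE6 67 = 7 ∧
    ht chevE6 66 = 8 ∧ ht chevE6 68 = 8 ∧ add chevE6 55 56 = 66 ∧ add chevE6 55 67 = 72 ∧ add chevE6 66 68 = 72 ∧
    (∀ s ∈ L.flatten, add chevE6 67 s ≠ 66) ∧ eps 66 = 1 ∧ eps 68 = 1 := by decide +kernel

theorem simples : chevE6.simple 0 = 56 ∧ chevE6.simple 1 = 46 ∧ chevE6.simple 2 = 42 ∧ chevE6.simple 3 = 39 ∧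
    chevE6.simple 4 = 37 ∧ chevE6.simple 5 = 36 := by decide +kernel

/-- climbing -/
theorem climbTab : ∀ r ∈ L.flatten, rho r ≠ r → r ∉ [66, 68] → ∃ o ∈ cl, ∃ j ∈ o,
    add chevE6 (chevE6.simple j) r < 72 ∧
      ∀ j' ∈ o, j' ≠ j → ∀ s ∈ L.flatten, add chevE6 (chevE6.simple j') s ≠ add chevE6 (chevE6.simple j) r := by
  decide +kernel

theorem simple_pairing : ∀ i < 6, i ∉ [0, 5] →
    0 < car chevE6 (chevE6.simple i) 71 ∨
    (car chevE6 (chevE6.simple i) 71 = 0 ∧ 0 < car chevE6 (chevE6.simple i) 70) ∨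
    (car chevE6 (chevE6.simple i) 71 = 0 ∧ car chevE6 (chevE6.simple i) 70 = 0 ∧
      0 < car chevE6 (chevE6.simple i) 69) := by decide +kernel

end Cfsg.Agent.H82.TwE6
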