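import Cfsg.Agent.H82.TwMaxD
import Cfsg.Agent.H82.TwE6Tab
import Cfsg.Agent.ChevalleyStructure.TwE6BN

/-! The subfield subgroup of `²E₆(q)`. -/

set_option autoImplicit false

namespace Cfsg.Agent.H82.TwE6

open Cfsg.Lie Cfsg.Agent.H82.Level Cfsg.Agent.H82.TwMax Cfsg.Agent.ChevalleyStructure
open Cfsg.Agent.ChevalleyStructure.RootCombGood (co car)
open Cfsg.Agent.ChevalleyStructure.RootWord (wact)
open Cfsg.Agent.ChevalleyStructure.TwistedU
open Cfsg.Agent.ChevalleyStructure.TwistedE6Sigma (rho eps)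
open Cfsg.Agent.ChevalleyStructure.TwistedE6U (L)
open Cfsg.Agent.ChevalleyStructure.TwE6Basic (hE6 sg fix mem_fix n posE negE nE)
open Cfsg.Agent.ChevalleyStructure.TwE6BN (rs x_mem_rs rs_le conj_rs acts_n VJ VJ_le)
open scoped commutatorElement

universe u

variable {K : Type u} [Field K]

/-- root elements -/
noncomputable abbrev X (r : ℕ) (t : K) : GL chevE6.Idx K := Elts.xG hE6 r t

theorem X_eq (r : ℕ) (t : K) : X r t = TwE6Basic.x r t := rfl

theorem X_zero (r : ℕ) : X r (0 : K) = 1 := Elts.xG_zero hE6 r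

theorem pos_of_mem {r : ℕ} (hr : r ∈ L.flatten) : chevE6.IsPosRoot r := (isPosRoot_iff twE6 r).1 hr

theorem mem_of_pos {r : ℕ} (hr : chevE6.IsPosRoot r) : r ∈ L.flatten := (isPosRoot_iff twE6 r).2 hr

/-- the elements of `U` without coordinate at a simple root -/
def zeroS (K : Type u) [Field K] {D : ChevalleyDatum} (hD : Elts.InList D) (h : SL D) (r : ℕ) (h1 : ht D r = 1) :
    Subgroup (GL D.Idx K) where
  carrier := {v | v ∈ D.posUnipotent K ∧ cf r v = 0}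
  one_mem' := ⟨one_mem _, cf_one _⟩
  mul_mem' := by
    rintro a b ⟨ha, ha'⟩ ⟨hb, hb'⟩
    refine ⟨mul_mem ha hb, ?_⟩
    rw [cf_mul_left hD h (by rw [h1, Lv_one]; exact ha) hb, ha', hb', add_zero]
  inv_mem' := by
    rintro a ⟨ha, ha'⟩
    refine ⟨inv_mem ha, ?_⟩
    rw [cf_inv hD h (by rw [h1, Lv_one]; exact ha), ha', neg_zero]

theorem cf_X {r s : ℕ} (hr : r < 72) (hs : s < 72) (t : K) : cf r (X s t) = if r = s then t else 0 :=
  cf_xG hE6 slE6 hr hs t

theorem mem_Lv_X {r : ℕ} (hr : r ∈ L.flatten) {m : ℤ} (hm : m ≤ ht chevE6 r) (t : K) :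
    X r t ∈ Lv K hE6 slE6 m := Lv_anti hE6 slE6 hm (xG_mem_Lv hE6 slE6 (pos_of_mem hr) t)

theorem ht_one {r : ℕ} (hr : r ∈ [46, 39, 56, 36, 42, 37]) : ht chevE6 r = 1 := by
  revert r
  decide +kernel

section

variable {q : ℕ} {φ : K →+* K} (hφ : ∀ t, φ t = t ^ q) (hφφ : ∀ t, φ (φ t) = t)

include hφ hφφ in
theorem tw [Fintype K] : Tw hE6 slE6 L rho eps φ (sg φ) (twistedE6 K q) where
  T := twE6
  sg_X := fun r hr t => TwistedE6U.sig_X φ hr.1 t
  G_fix := fun g hg => TwE6Basic.twisted_le_fix φ hφ (fun t => by rw [← hφ, ← hφ, hφφ]) hg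
  U_fix := fun g hg hf => by
    have h1 := TwistedE6Rel.posUnipotent_inf_eq (q := q) hφ hφφ
    rw [← TwistedE6U.posUnipotent_eq] at h1
    have h2 : g ∈ chevE6.posUnipotent K ⊓ TwistedFix.fixS (TwistedE6Sigma.sig GraphSymm.symmE6 φ) := ⟨hg, hf⟩
    rw [← h1] at h2
    exact h2.2

theorem acts_prod : ∀ l : List ℕ, (∀ j ∈ l, j < 6) →
    BruhatSplit.Acts ((l.map fun j => nE (K := K) (chevE6.simple j)).prod) l := by
  have Gd := RootComb.good_of_mem hE6
  intro l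
  induction l with
  | nil => intro _; exact BruhatSplit.acts_one
  | cons j l ih =>
    intro hl
    rw [List.map_cons, List.prod_cons]
    have h1 := BruhatSplit.acts_nG_simple (F := K) hE6 (i := j) (hl j List.mem_cons_self)
    have h2 := ih fun j hj => hl j (List.mem_cons_of_mem _ hj)
    have h0 : ∀ a ∈ l, a < chevE6.rank := fun a ha => hl a (List.mem_cons_of_mem _ ha)
    generalize (l.map fun j => nE (K := K) (chevE6.simple j)).prod = P at h2 ⊢
    have h3 := BruhatSplit.Acts.mul Gd h1 h2 h0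
    rw [List.singleton_append] at h3
    exact h3

theorem cf_VJ {i : Fin 4} {r : ℕ} (hr : r ∈ posE i) {v : GL chevE6.Idx K} (hv : v ∈ VJ K i) : cf r v = 0 := by
  have h1 : ∀ i : Fin 4, ∀ r ∈ posE i, ht chevE6 r = 1 ∧ r < 72 := by decide +kernel
  obtain ⟨h2, h3⟩ := h1 i r hr
  have hle : VJ K i ≤ zeroS K hE6 slE6 r h2 := by
    refine VJ_le fun s hs hs' t => ⟨TwE6BN.mem_U hs t, ?_⟩
    rw [← X_eq, cf_X h3 s.2, if_neg]
    rintro rfl
    exact hs' hr
  exact (hle hv).2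

/-- elements of the classes -/
theorem rs_pos_pair {i : Fin 4} (hi : i = 2 ∨ i = 3) {y : GL chevE6.Idx K} (hy : y ∈ rs K (posE i)) :
    ∃ j j' : ℕ, posE i = [j, j'] ∧ ∃ t s : K, y = X j t * X j' s := by
  rcases hi with rfl | rfl
  · exact ⟨42, 37, rfl, TwE6BN.PairOK.mem_pos TwE6BN.pair2 hy⟩
  · exact ⟨56, 36, rfl, TwE6BN.PairOK.mem_pos TwE6BN.pair3 hy⟩

theorem cf_pair {j j' : ℕ} (hj : j ∈ [46, 39, 56, 36, 42, 37]) (hj' : j' ∈ [46, 39, 56, 36, 42, 37]) {r : ℕ}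
    (hr : r ∈ [46, 39, 56, 36, 42, 37]) (t s : K) :
    cf r (X j t * X j' s) = (if r = j then t else 0) + (if r = j' then s else 0) := by
  have h1 : ∀ r ∈ [46, 39, 56, 36, 42, 37], r ∈ L.flatten := by decide
  have hlt : ∀ r ∈ [46, 39, 56, 36, 42, 37], r < 72 := by decide
  rw [cf_mul_left hE6 slE6 (mem_Lv_X (h1 j hj) (by rw [ht_one hr, ht_one hj]) t)
    (Elts.xG_mem_posUnipotent hE6 (pos_of_mem (h1 j' hj')) s), cf_X (hlt r hr) (hlt j hj), cf_X (hlt r hr) (hlt j' hj')]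

include hφ hφφ in
theorem cls [Fintype K] : Cls φ rho (twistedE6 K q) TwE6Basic.J (n (K := K)) where
  rho_lt := twE6.rho_lt
  J_ne := by decide
  J_orth := by decide +kernel
  nhW := by
    intro i
    have hlt : ∀ i : Fin 4, ∀ j ∈ TwE6Basic.J i, j < 6 := by decide
    refine ⟨TwE6BN.n_mem_G φ hφ i, (TwE6BN.T φ q hφ (fun t => by rw [← hφ, ← hφ, hφφ])).n_mem_N i, hlt i, ?_, ?_⟩
    · exact acts_prod _ (hlt i)
    · have : ∀ i : Fin 4, ∀ r < 72, wact chevE6 (TwE6Basic.J i) (rho r) = rho (wact chevE6 (TwE6Basic.J i) r) := by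
        decide +kernel
      exact this i
  nh_fr := by
    intro i
    rw [TwE6Basic.n_def, map_list_prod, List.map_map]
    congr 1
    refine List.map_congr_left fun j _ => ?_
    exact fr_nG φ hE6 _
  split := by
    intro i u hu huG hc
    have hqq : ∀ t : K, (t ^ q) ^ q = t := fun t => by rw [← hφ, ← hφ, hφφ]
    obtain ⟨v, hv, y, hy, hyG, rfl⟩ := TwE6BN.decomp φ hφ hqq i hu huG
    have hvG : v ∈ twistedE6 K q := by
      have e : v = (v * y) * y⁻¹ := by group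
      rw [e]
      exact mul_mem huG (inv_mem hyG)
    have hyU : y ∈ chevE6.posUnipotent K := TwE6BN.rs_posE_le i hy
    have hvU : v ∈ chevE6.posUnipotent K := TwE6BN.VJ_le_U i hv
    have hcf : ∀ j ∈ TwE6Basic.J i, φ (cf (chevE6.simple j) y) = cf (chevE6.simple j) y := by
      intro j hj
      have h1 := hc j hj
      have h2 := (TwE6Basic.J_mem i j hj).2
      have h3 : ∀ i : Fin 4, ∀ r ∈ posE i, ht chevE6 r = 1 := by decide +kernel
      rw [cf_mul_left hE6 slE6 (by rw [h3 i _ h2, Lv_one]; exact hvU) hyU, cf_VJ h2 hv, zero_add] at h1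
      exact h1
    refine ⟨v, y, hyG, ?_, hvG, (TwE6BN.T φ q hφ hqq).conj_V i v hv, rfl⟩
    have hfy : y ∈ fix φ := TwE6Basic.twisted_le_fix φ hφ hqq hyG
    fin_cases i
    · obtain ⟨t, rfl⟩ := TwE6BN.rs_single (r := 46) hy
      have := TwE6BN.SingleOK.fix_pos TwE6BN.single0 hfy
      rw [← X_eq, fr_X, this]
    · obtain ⟨t, rfl⟩ := TwE6BN.rs_single (r := 39) hy
      have := TwE6BN.SingleOK.fix_pos TwE6BN.single1 hfy
      rw [← X_eq, fr_X, this]
    · obtain ⟨t, s, rfl⟩ := TwE6BN.PairOK.mem_pos TwE6BN.pair2 hy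
      have h4 := hcf 2 (by decide)
      have h5 := hcf 4 (by decide)
      rw [simples.2.2.1, ← X_eq, ← X_eq, cf_pair (by decide) (by decide) (by decide)] at h4
      rw [simples.2.2.2.2.1, ← X_eq, ← X_eq, cf_pair (by decide) (by decide) (by decide)] at h5
      norm_num at h4 h5
      rw [← X_eq, ← X_eq, map_mul, fr_X, fr_X, h4, h5]
    · obtain ⟨t, s, rfl⟩ := TwE6BN.PairOK.mem_pos TwE6BN.pair3 hy
      have h4 := hcf 0 (by decide)
      have h5 := hcf 5 (by decide)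
      rw [simples.1, ← X_eq, ← X_eq, cf_pair (by decide) (by decide) (by decide)] at h4
      rw [simples.2.2.2.2.2, ← X_eq, ← X_eq, cf_pair (by decide) (by decide) (by decide)] at h5
      norm_num at h4 h5
      rw [← X_eq, ← X_eq, map_mul, fr_X, fr_X, h4, h5]

end

/-! ### The set of parameters -/

/-- the elements of the class `{p₃, p₅}` -/
noncomputable def Q (φ : K →+* K) (t : K) : GL chevE6.Idx K := X 42 t * X 37 (φ t)

section Step

variable [Fintype K] {q : ℕ} {φ : K →+* K} (hφ : ∀ x, φ x = x ^ q) (hφφ : ∀ t, φ (φ t) = t)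
  {H : Subgroup (GL chevE6.Idx K)} (hMH : ∀ g ∈ twistedE6 K q, fr chevE6 φ g = g → g ∈ H) (hHG : H ≤ twistedE6 K q)

include hφ in
omit [Fintype K] in
theorem Q_mem (t : K) : Q φ t ∈ twistedE6 K q := by
  have := TwE6BN.PairOK.pos_mem_G (q := q) TwE6BN.pair2 t
  rw [← hφ] at this
  exact this

omit [Fintype K] in
theorem fr_Q {t : K} (ht : φ t = t) : fr chevE6 φ (Q φ t) = Q φ t := by
  unfold Q
  rw [map_mul, fr_X, fr_X, ht, ht]

omit [Fintype K] in
theorem Q_mul (s t : K) : Q φ s * Q φ t = Q φ (s + t) := by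
  unfold Q
  have h1 : X 37 (φ s) * X 42 t = X 42 t * X 37 (φ s) := TwE6BN.PairOK.comm1 TwE6BN.pair2 t (φ s)
  have h2 : X 42 s * X 42 t = X 42 (s + t) := Elts.xG_add hE6 42 s t
  have h3 : X 37 (φ s) * X 37 (φ t) = X 37 (φ (s + t)) := by rw [map_add]; exact Elts.xG_add hE6 37 _ _
  rw [← h2, ← h3]
  calc X 42 s * X 37 (φ s) * (X 42 t * X 37 (φ t)) = X 42 s * (X 37 (φ s) * X 42 t) * X 37 (φ t) := by group
    _ = _ := by rw [h1]; group

omit [Fintype K] in
theorem Q_zero : Q φ 0 = 1 := by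
  unfold Q
  rw [map_zero, X_zero, X_zero, mul_one]

omit [Fintype K] in
theorem V_add {s t : K} (hs : Q φ s ∈ H) (ht : Q φ t ∈ H) : Q φ (s + t) ∈ H := by
  rw [← Q_mul]
  exact mul_mem hs ht

include hφ hMH in
omit [Fintype K] in
theorem V_smul {c s : K} (hc : φ c = c) (hs : Q φ s ∈ H) : Q φ (c * s) ∈ H := by
  by_cases hc0 : c = 0
  · rw [hc0, zero_mul, Q_zero]
    exact one_mem _
  have hd0 : c⁻¹ ≠ 0 := inv_ne_zero hc0
  have hd : φ c⁻¹ = c⁻¹ := by rw [map_inv₀, hc]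
  have hn32 : chevE6.neg 39 = 32 := by decide +kernel
  have hN : ∀ a : K, φ a = a → Elts.nG hE6 39 a ∈ twistedE6 K q := by
    intro a ha
    rw [Elts.nG_def]
    have h1 : X 39 a ∈ twistedE6 K q := TwE6Basic.single_mem (by rw [← hφ, ha]) (by decide)
    have h2 : X (chevE6.neg 39) (-a⁻¹) ∈ twistedE6 K q := by
      rw [hn32]
      exact TwE6Basic.single_mem (by rw [← hφ, map_neg, map_inv₀, ha]) (by decide)
    exact mul_mem h1 (mul_mem h2 h1)
  have h1 : Elts.hG hE6 39 c⁻¹ ∈ H := by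
    refine hMH _ ?_ (by rw [fr_hG, hd])
    rw [Elts.hG_def]
    exact mul_mem (hN _ hd) (hN _ (by rw [map_neg, map_one]))
  have key : ∀ s, s < 72 → chevE6.cartan 3 s = -1 → ∀ a : K,
      Elts.hG hE6 39 c⁻¹ * X s a * (Elts.hG hE6 39 c⁻¹)⁻¹ = X s (c * a) := by
    intro s hs hcar a
    have h2 := BruhatSplit.hG_simple_conj hE6 (i := 3) (s := s) (by decide) hs hd0 a
    rw [simples.2.2.2.1, hcar, zpow_neg_one, inv_inv] at h2
    exact h2
  have e : Elts.hG hE6 39 c⁻¹ * Q φ s * (Elts.hG hE6 39 c⁻¹)⁻¹ = Q φ (c * s) := by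
    unfold Q
    rw [map_mul, hc, ← key 42 (by norm_num) (by decide +kernel), ← key 37 (by norm_num) (by decide +kernel)]
    group
  rw [← e]
  exact mul_mem (mul_mem h1 hs) (inv_mem h1)

include hφ hMH in
omit [Fintype K] in
theorem V_fix {c : K} (hc : φ c = c) : Q φ c ∈ H := hMH _ (Q_mem hφ c) (fr_Q hc)

include hφ hφφ hMH in
omit [Fintype K] in
theorem V_all {t : K} (hQ : Q φ t ∈ H) (ht : φ t ≠ t) (x : K) : Q φ x ∈ H := by
  have hd : t - φ t ≠ 0 := sub_ne_zero.2 (Ne.symm ht)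
  obtain ⟨b, hb⟩ : ∃ b, b = (x - φ x) / (t - φ t) := ⟨_, rfl⟩
  have hb1 : φ b = b := by
    rw [hb, map_div₀, map_sub, map_sub, hφφ, hφφ]
    rw [div_eq_div_iff (by rw [← neg_sub]; exact neg_ne_zero.2 hd) hd]
    ring
  have hb2 : b * (t - φ t) = x - φ x := by rw [hb]; field_simp
  have ha : φ (x - b * t) = x - b * t := by
    rw [map_sub, map_mul, hb1]
    linear_combination hb2
  have e : x = (x - b * t) + b * t := by ring
  rw [e]
  exact V_add (V_fix hφ hMH ha) (V_smul hφ hMH hb1 hQ)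

include hφ hφφ hMH in
theorem n_mem (i : Fin 4) : n (K := K) i ∈ H :=
  hMH _ (TwE6BN.n_mem_G φ hφ i) ((cls hφ hφφ).nh_fr i)

omit [Fintype K] in
theorem conj_mem_H {m g : GL chevE6.Idx K} (hm : m ∈ H) (h : m * g * m⁻¹ ∈ H) : g ∈ H := by
  have e : g = m⁻¹ * (m * g * m⁻¹) * m := by group
  rw [e]
  exact mul_mem (mul_mem (inv_mem hm) h) hm

include hφ hφφ hMH in
omit [Fintype K] in
theorem rs2_mem {t : K} (hQ : Q φ t ∈ H) (ht : φ t ≠ t) {y : GL chevE6.Idx K} (hy : y ∈ rs K [42, 37])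
    (hyG : y ∈ twistedE6 K q) : y ∈ H := by
  have hqq : ∀ t : K, (t ^ q) ^ q = t := fun t => by rw [← hφ, ← hφ, hφφ]
  obtain ⟨a, s, rfl⟩ := TwE6BN.PairOK.mem_pos TwE6BN.pair2 hy
  have hs := TwE6BN.PairOK.fix_pos TwE6BN.pair2 (TwE6Basic.twisted_le_fix φ hφ hqq hyG)
  rw [hs]
  exact V_all hφ hφφ hMH hQ ht a

include hφ hφφ hMH hHG in
/-- a bad parameter gives everything -/
theorem all_of_bad {t : K} (hQ : Q φ t ∈ H) (ht : φ t ≠ t) : H = twistedE6 K q := by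
  have hn := n_mem (H := H) hφ hφφ hMH
  refine le_antisymm hHG ((TwE6Basic.twisted_le_iff H).2 ⟨?_, ?_⟩)
  · intro s hs r hr
    refine hMH _ (TwE6Basic.single_mem hs hr) ?_
    rw [← X_eq, fr_X, hφ, hs]
  · intro s rs' hrs
    have hG := TwE6Basic.pair_mem (q := q) s hrs
    have hmem : ∀ {i j : ℕ} {A : List ℕ}, i ∈ A → j ∈ A → TwE6Basic.x i s * TwE6Basic.x j (s ^ q) ∈ rs K A :=
      fun hi hj => mul_mem (x_mem_rs hi _) (x_mem_rs hj _)
    simp only [List.mem_cons, List.not_mem_nil, or_false] at hrs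
    have step : ∀ (m : GL chevE6.Idx K) (w : Equiv.Perm (Fin 72)), TwE6BN.Acts m w → m ∈ H → m ∈ twistedE6 K q →
        ∀ A : List ℕ, (∀ r ∈ A, ∃ hr : r < 72, (w ⟨r, hr⟩).val ∈ [42, 37]) →
        ∀ y ∈ rs K A, y ∈ twistedE6 K q → y ∈ H := by
      intro m w hw hm hmG A hA y hy hyG
      exact conj_mem_H hm (rs2_mem hφ hφφ hMH hQ ht (conj_rs hw hA hy) (mul_mem (mul_mem hmG hyG) (inv_mem hmG)))
    rcases hrs with rfl | rfl | rfl | rfl
    · refine step (n 3 * n 2)⁻¹⁻¹ _ (((acts_n 3).mul (acts_n 2)).inv.inv) ?_ ?_ [56, 36] ?_ _ (hmem (by simp) (by simp)) hG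
      · rw [inv_inv]; exact mul_mem (hn 3) (hn 2)
      · rw [inv_inv]; exact hHG (mul_mem (hn 3) (hn 2))
      · decide +kernel
    · refine step (n 3 * n 2 * n 3)⁻¹⁻¹ _ ((((acts_n 3).mul (acts_n 2)).mul (acts_n 3)).inv.inv) ?_ ?_ [15, 35] ?_ _
        (hmem (by simp) (by simp)) hG
      · rw [inv_inv]; exact mul_mem (mul_mem (hn 3) (hn 2)) (hn 3)
      · rw [inv_inv]; exact hHG (mul_mem (mul_mem (hn 3) (hn 2)) (hn 3))
      · decide +kernel
    · exact rs2_mem hφ hφφ hMH hQ ht (hmem (by simp) (by simp)) hG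
    · refine step (n 2) _ (acts_n 2) (hn 2) (hHG (hn 2)) [29, 34] ?_ _ (hmem (by simp) (by simp)) hG
      decide +kernel

end Step

end Cfsg.Agent.H82.TwE6
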