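import Cfsg.Agent.H82.Level
import Cfsg.Agent.ChevalleyStructure.TwistedFix
import Cfsg.Agent.ChevalleyStructure.TwistedBN

/-!
Maximality of the subfield subgroup in a twisted group: the unipotent part.
-/

set_option autoImplicit false

namespace Cfsg.Agent.H82.TwMax

open Cfsg.Lie Cfsg.Agent.ChevalleyStructure Cfsg.Agent.ChevalleyStructure.Elts
open Cfsg.Agent.ChevalleyStructure.TwistedU Cfsg.Agent.H82.Level
open scoped commutatorElement

universe u

/-! ### The entrywise field map -/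

section Fr

variable {D : ChevalleyDatum} {K : Type u} [Field K]

/-- the entrywise field map -/
noncomputable def fr (D : ChevalleyDatum) (φ : K →+* K) : GL D.Idx K →* GL D.Idx K :=
  Units.map (RingHom.mapMatrix φ : Matrix D.Idx D.Idx K →+* Matrix D.Idx D.Idx K).toMonoidHom

variable (φ : K →+* K)

theorem fr_val (g : GL D.Idx K) : (fr D φ g).val = g.val.map φ := rfl

theorem fr_eq_iff (g : GL D.Idx K) : fr D φ g = g ↔ ∀ i j, φ (g.val i j) = g.val i j := by
  rw [Units.ext_iff, fr_val]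
  constructor
  · intro h i j
    exact congrFun (congrFun h i) j
  · intro h
    ext i j
    exact h i j

theorem fr_X (hD : InList D) (r : ℕ) (t : K) : fr D φ (xG hD r t) = xG hD r (φ t) := by
  apply Units.ext
  rw [fr_val, coe_xG, coe_xG]
  exact ChevStructure.FieldMap.x_map D φ r t

theorem fr_lprod (hD : InList D) (l : List ℕ) (f : ℕ → K) :
    fr D φ (lprod (xG hD) l f) = lprod (xG hD) l fun s => φ (f s) := by
  unfold lprod
  rw [map_list_prod, List.map_map]
  congr 1
  exact List.map_congr_left fun s _ => fr_X φ hD s (f s)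

theorem fr_nG (hD : InList D) (r : ℕ) : fr D φ (nG hD r 1) = nG hD r 1 := by
  rw [nG_def, map_mul, map_mul, fr_X, fr_X, inv_one, map_neg, map_one]

theorem fr_nG' (hD : InList D) (r : ℕ) (t : K) : fr D φ (nG hD r t) = nG hD r (φ t) := by
  rw [nG_def, nG_def, map_mul, map_mul, fr_X, fr_X, map_neg, map_inv₀]

theorem fr_hG (hD : InList D) (r : ℕ) (t : K) : fr D φ (hG hD r t) = hG hD r (φ t) := by
  rw [hG_def, hG_def, map_mul, fr_nG', fr_nG', map_neg, map_one]

theorem cf_fr (r : ℕ) (g : GL D.Idx K) : cf r (fr D φ g) = φ (cf r g) := by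
  unfold cf lin ent
  split_ifs with h
  · rw [map_mul, map_neg, map_intCast]
    rfl
  · simp

theorem cf_of_fr {r : ℕ} {g : GL D.Idx K} (hg : fr D φ g = g) : φ (cf r g) = cf r g := by
  rw [← cf_fr, hg]

/-- the fixed points of the entrywise field map -/
noncomputable def Fr (D : ChevalleyDatum) (φ : K →+* K) : Subgroup (GL D.Idx K) := TwistedFix.fixS (fr D φ)

theorem mem_Fr {g : GL D.Idx K} : g ∈ Fr D φ ↔ fr D φ g = g := Iff.rfl

end Fr

/-! ### Good lists -/

/-- check of the commutator condition along a list -/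
def goodCheck (D : ChevalleyDatum) : List ℕ → Bool
  | [] => true
  | r :: l => (l.all fun s => decide (s ≠ r) && decide (s ≠ D.neg r) &&
      (decide (add D r s = D.nroots) || l.contains (add D r s))) && goodCheck D l

/-- the combinatorics of the twisting -/
structure TwOK (D : ChevalleyDatum) (Lo : List (List ℕ)) (rho : ℕ → ℕ) : Prop where
  nodup : Lo.flatten.Nodup
  lt : ∀ r ∈ Lo.flatten, r < D.nroots
  mem : ∀ r < D.nroots, (D.IsPosRoot r ↔ r ∈ Lo.flatten)
  good : goodCheck D Lo.flatten = true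
  perm : ∀ o ∈ Lo, (o.map rho).Perm o
  comm : ∀ o ∈ Lo, o.Pairwise fun r s => s ≠ r ∧ s ≠ D.neg r ∧ add D r s = D.nroots
  rho_lt : ∀ r < D.nroots, rho r < D.nroots
  rho_ht : ∀ r < D.nroots, ht D (rho r) = ht D r
  rho_inj : ∀ r < D.nroots, ∀ s < D.nroots, rho r = rho s → r = s

section Good

variable {D : ChevalleyDatum} {K : Type u} [Field K] (hD : InList D) (h : SL D)

include h in
theorem good_of_check : ∀ {l : List ℕ}, (∀ r ∈ l, r < D.nroots) → goodCheck D l = true →
    Good (xG (F := K) hD) l := by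
  intro l
  induction l with
  | nil => intro _ _; exact good_nil _
  | cons r l ih =>
    intro hlt hc
    unfold goodCheck at hc
    rw [Bool.and_eq_true] at hc
    refine (good_cons _).2 ⟨?_, ih (fun s hs => hlt s (List.mem_cons_of_mem _ hs)) hc.2⟩
    intro s hs t u
    have h1 := List.all_eq_true.1 hc.1 s hs
    rw [Bool.and_eq_true, Bool.and_eq_true, decide_eq_true_eq, decide_eq_true_eq, Bool.or_eq_true,
      decide_eq_true_eq] at h1
    rw [comm_X hD h (hlt r List.mem_cons_self) (hlt s (List.mem_cons_of_mem _ hs)) h1.1.1 h1.1.2]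
    have hsm : xG hD s u ∈ rspan (xG (F := K) hD) {k | k ∈ l} := mem_rspan _ (S := {k | k ∈ l}) hs u
    refine mul_mem (mul_mem hsm ?_) (inv_mem hsm)
    rcases h1.2 with h2 | h2
    · rw [h2, xG_of_not_lt hD (lt_irrefl _)]
      exact one_mem _
    · exact mem_rspan _ (S := {k | k ∈ l}) (by simpa using h2) _

variable {Lo : List (List ℕ)} {rho : ℕ → ℕ} (T : TwOK D Lo rho)

include T in
theorem isPosRoot_iff (r : ℕ) : r ∈ Lo.flatten ↔ D.IsPosRoot r :=
  ⟨fun hr => (T.mem r (T.lt r hr)).2 hr, fun hr => (T.mem r hr.1).1 hr⟩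

include h T in
theorem ord : Ord K hD Lo.flatten where
  nodup := T.nodup
  mem := isPosRoot_iff T
  ex := by
    intro g hg
    have h1 : g ∈ rspan (xG (F := K) hD) {k | k ∈ Lo.flatten} := by
      refine (posUnipotent_le_iff hD _).2 (fun r hr t => ?_) hg
      exact mem_rspan _ (S := {k | k ∈ Lo.flatten}) ((isPosRoot_iff T r).2 hr) t
    exact exists_lprod (fun r t u => (xG_add hD r t u).symm) T.nodup (good_of_check hD h T.lt T.good) h1

include h T in
theorem orbit_comm {o : List ℕ} (ho : o ∈ Lo) :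
    o.Pairwise fun r s => ∀ t u : K, Commute (xG hD r t : GL D.Idx K) (xG hD s u) := by
  have hlt : ∀ r ∈ o, r < D.nroots := fun r hr => T.lt r (List.mem_flatten.2 ⟨o, ho, hr⟩)
  refine (T.comm o ho).imp_of_mem ?_
  intro r s hr hs h1 t u
  rw [← commutatorElement_eq_one_iff_commute, comm_X hD h (hlt r hr) (hlt s hs) h1.1 h1.2.1, h1.2.2,
    xG_of_not_lt hD (lt_irrefl _), mul_one, mul_inv_cancel]

end Good

/-! ### The twisted context -/

/-- The twisted group `G` with its twisting map `sg`. -/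
structure Tw {D : ChevalleyDatum} {K : Type u} [Field K] (hD : InList D) (h : SL D) (Lo : List (List ℕ))
    (rho : ℕ → ℕ) (eps : ℕ → ℤ) (φ : K →+* K) (sg : GL D.Idx K →* GL D.Idx K) (G : Subgroup (GL D.Idx K)) :
    Prop where
  T : TwOK D Lo rho
  sg_X : ∀ r, D.IsPosRoot r → ∀ t : K, sg (xG hD r t) = xG hD (rho r) ((eps r : K) * φ t)
  G_fix : ∀ g ∈ G, sg g = g
  U_fix : ∀ g ∈ D.posUnipotent K, sg g = g → g ∈ G

section Tw

variable {D : ChevalleyDatum} {K : Type u} [Field K] {hD : InList D} {h : SL D} {Lo : List (List ℕ)}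
  {rho : ℕ → ℕ} {eps : ℕ → ℤ} {φ : K →+* K} {sg : GL D.Idx K →* GL D.Idx K} {G : Subgroup (GL D.Idx K)}
  (W : Tw hD h Lo rho eps φ sg G)

include W

theorem rho_pos {r : ℕ} (hr : D.IsPosRoot r) : D.IsPosRoot (rho r) := by
  have h1 := W.T.rho_lt r hr.1
  rw [pos_iff_ht hD h h1, W.T.rho_ht r hr.1]
  exact (pos_iff_ht hD h hr.1).1 hr

/-- ordered products with compatible coordinates are fixed -/
theorem sg_lprod {t : ℕ → K} (ht : ∀ r ∈ Lo.flatten, t (rho r) = (eps r : K) * φ (t r)) :
    sg (lprod (xG hD) Lo.flatten t) = lprod (xG hD) Lo.flatten t :=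
  TwistedFix.map_lprod (f := fun r v => (eps r : K) * φ v) (fun r hr v => W.sg_X r ((isPosRoot_iff W.T r).1 hr) v) W.T.perm
    (fun _ ho => orbit_comm hD h W.T ho) ht

/-- factors of a product in `Lv m` -/
theorem factor_mem {m : ℤ} {f : ℕ → K} (hg : lprod (xG hD) Lo.flatten f ∈ Lv K hD h m) :
    ∀ s ∈ Lo.flatten, xG hD s (f s) ∈ Lv K hD h m := by
  have O := ord (K := K) hD h W.T
  have key : ∀ n : ℕ, (n : ℤ) ≤ m → ∀ s ∈ Lo.flatten, xG hD s (f s) ∈ Lv K hD h n := by
    intro n
    induction n with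
    | zero =>
      intro _ s hs
      exact Lv_anti hD h (by have := h.pos s ((O.mem s).1 hs).1 ((O.mem s).1 hs); push_cast; omega)
        (xG_mem_Lv hD h ((O.mem s).1 hs) (f s))
    | succ n ih =>
      intro hn s hs
      push_cast at hn ⊢
      have ih' := ih (by omega)
      have hp := (O.mem s).1 hs
      by_cases hsn : ht D s = n
      · have h1 := cf_lprod_L hD h O hsn hp ih'
        rw [cf_Lv hD h hg (by omega)] at h1
        rw [← h1, xG_zero]
        exact one_mem _
      · by_cases hlt : ht D s < n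
        · have h1 := cf_Lv hD h (ih' s hs) hlt
          rw [cf_xG hD h hp.1 hp.1, if_pos rfl] at h1
          rw [h1, xG_zero]
          exact one_mem _
        · exact Lv_anti hD h (by omega) (xG_mem_Lv hD h hp (f s))
  intro s hs
  have hp := (O.mem s).1 hs
  by_cases hm : 0 ≤ m
  · obtain ⟨n, hn⟩ := Int.eq_ofNat_of_zero_le hm
    rw [hn]
    exact key n (by omega) s hs
  · exact Lv_anti hD h (by have := h.pos s hp.1 hp; omega) (xG_mem_Lv hD h hp (f s))

/-- coordinates of the elements of `G ∩ U` are compatible with the twisting -/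
theorem cf_rho {r : ℕ} (hr : D.IsPosRoot r) {g : GL D.Idx K} (hg : g ∈ Lv K hD h (ht D r)) (hf : sg g = g) :
    cf (rho r) g = (eps r : K) * φ (cf r g) := by
  have O := ord (K := K) hD h W.T
  obtain ⟨f, rfl⟩ := O.ex g hg.1
  have h1 := factor_mem W hg
  have h2 := cf_lprod_L hD h O (r := r) rfl hr h1
  have hX : ∀ s ∈ Lo.flatten, xG hD (rho s) ((eps s : K) * φ (f s)) ∈ Lv K hD h (ht D r) := by
    intro s hs
    have hp := (O.mem s).1 hs
    by_cases hlt : ht D s < ht D r
    · have h3 := cf_Lv hD h (h1 s hs) hlt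
      rw [cf_xG hD h hp.1 hp.1, if_pos rfl] at h3
      rw [h3, map_zero, mul_zero, xG_zero]
      exact one_mem _
    · exact Lv_anti hD h (by rw [W.T.rho_ht s hp.1]; omega) (xG_mem_Lv hD h (rho_pos W hp) _)
  have h3 : ∀ l : List ℕ, (∀ s ∈ l, s ∈ Lo.flatten) →
      sg (lprod (xG hD) l f) ∈ Lv K hD h (ht D r) ∧
      cf (rho r) (sg (lprod (xG hD) l f)) = (l.map fun s => if r = s then (eps s : K) * φ (f s) else 0).sum := by
    intro l
    induction l with
    | nil =>
      intro _
      rw [lprod_nil, map_one, cf_one]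
      exact ⟨one_mem _, rfl⟩
    | cons s l ih =>
      intro hl
      obtain ⟨i1, i2⟩ := ih fun s hs => hl s (List.mem_cons_of_mem _ hs)
      have hs := hl s List.mem_cons_self
      have hp := (O.mem s).1 hs
      rw [lprod_cons, map_mul, W.sg_X s hp]
      refine ⟨mul_mem (hX s hs) i1, ?_⟩
      rw [cf_mul_left hD h (by rw [W.T.rho_ht r hr.1]; exact hX s hs) i1.1, i2, List.map_cons, List.sum_cons,
        cf_xG hD h (rho_pos W hr).1 (rho_pos W hp).1]
      congr 1
      by_cases hrs : r = s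
      · rw [if_pos hrs, if_pos (congrArg rho hrs)]
      · rw [if_neg hrs, if_neg fun e => hrs (W.T.rho_inj r hr.1 s hp.1 e)]
  have h4 := (h3 Lo.flatten fun _ hs => hs).2
  rw [hf] at h4
  rw [h4, h2]
  exact sum_map_ite O.nodup ((O.mem r).2 hr) fun s => (eps s : K) * φ (f s)

theorem lead_mem_G {m : ℤ} {g : GL D.Idx K} (hg : g ∈ Lv K hD h m) (hf : sg g = g) :
    lead hD Lo.flatten m g ∈ G := by
  have O := ord (K := K) hD h W.T
  refine W.U_fix _ (lead_mem hD h O m g).1 (sg_lprod W fun r hr => ?_)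
  have hp := (O.mem r).1 hr
  show (if ht D (rho r) = m then cf (rho r) g else 0) = (eps r : K) * φ (if ht D r = m then cf r g else 0)
  rw [W.T.rho_ht r hp.1]
  by_cases hm : ht D r = m
  · rw [if_pos hm, if_pos hm, cf_rho W hp (by rw [hm]; exact hg) hf]
  · rw [if_neg hm, if_neg hm, map_zero, mul_zero]

theorem lead_mem_Fr {m : ℤ} {g : GL D.Idx K} (hc : ∀ r, D.IsPosRoot r → ht D r = m → φ (cf r g) = cf r g) :
    fr D φ (lead hD Lo.flatten m g) = lead hD Lo.flatten m g := by
  have O := ord (K := K) hD h W.T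
  unfold lead
  rw [fr_lprod]
  refine lprod_congr _ fun s hs => ?_
  by_cases hm : ht D s = m
  · rw [if_pos hm, hc s ((O.mem s).1 hs) hm]
  · rw [if_neg hm, map_zero]

theorem eq_one_of_high {m : ℤ} (hm : ∀ r, D.IsPosRoot r → ht D r < m) {g : GL D.Idx K}
    (hg : g ∈ Lv K hD h m) : g = 1 := by
  have O := ord (K := K) hD h W.T
  obtain ⟨f, rfl⟩ := O.ex g hg.1
  have h1 := factor_mem W hg
  have h2 : ∀ l : List ℕ, (∀ s ∈ l, s ∈ Lo.flatten) → lprod (xG hD) l f = 1 := by
    intro l
    induction l with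
    | nil => intro _; rfl
    | cons s l ih =>
      intro hl
      have hs := hl s List.mem_cons_self
      have hp := (O.mem s).1 hs
      have h3 := cf_Lv hD h (h1 s hs) (hm s hp)
      rw [cf_xG hD h hp.1 hp.1, if_pos rfl] at h3
      rw [lprod_cons, h3, xG_zero, ih fun s hs => hl s (List.mem_cons_of_mem _ hs), mul_one]
  exact h2 _ fun _ hs => hs

/-- Step A, from level `m₀` on. -/
theorem stepA_from {H : Subgroup (GL D.Idx K)} (hMH : ∀ g ∈ G, fr D φ g = g → g ∈ H) (hHG : H ≤ G) (m₀ : ℤ)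
    (hbad : ∀ m, m₀ ≤ m → ∀ u ∈ H, u ∈ Lv K hD h m → ∀ r, D.IsPosRoot r → ht D r = m → φ (cf r u) = cf r u) :
    ∀ u ∈ H, u ∈ Lv K hD h m₀ → fr D φ u = u := by
  have O := ord (K := K) hD h W.T
  obtain ⟨N, hN⟩ : ∃ N : ℕ, ∀ r, D.IsPosRoot r → ht D r < N := by
    obtain ⟨N, hN⟩ : ∃ N : ℕ, ∀ r ∈ Finset.range D.nroots, (ht D r).toNat < N := by
      refine ⟨(Finset.range D.nroots).sup (fun r => (ht D r).toNat) + 1, fun r hr => ?_⟩
      exact Nat.lt_succ_of_le (Finset.le_sup (f := fun r => (ht D r).toNat) hr)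
    refine ⟨N, fun r hr => ?_⟩
    have := hN r (Finset.mem_range.2 hr.1)
    omega
  have key : ∀ n : ℕ, ∀ m : ℤ, m₀ ≤ m → (N : ℤ) ≤ m + n → ∀ u ∈ H, u ∈ Lv K hD h m → fr D φ u = u := by
    intro n
    induction n with
    | zero =>
      intro m _ hm u _ hu
      rw [eq_one_of_high W (fun r hr => lt_of_lt_of_le (hN r hr) (by simpa using hm)) hu, map_one]
    | succ n ih =>
      intro m hm0 hm u huH hu
      have hsg := W.G_fix u (hHG huH)
      have hc := hbad m hm0 u huH hu
      have h1 := lead_mem_Fr W (g := u) (m := m) hc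
      have h2 := hMH _ (lead_mem_G W hu hsg) h1
      have h3 := ih (m + 1) (by omega) (by push_cast at hm; omega) _ (mul_mem (inv_mem h2) huH)
        (lead_inv_mul_mem hD h O hu)
      rw [map_mul, map_inv, h1] at h3
      exact mul_left_cancel h3
  intro u huH hu
  exact key (N + m₀.natAbs) m₀ le_rfl (by omega) u huH hu

/-- Step A: if `H` contains no unipotent element with a bad leading coordinate, `H ∩ U` is fixed entrywise. -/
theorem stepA {H : Subgroup (GL D.Idx K)} (hMH : ∀ g ∈ G, fr D φ g = g → g ∈ H) (hHG : H ≤ G)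
    (hbad : ∀ m, ∀ u ∈ H, u ∈ Lv K hD h m → ∀ r, D.IsPosRoot r → ht D r = m → φ (cf r u) = cf r u) :
    ∀ u ∈ H, u ∈ D.posUnipotent K → fr D φ u = u := fun u huH hu =>
  stepA_from W hMH hHG 1 (fun m _ => hbad m) u huH (by rw [Lv_one]; exact hu)

/-- high levels consisting of fixed roots -/
theorem fr_of_high {m₀ : ℤ} (hfix : ∀ r, D.IsPosRoot r → m₀ ≤ ht D r → rho r = r ∧ eps r = 1) {u : GL D.Idx K}
    (huG : u ∈ G) (hu : u ∈ Lv K hD h m₀) : fr D φ u = u := by
  refine stepA_from W (H := G) (fun g hg _ => hg) le_rfl m₀ (fun m hm u hu hum r hr hrm => ?_) u huG hu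
  obtain ⟨h1, h2⟩ := hfix r hr (by omega)
  have h3 := cf_rho W hr (g := u) (by rw [hrm]; exact hum) (W.G_fix u hu)
  rw [h1, h2, Int.cast_one, one_mul] at h3
  exact h3.symm

/-- the leading part of an element of `H` lies in `H` if the higher levels consist of fixed roots -/
theorem lead_mem_H {H : Subgroup (GL D.Idx K)} (hMH : ∀ g ∈ G, fr D φ g = g → g ∈ H) (hHG : H ≤ G) {m : ℤ}
    (hfix : ∀ r, D.IsPosRoot r → m + 1 ≤ ht D r → rho r = r ∧ eps r = 1) {u : GL D.Idx K}
    (huH : u ∈ H) (hu : u ∈ Lv K hD h m) : lead hD Lo.flatten m u ∈ H := by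
  have O := ord (K := K) hD h W.T
  have h1 := lead_inv_mul_mem hD h O hu
  have h2 := lead_mem_G W hu (W.G_fix u (hHG huH))
  have h3 : (lead hD Lo.flatten m u)⁻¹ * u ∈ G := mul_mem (inv_mem h2) (hHG huH)
  have h4 := hMH _ h3 (fr_of_high W hfix h3 h1)
  have e : lead hD Lo.flatten m u = u * ((lead hD Lo.flatten m u)⁻¹ * u)⁻¹ := by group
  rw [e]
  exact mul_mem huH (inv_mem h4)

end Tw

end Cfsg.Agent.H82.TwMax
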