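import Cfsg.Agent.H82.TwMax
import Cfsg.Agent.ChevalleyStructure.HMatDiagAll
import Cfsg.Agent.H92.ChevCent

/-!
Maximality of the subfield subgroup in a twisted group: the Borel part and the Bruhat induction.
-/

set_option autoImplicit false

namespace Cfsg.Agent.H82.TwMax

open Cfsg.Lie Cfsg.Agent.ChevalleyStructure Cfsg.Agent.ChevalleyStructure.Elts
open Cfsg.Agent.ChevalleyStructure.TwistedU Cfsg.Agent.H82.Level
open Cfsg.Agent.ChevalleyStructure.RootCombGood (co car)
open Cfsg.Agent.ChevalleyStructure.RootWord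
open Cfsg.Agent.ChevalleyStructure.BruhatSplit (Acts hG_simple_conj)
open scoped commutatorElement

universe u

/-! ### The diagonal subgroup -/

section Diag

variable {D : ChevalleyDatum} {K : Type u} [Field K] (hD : InList D) (h : SL D)

/-- the character values of a diagonal element -/
noncomputable def chi (D : ChevalleyDatum) (t : GL D.Idx K) (s : ℕ) : K :=
  if hs : s < D.nroots then t.val (Sum.inr ⟨s, hs⟩) (Sum.inr ⟨s, hs⟩) else 1

include hD in
theorem diag_val {t : GL D.Idx K} (ht : t ∈ D.diagonalSubgroup K) :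
    t.val = Matrix.diagonal (Sum.elim (fun _ => (1 : K)) fun s => chi D t s.val) := by
  obtain ⟨χ, hχ⟩ := HMatDiagAll.diagonalSubgroup_le_torus hD ht
  rw [hχ]
  congr 1
  funext i
  rcases i with i | s
  · rfl
  · show χ s = chi D t s.val
    unfold chi
    rw [dif_pos s.2, hχ, Matrix.diagonal_apply_eq]
    rfl

include hD in
theorem chi_ne_zero {t : GL D.Idx K} (ht : t ∈ D.diagonalSubgroup K) (s : ℕ) : chi D t s ≠ 0 := by
  by_cases hs : s < D.nroots
  · intro h0
    have h1 : (t.val * (t⁻¹ : GL D.Idx K).val) (Sum.inr ⟨s, hs⟩) (Sum.inr ⟨s, hs⟩) = 1 := by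
      rw [← Units.val_mul, mul_inv_cancel, Units.val_one, Matrix.one_apply_eq]
    rw [diag_val hD ht, Matrix.diagonal_mul] at h1
    simp only [Sum.elim_inr, h0, zero_mul, zero_ne_one] at h1
  · unfold chi
    rw [dif_neg hs]
    exact one_ne_zero

include hD in
/-- `cf_s (t g t⁻¹) = χ_s(t) cf_s g` -/
theorem cf_diag_conj {t : GL D.Idx K} (ht : t ∈ D.diagonalSubgroup K) (s : ℕ) (g : GL D.Idx K) :
    cf s (t * g * t⁻¹) = chi D t s * cf s g := by
  unfold cf lin ent
  split_ifs with h1
  · have e1 : (t * g * t⁻¹ : GL D.Idx K).val (Sum.inr ⟨s, h1.1⟩) (Sum.inl ⟨ii D s, h1.2⟩) =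
        chi D t s * g.val (Sum.inr ⟨s, h1.1⟩) (Sum.inl ⟨ii D s, h1.2⟩) := by
      rw [Units.val_mul, Units.val_mul, diag_val hD ht, diag_val hD (inv_mem ht), Matrix.mul_diagonal,
        Matrix.diagonal_mul]
      simp
    rw [e1]
    ring
  · ring

include hD h in
theorem diag_conj_X {t : GL D.Idx K} (ht : t ∈ D.diagonalSubgroup K) {s : ℕ} (hs : s < D.nroots) (a : K) :
    t * xG hD s a * t⁻¹ = xG hD s (chi D t s * a) := by
  have h1 := BruhatSplit.acts_of_mem_diagonal hD (RootComb.good_of_mem hD) ht s hs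
  rw [wact_nil] at h1
  have h2 : t * xG hD s a * t⁻¹ ∈ D.rootSubgroup K s := by
    rw [← h1, BruhatSplit.mem_map_conj]
    have : t⁻¹ * (t * xG hD s a * t⁻¹) * t = xG hD s a := by group
    rw [this]
    exact xG_mem_rootSubgroup hD s a
  obtain ⟨b, hb⟩ := (mem_rootSubgroup_iff hD s _).1 h2
  have h3 := cf_diag_conj hD ht s (xG hD s a)
  rw [hb, cf_xG hD h hs hs, cf_xG hD h hs hs, if_pos rfl, if_pos rfl] at h3
  rw [hb, h3]

include hD in
theorem fr_diag (φ : K →+* K) {t : GL D.Idx K} (ht : t ∈ D.diagonalSubgroup K)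
    (hc : ∀ s < D.nroots, φ (chi D t s) = chi D t s) : fr D φ t = t := by
  rw [fr_eq_iff]
  intro i j
  rw [diag_val hD ht]
  by_cases hij : i = j
  · subst hij
    rw [Matrix.diagonal_apply_eq]
    rcases i with i | s
    · exact map_one φ
    · exact hc s.val s.2
  · rw [Matrix.diagonal_apply_ne _ hij, map_zero]

theorem prod_zpow_sub {K : Type u} [Field K] (c : ℕ → K) (l : List ℕ) (hl : ∀ k ∈ l, c k ≠ 0) (a b : ℕ → ℤ)
    (n : ℤ) : (l.map fun k => c k ^ (a k - n * b k)).prod =
      (l.map fun k => c k ^ a k).prod * ((l.map fun k => c k ^ b k).prod) ^ (-n) := by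
  induction l with
  | nil => simp
  | cons k l ih =>
    have hk := hl k List.mem_cons_self
    rw [List.map_cons, List.prod_cons, List.map_cons, List.prod_cons, List.map_cons, List.prod_cons,
      ih fun k hk => hl k (List.mem_cons_of_mem _ hk), mul_zpow, zpow_sub₀ hk, ← zpow_mul]
    have e : c k ^ (b k * -n) = (c k ^ (n * b k))⁻¹ := by
      rw [← zpow_neg]
      congr 1
      ring
    rw [e, div_eq_mul_inv]
    ring

include hD h in
theorem diag_chi {t : GL D.Idx K} (ht : t ∈ D.diagonalSubgroup K) :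
    ∃ c : ℕ → K, (∀ i < D.rank, c i ≠ 0) ∧ ∀ s < D.nroots,
      chi D t s = ((List.range D.rank).map fun i => c i ^ D.cartan i s).prod := by
  obtain ⟨c, hc0, e⟩ := Cfsg.Agent.S1034.result D hD t ht
  refine ⟨c, hc0, fun s hs => ?_⟩
  have e' : t = wordG hD ((List.range D.rank).flatMap fun i => D.hWord (D.simple i) (c i)) :=
    (eq_wordG_iff hD t _).2 e
  have key : ∀ (l : List ℕ), (∀ i ∈ l, i < D.rank ∧ c i ≠ 0) → ∀ a : K,
      wordG hD (l.flatMap fun i => D.hWord (D.simple i) (c i)) * xG hD s a *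
      (wordG hD (l.flatMap fun i => D.hWord (D.simple i) (c i)))⁻¹ =
      xG hD s ((l.map fun i => c i ^ D.cartan i s).prod * a) := by
    intro l hl a
    induction l with
    | nil =>
      rw [List.flatMap_nil, wordG_nil]
      simp
    | cons i l ih =>
      rw [List.flatMap_cons, wordG_append, List.map_cons, List.prod_cons]
      have h1 := ih fun j hj => hl j (List.mem_cons_of_mem _ hj)
      have h2 := hG_simple_conj hD (hl i List.mem_cons_self).1 hs (hl i List.mem_cons_self).2
        ((l.map fun i => c i ^ D.cartan i s).prod * a)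
      rw [← h1] at h2
      have e3 : wordG hD (D.hWord (D.simple i) (c i)) = hG hD (D.simple i) (c i) := rfl
      rw [mul_inv_rev, e3, mul_assoc (c i ^ D.cartan i s), ← h2]
      group
  have h1 := key (List.range D.rank) (fun i hi => ⟨List.mem_range.1 hi, hc0 i (List.mem_range.1 hi)⟩) 1
  rw [← e', diag_conj_X hD h ht hs, mul_one, mul_one] at h1
  exact xG_injective hD hs h1

include hD h in
/-- a diagonal element whose simple character values are fixed is fixed -/
theorem chi_fix (φ : K →+* K) {t : GL D.Idx K} (ht : t ∈ D.diagonalSubgroup K)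
    (hs : ∀ i < D.rank, φ (chi D t (D.simple i)) = chi D t (D.simple i)) :
    ∀ s < D.nroots, φ (chi D t s) = chi D t s := by
  have G := RootComb.good_of_mem hD
  obtain ⟨c, hc0, hc⟩ := diag_chi hD h ht
  refine root_induction G hs fun i hi r hr hP => ?_
  have e : chi D t (D.reflectRoot i r) = chi D t r * (chi D t (D.simple i)) ^ (-(D.cartan i r)) := by
    rw [hc _ (G.reflect_lt hi hr), hc r hr, hc _ (G.simple_lt hi), ← prod_zpow_sub c _
      (fun k hk => hc0 k (List.mem_range.1 hk))]
    congr 1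
    refine List.map_congr_left fun k hk => ?_
    rw [G.cartan_reflect hi hr (List.mem_range.1 hk)]
  rw [e, map_mul, map_zpow₀, hP, hs i hi]

end Diag

/-! ### Step B -/

section B

variable {D : ChevalleyDatum} {K : Type u} [Field K] (hD : InList D) (h : SL D)

include hD h in
theorem diag_conj_pos {t g : GL D.Idx K} (ht : t ∈ D.diagonalSubgroup K) (hg : g ∈ D.posUnipotent K) :
    t * g * t⁻¹ ∈ D.posUnipotent K := by
  have hle : D.posUnipotent K ≤ (D.posUnipotent K).comap (MulAut.conj t).toMonoidHom := by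
    refine (posUnipotent_le_iff hD _).2 fun r hr a => ?_
    show t * xG hD r a * t⁻¹ ∈ D.posUnipotent K
    rw [diag_conj_X hD h ht hr.1]
    exact xG_mem_posUnipotent hD hr _
  exact hle hg

include hD h in
/-- Step B: the elements of `H ∩ B` are fixed entrywise. -/
theorem stepB (φ : K →+* K) {H : Subgroup (GL D.Idx K)} (hA : ∀ u ∈ H, u ∈ D.posUnipotent K → fr D φ u = u)
    (he : ∀ i < D.rank, ∃ e ∈ H, e ∈ D.posUnipotent K ∧ cf (D.simple i) e = 1)
    {v t : GL D.Idx K} (hv : v ∈ D.posUnipotent K) (ht : t ∈ D.diagonalSubgroup K) (hg : v * t ∈ H)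
    (htH : fr D φ t = t → t ∈ H) : fr D φ (v * t) = v * t := by
  have h1 : fr D φ t = t := by
    refine fr_diag hD φ ht (chi_fix hD h φ ht fun i hi => ?_)
    obtain ⟨e, heH, heU, hce⟩ := he i hi
    have h2 : v * t * e * (v * t)⁻¹ = v * (t * e * t⁻¹) * v⁻¹ := by group
    have h3 : t * e * t⁻¹ ∈ D.posUnipotent K := diag_conj_pos hD h ht heU
    have h4 : v * (t * e * t⁻¹) * v⁻¹ ∈ D.posUnipotent K := mul_mem (mul_mem hv h3) (inv_mem hv)
    have h5 := hA _ (h2 ▸ mul_mem (mul_mem hg heH) (inv_mem hg)) h4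
    have h6 := cf_of_fr φ (r := D.simple i) h5
    rw [cf_conj hD h (by rw [h.simple i hi, Lv_one]; exact h3) hv, cf_diag_conj hD ht, hce, mul_one] at h6
    exact h6
  have h2 : v ∈ H := by
    have := mul_mem hg (inv_mem (htH h1))
    rwa [mul_inv_cancel_right] at this
  rw [map_mul, h1, hA v h2 hv]

end B

/-! ### Step C -/

section C

variable {D : ChevalleyDatum} {K : Type u} [Field K] (hD : InList D) (h : SL D) (φ : K →+* K) (rho : ℕ → ℕ)
  (G : Subgroup (GL D.Idx K))

/-- `n ∈ N ∩ G` acts on the roots through the word `w`, which commutes with the symmetry. -/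
structure NW (n : GL D.Idx K) (w : List ℕ) : Prop where
  mem_G : n ∈ G
  mem_N : n ∈ D.monomialSubgroup K
  lt : ∀ a ∈ w, a < D.rank
  acts : Acts n w
  comm : ∀ r < D.nroots, wact D w (rho r) = rho (wact D w r)

variable {rho G}

theorem NW.mul {n n' : GL D.Idx K} {w w' : List ℕ}
    (Gd : RootCombGood.Good D) (a : NW rho G n w) (b : NW rho G n' w') : NW rho G (n * n') (w ++ w') where
  mem_G := mul_mem a.mem_G b.mem_G
  mem_N := mul_mem a.mem_N b.mem_N
  lt := fun i hi => (List.mem_append.1 hi).elim (a.lt i) (b.lt i)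
  acts := Acts.mul Gd a.acts b.acts b.lt
  comm := fun r hr' => by
    rw [wact_append, wact_append, b.comm r hr', a.comm _ (wact_lt Gd b.lt hr')]

theorem NW.inv {n : GL D.Idx K} {w : List ℕ} (hr : ∀ r < D.nroots, rho r < D.nroots)
    (Gd : RootCombGood.Good D) (a : NW rho G n w) : NW rho G n⁻¹ w.reverse where
  mem_G := inv_mem a.mem_G
  mem_N := inv_mem a.mem_N
  lt := fun i hi => a.lt i (List.mem_reverse.1 hi)
  acts := Acts.inv Gd a.acts a.lt
  comm := fun r hr' => by
    have hl : ∀ i ∈ w.reverse, i < D.rank := fun i hi => a.lt i (List.mem_reverse.1 hi)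
    have h1 := wact_lt Gd hl hr'
    have h2 := a.comm _ h1
    rw [wact_reverse' Gd a.lt hr'] at h2
    rw [← h2, wact_reverse Gd a.lt (hr _ h1)]

variable {ι : Type*} (J : ι → List ℕ) (nh : ι → GL D.Idx K)

variable (rho G) in
/-- the classes of simple roots and the corresponding elements of `N ∩ G` -/
structure Cls : Prop where
  rho_lt : ∀ r < D.nroots, rho r < D.nroots
  J_ne : ∀ i, J i ≠ []
  J_orth : ∀ i, (J i).Pairwise fun j j' => D.reflectRoot j (D.simple j') = D.simple j' ∧
    D.reflectRoot j' (D.simple j) = D.simple j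
  nhW : ∀ i, NW rho G (nh i) (J i)
  nh_fr : ∀ i, fr D φ (nh i) = nh i
  split : ∀ i, ∀ u ∈ D.posUnipotent K, u ∈ G →
    (∀ j ∈ J i, φ (cf (D.simple j) u) = cf (D.simple j) u) →
    ∃ v x, x ∈ G ∧ fr D φ x = x ∧ v ∈ G ∧ nh i * v * (nh i)⁻¹ ∈ D.posUnipotent K ∧ u = v * x

theorem inv_append_list (Gd : RootCombGood.Good D) : ∀ (l w : List ℕ), (∀ a ∈ w, a < D.rank) → (∀ a ∈ l, a < D.rank) →
    (l.Pairwise fun j j' => D.reflectRoot j (D.simple j') = D.simple j') →
    (∀ j ∈ l, D.IsNegRoot (wact D w (D.simple j))) → inv D (w ++ l) + l.length = inv D w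
  | [], w, _, _, _, _ => by simp
  | j :: l, w, hw, hl, hp, hn => by
    have hj := hl j List.mem_cons_self
    have h1 := inv_append_of_neg Gd hw hj (hn j List.mem_cons_self)
    have hw' : ∀ a ∈ w ++ [j], a < D.rank := by
      intro a ha
      rcases List.mem_append.1 ha with ha | ha
      · exact hw a ha
      · rw [List.mem_singleton] at ha
        rw [ha]; exact hj
    have h2 := inv_append_list Gd l (w ++ [j]) hw' (fun a ha => hl a (List.mem_cons_of_mem _ ha))
      (List.pairwise_cons.1 hp).2 (fun a ha => by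
        rw [wact_append, wact_cons, wact_nil, (List.pairwise_cons.1 hp).1 a ha]
        exact hn a (List.mem_cons_of_mem _ ha))
    have e : w ++ j :: l = w ++ [j] ++ l := by simp
    rw [e, List.length_cons]
    omega

variable {J nh φ}

include hD in
theorem mem_borel_of_pos {n : GL D.Idx K} {w : List ℕ} (hn : NW rho G n w)
    (hp : ∀ i < D.rank, D.IsPosRoot (wact D w (D.simple i))) : n ∈ D.borelSubgroup K := by
  have Gd := RootComb.good_of_mem hD
  refine H92.ChevCent.mem_borel_of_conj hD hn.mem_N fun u hu => ?_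
  have hle : D.posUnipotent K ≤ (D.borelSubgroup K).comap (MulAut.conj n).toMonoidHom := by
    refine (posUnipotent_le_iff hD _).2 fun r hr a => ?_
    show n * xG hD r a * n⁻¹ ∈ D.borelSubgroup K
    have h1 := hn.acts r hr.1
    have h2 : n * xG hD r a * n⁻¹ ∈ D.rootSubgroup K (wact D w r) := by
      rw [← h1, BruhatSplit.mem_map_conj]
      have : n⁻¹ * (n * xG hD r a * n⁻¹) * n = xG hD r a := by group
      rw [this]
      exact xG_mem_rootSubgroup hD r a
    obtain ⟨b, hb⟩ := (mem_rootSubgroup_iff hD _ _).1 h2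
    rw [hb]
    exact Subgroup.mem_sup_left (xG_mem_posUnipotent hD (wact_pos_of_simple Gd hn.lt hp hr) b)
  exact hle hu

include hD h in
/-- Step C: the Bruhat induction. -/
theorem stepC (C : Cls φ rho G J nh) {H : Subgroup (GL D.Idx K)} (hMH : ∀ g ∈ G, fr D φ g = g → g ∈ H)
    (hHG : H ≤ G) (hB : ∀ g ∈ H, g ∈ D.borelSubgroup K → fr D φ g = g)
    (key : ∀ (w : List ℕ) (b n u : GL D.Idx K), b ∈ D.borelSubgroup K → b ∈ G → NW rho G n w →
      u ∈ D.posUnipotent K → u ∈ G → b * n * u ∈ H →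
      (∀ i < D.rank, D.IsPosRoot (wact D w (D.simple i))) ∨
      ∃ i, (∀ j ∈ J i, D.IsNegRoot (wact D w (D.simple j))) ∧
        ∀ j ∈ J i, φ (cf (D.simple j) u) = cf (D.simple j) u) :
    ∀ (k : ℕ) (w : List ℕ) (b n u : GL D.Idx K), inv D w ≤ k → b ∈ D.borelSubgroup K → b ∈ G → NW rho G n w →
      u ∈ D.posUnipotent K → u ∈ G → b * n * u ∈ H → fr D φ (b * n * u) = b * n * u := by
  have Gd := RootComb.good_of_mem hD
  have hpos : ∀ (w : List ℕ) (b n u : GL D.Idx K), b ∈ D.borelSubgroup K → NW rho G n w →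
      u ∈ D.posUnipotent K → b * n * u ∈ H → (∀ i < D.rank, D.IsPosRoot (wact D w (D.simple i))) →
      fr D φ (b * n * u) = b * n * u := fun w b n u hb hn hu hg hp =>
    hB _ hg (mul_mem (mul_mem hb (mem_borel_of_pos hD hn hp)) (Subgroup.mem_sup_left hu))
  intro k
  induction k with
  | zero =>
    intro w b n u hk hb hbG hn hu huG hg
    refine hpos w b n u hb hn hu hg fun i hi => ?_
    exact (inv_eq_zero_iff Gd hn.lt).1 (Nat.le_zero.1 hk) _ (Gd.simple_pos hi)
  | succ k ih =>
    intro w b n u hk hb hbG hn hu huG hg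
    rcases key w b n u hb hbG hn hu huG hg with hp | ⟨i, hi1, hi2⟩
    · exact hpos w b n u hb hn hu hg hp
    · obtain ⟨v, x, hxG, hxF, hvG, hvU, rfl⟩ := C.split i u hu huG hi2
      have hNi := C.nhW i
      have hw' : inv D (w ++ (J i).reverse) ≤ k := by
        have h1 := inv_append_list Gd (J i).reverse w hn.lt (fun a ha => hNi.lt a (List.mem_reverse.1 ha))
          (by
            rw [List.pairwise_reverse]
            exact (C.J_orth i).imp fun hab => hab.2)
          (fun j hj => hi1 j (List.mem_reverse.1 hj))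
        have h2 : 0 < (J i).reverse.length := by
          rw [List.length_reverse]
          exact List.length_pos_iff.2 (C.J_ne i)
        omega
      have h3 : b * (n * (nh i)⁻¹) * (nh i * v * (nh i)⁻¹) = b * n * (v * x) * x⁻¹ * (nh i)⁻¹ := by group
      have hxH := hMH x hxG hxF
      have hnH := hMH _ hNi.mem_G (C.nh_fr i)
      have h4 : b * (n * (nh i)⁻¹) * (nh i * v * (nh i)⁻¹) ∈ H := by
        rw [h3]
        exact mul_mem (mul_mem hg (inv_mem hxH)) (inv_mem hnH)
      have h5 := ih (w ++ (J i).reverse) b (n * (nh i)⁻¹) (nh i * v * (nh i)⁻¹) hw' hb hbG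
        (hn.mul Gd (hNi.inv C.rho_lt Gd)) hvU
        (mul_mem (mul_mem hNi.mem_G hvG) (inv_mem hNi.mem_G)) h4
      rw [h3, map_mul, map_mul, map_inv, map_inv, hxF, C.nh_fr i] at h5
      exact mul_right_cancel (mul_right_cancel h5)

end C

end Cfsg.Agent.H82.TwMax
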