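import Cfsg.Agent.H82.TwMaxB

/-!
Maximality of the subfield subgroup in a twisted group: coordinates of conjugates.
-/

set_option autoImplicit false

namespace Cfsg.Agent.H82.TwMax

open Cfsg.Lie Cfsg.Agent.ChevalleyStructure Cfsg.Agent.ChevalleyStructure.Elts
open Cfsg.Agent.ChevalleyStructure.TwistedU Cfsg.Agent.H82.Level
open Cfsg.Agent.ChevalleyStructure.RootCombGood (co car)
open Cfsg.Agent.ChevalleyStructure.RootWord
open Cfsg.Agent.ChevalleyStructure.BruhatSplit (Acts)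
open scoped commutatorElement

universe u

section

variable {D : ChevalleyDatum} {K : Type u} [Field K] (hD : InList D) (h : SL D) {L : List ℕ} (O : Ord K hD L)

include hD h in
theorem pos_of_add {γ j : ℕ} (hγ : D.IsPosRoot γ) (hj : D.IsPosRoot j) (hlt : add D γ j < D.nroots) :
    D.IsPosRoot (add D γ j) ∧ ht D (add D γ j) = ht D γ + ht D j ∧ (kap D γ j = 1 ∨ kap D γ j = -1) := by
  have G := RootComb.good_of_mem hD
  by_cases hs : j = γ
  · subst hs
    rw [h.comm_self j hj.1] at hlt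
    omega
  have hneg : j ≠ D.neg γ := by
    rintro rfl
    exact not_pos_of_neg G ((isNegRoot_neg G hγ.1).2 hγ) hj
  rcases h.comm γ hγ.1 j hj.1 hs hneg with ⟨-, h4⟩ | ⟨-, h4, h6, h5⟩
  · omega
  · refine ⟨?_, h5, h6⟩
    rw [pos_iff_ht hD h h4, h5]
    have := (pos_iff_ht hD h hγ.1).1 hγ
    have := (pos_iff_ht hD h hj.1).1 hj
    omega

include O h in
/-- commutator of an element of `U` with a root element -/
theorem cf_comm_X_right {γ j : ℕ} {b : GL D.Idx K} (hγ : D.IsPosRoot γ) (hj : D.IsPosRoot j) (hj1 : ht D j = 1)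
    (hlt : add D γ j < D.nroots) (hb : b ∈ D.posUnipotent K) (t : K) :
    cf (add D γ j) ⁅b, (xG hD γ t : GL D.Idx K)⁆ = -((kap D γ j : K) * (t * cf j b)) := by
  obtain ⟨hp, hht, -⟩ := pos_of_add hD h hγ hj hlt
  have hb' : b ∈ Lv K hD h 1 := by rw [Lv_one]; exact hb
  have h1 := comm_mem_Lv hD h (xG_mem_Lv (K := K) hD h hγ t) hb'
  rw [← commutatorElement_inv, cf_inv hD h (by rw [hht, hj1]; exact h1),
    cf_comm_X_left hD h O hγ hb' le_rfl hp (by rw [hht, hj1])]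
  congr 1
  rw [Finset.sum_eq_single j]
  · rw [if_pos rfl]
  · intro s hs hsj
    rw [if_neg]
    intro he
    apply hsj
    have hs' := (O.mem s).1 (List.mem_toFinset.1 hs)
    have h2 := h.add_neg γ hγ.1 s hs'.1 (by rw [he]; exact hlt)
    have h3 := h.add_neg γ hγ.1 j hj.1 hlt
    rw [← h2, he, h3]
  · intro hj'
    exact absurd (List.mem_toFinset.2 ((O.mem j).2 hj)) hj'

include O h in
/-- vanishing coordinate of a commutator -/
theorem cf_comm_X_right_zero {γ δ : ℕ} {b : GL D.Idx K} (hγ : D.IsPosRoot γ) (hδ : D.IsPosRoot δ)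
    (hht : ht D δ = ht D γ + 1) (hno : ∀ s, D.IsPosRoot s → add D γ s ≠ δ) (hb : b ∈ D.posUnipotent K) (t : K) :
    cf δ ⁅b, (xG hD γ t : GL D.Idx K)⁆ = 0 := by
  have hb' : b ∈ Lv K hD h 1 := by rw [Lv_one]; exact hb
  have h1 := comm_mem_Lv hD h (xG_mem_Lv (K := K) hD h hγ t) hb'
  rw [← commutatorElement_inv, cf_inv hD h (by rw [hht]; exact h1),
    cf_comm_X_left hD h O hγ hb' le_rfl hδ hht, Finset.sum_eq_zero, neg_zero]
  intro s hs
  rw [if_neg (hno s ((O.mem s).1 (List.mem_toFinset.1 hs)))]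

variable (φ : K →+* K)

include O in
/-- The coordinate of `u` at a simple root `j` is fixed if a suitable conjugate is fixed entrywise. -/
theorem LS {γ j : ℕ} (hγ : D.IsPosRoot γ) (hj : D.IsPosRoot j) (hj1 : ht D j = 1)
    (hlt : add D γ j < D.nroots) {u : GL D.Idx K} (hu : u ∈ D.posUnipotent K) {c : K} (hc : c ≠ 0)
    {y τ : GL D.Idx K} (hy : y ∈ Lv K hD h (ht D γ)) (hτ : τ ∈ Lv K hD h (ht D γ + 2))
    (hy1 : cf γ y = 0) (hy2 : cf (add D γ j) (xG hD γ c * y) = 0) (hy3 : cf (add D γ j) ⁅u⁻¹, y⁆ = 0)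
    (hz : fr D φ (u⁻¹ * (xG hD γ c * y) * u * τ) = u⁻¹ * (xG hD γ c * y) * u * τ) :
    φ (cf j u) = cf j u := by
  obtain ⟨hp, hht, hk⟩ := pos_of_add hD h hγ hj hlt
  rw [hj1] at hht
  have hγ1 := h.pos γ hγ.1 hγ
  have hui : u⁻¹ ∈ Lv K hD h 1 := by rw [Lv_one]; exact inv_mem hu
  have hX := xG_mem_Lv (K := K) hD h hγ c
  have hXy := mul_mem hX hy
  have e : u⁻¹ * (xG hD γ c * y) * u * τ = ⁅u⁻¹, xG hD γ c * y⁆ * (xG hD γ c * y * τ) := by
    rw [commutatorElement_def]; group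
  rw [e] at hz
  have hcm := comm_mem_Lv hD h hui hXy
  have hXyτ : xG hD γ c * y * τ ∈ Lv K hD h (ht D γ) := mul_mem hXy (Lv_anti hD h (by omega) hτ)
  have h1 : cf γ (⁅u⁻¹, xG hD γ c * y⁆ * (xG hD γ c * y * τ)) = c := by
    rw [cf_mul_left hD h (Lv_anti hD h (by omega) hcm) hXyτ.1, cf_Lv hD h hcm (by omega),
      cf_mul_left hD h hXy hτ.1, cf_mul_left hD h hX hy.1, cf_Lv hD h hτ (by omega), hy1,
      cf_xG hD h hγ.1 hγ.1, if_pos rfl]
    ring
  have h2 : cf (add D γ j) (⁅u⁻¹, xG hD γ c * y⁆ * (xG hD γ c * y * τ)) = (kap D γ j : K) * (c * cf j u) := by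
    rw [cf_mul_left hD h (by rw [hht, add_comm]; exact hcm) hXyτ.1,
      cf_mul hD h (r := add D γ j) hXy hτ (by rw [hht]; omega), cf_Lv hD h hτ (by rw [hht]; omega), hy2,
      cf_comm_mul_right hD h hui hX hy hγ1 (by rw [hht, add_comm]), hy3,
      cf_comm_X_right hD h O hγ hj hj1 hlt (inv_mem hu),
      cf_inv hD h (by rw [hj1, Lv_one]; exact hu)]
    ring
  have h3 := cf_of_fr φ (r := γ) hz
  have h4 := cf_of_fr φ (r := add D γ j) hz
  rw [h1] at h3
  rw [h2, map_mul, map_mul, map_intCast, h3] at h4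
  have hk' : (kap D γ j : K) ≠ 0 := by
    rcases hk with hk | hk <;> rw [hk] <;> simp
  exact mul_left_cancel₀ hc (mul_left_cancel₀ hk' h4)

/-! ### conjugation by `N` and `B` -/

include hD in
theorem acts_X {n : GL D.Idx K} {w : List ℕ} (hn : Acts n w) {s : ℕ} (hs : s < D.nroots) (a : K) :
    ∃ a', n * xG hD s a * n⁻¹ = xG hD (wact D w s) a' ∧ (a ≠ 0 → a' ≠ 0) := by
  have h2 : n * xG hD s a * n⁻¹ ∈ D.rootSubgroup K (wact D w s) := by
    rw [← hn s hs, BruhatSplit.mem_map_conj]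
    have : n⁻¹ * (n * xG hD s a * n⁻¹) * n = xG hD s a := by group
    rw [this]
    exact xG_mem_rootSubgroup hD s a
  obtain ⟨b, hb⟩ := (mem_rootSubgroup_iff hD _ _).1 h2
  refine ⟨b, hb, fun ha hb0 => ha ?_⟩
  rw [hb0, xG_zero] at hb
  have h3 : xG hD s a = 1 := by
    have : xG hD s a = n⁻¹ * (n * xG hD s a * n⁻¹) * n := by group
    rw [this, hb]
    group
  exact (xG_eq_one_iff hD hs a).1 h3

include hD in
theorem diag_conj_Lv {m : ℤ} {t g : GL D.Idx K} (ht : t ∈ D.diagonalSubgroup K) (hg : g ∈ Lv K hD h m) :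
    t * g * t⁻¹ ∈ Lv K hD h m := by
  refine ⟨diag_conj_pos hD h ht hg.1, ?_⟩
  have e : (t * g * t⁻¹ : GL D.Idx K).val - 1 = t.val * (g.val - 1) * (t⁻¹ : GL D.Idx K).val := by
    rw [mul_sub, sub_mul, mul_one, ← Units.val_mul, ← Units.val_mul, ← Units.val_mul, mul_inv_cancel, Units.val_one]
  rw [e, diag_val hD ht, diag_val hD (inv_mem ht)]
  intro k l hkl
  rw [Matrix.mul_diagonal, Matrix.diagonal_mul, hg.2 k l hkl]
  ring

include hD in
/-- conjugation by an element of `B` -/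
theorem borel_conj {b e : GL D.Idx K} {m : ℤ} (hb : b ∈ D.borelSubgroup K) (he : e ∈ Lv K hD h m) :
    b⁻¹ * e * b ∈ Lv K hD h m ∧ ∀ r, ht D r = m → ∃ x : K, x ≠ 0 ∧ cf r (b⁻¹ * e * b) = x * cf r e := by
  obtain ⟨v, hv, t, ht, rfl⟩ := Cfsg.Agent.S1100.exists_mul_of_mem_borel hD hb
  have h1 : v⁻¹ * e * v⁻¹⁻¹ ∈ Lv K hD h m := conj_mem_Lv hD h he (inv_mem hv)
  have e1 : (v * t)⁻¹ * e * (v * t) = t⁻¹ * (v⁻¹ * e * v⁻¹⁻¹) * t⁻¹⁻¹ := by group
  rw [e1]
  refine ⟨diag_conj_Lv hD h (inv_mem ht) h1, fun r hr => ⟨chi D t⁻¹ r, chi_ne_zero hD (inv_mem ht) r, ?_⟩⟩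
  subst hr
  rw [cf_diag_conj hD (inv_mem ht), cf_conj hD h he (inv_mem hv)]

end

section Tw

variable {D : ChevalleyDatum} {K : Type u} [Field K] {hD : InList D} {h : SL D} {Lo : List (List ℕ)}
  {rho : ℕ → ℕ} {eps : ℕ → ℤ} {φ : K →+* K} {sg : GL D.Idx K →* GL D.Idx K} {G : Subgroup (GL D.Idx K)}
  (W : Tw hD h Lo rho eps φ sg G)

include W

/-- conjugation by an element of `N` fixing the high roots -/
theorem n_conj_Lv {n : GL D.Idx K} {w : List ℕ} (hn : Acts n w) {m : ℤ}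
    (hfix : ∀ s, D.IsPosRoot s → m ≤ ht D s → wact D w s = s) {y : GL D.Idx K} (hy : y ∈ Lv K hD h m) :
    n * y * n⁻¹ ∈ Lv K hD h m := by
  have O := ord (K := K) hD h W.T
  obtain ⟨f, rfl⟩ := O.ex y hy.1
  have h1 := factor_mem W hy
  have key : ∀ l : List ℕ, (∀ s ∈ l, s ∈ Lo.flatten) → n * lprod (xG hD) l f * n⁻¹ ∈ Lv K hD h m := by
    intro l
    induction l with
    | nil => intro _; rw [lprod_nil, mul_one, mul_inv_cancel]; exact one_mem _
    | cons s l ih =>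
      intro hl
      have hs := hl s List.mem_cons_self
      have hp := (O.mem s).1 hs
      have e : n * lprod (xG hD) (s :: l) f * n⁻¹ = (n * xG hD s (f s) * n⁻¹) * (n * lprod (xG hD) l f * n⁻¹) := by
        rw [lprod_cons]; group
      rw [e]
      refine mul_mem ?_ (ih fun s hs => hl s (List.mem_cons_of_mem _ hs))
      by_cases hm : m ≤ ht D s
      · obtain ⟨a', ha', -⟩ := acts_X hD hn hp.1 (f s)
        rw [ha', hfix s hp hm]
        exact Lv_anti hD h hm (xG_mem_Lv hD h hp a')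
      · have h3 := cf_Lv hD h (r := s) (h1 s hs) (by omega)
        rw [cf_xG hD h hp.1 hp.1, if_pos rfl] at h3
        rw [h3, xG_zero, mul_one, mul_inv_cancel]
        exact one_mem _
  exact key _ fun _ hs => hs

/-- The conjugate of the root element of the unique root of height `m`. -/
theorem stage1 {δ : ℕ} {m : ℤ} (hδ : D.IsPosRoot δ) (hm : ht D δ = m)
    (huniq : ∀ s, D.IsPosRoot s → ht D s = m → s = δ) {b n u : GL D.Idx K} {w : List ℕ}
    (hb : b ∈ D.borelSubgroup K) (hn : NW rho G n w) (hu : u ∈ D.posUnipotent K)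
    (hfix : ∀ s, D.IsPosRoot s → m + 1 ≤ ht D s → wact D w s = s) :
    ∃ c : K, c ≠ 0 ∧ ∃ τ ∈ Lv K hD h (m + 1), (b * n * u)⁻¹ * xG hD δ 1 * (b * n * u) =
      u⁻¹ * xG hD (wact D w.reverse δ) c * u * τ := by
  have O := ord (K := K) hD h W.T
  have Gd := RootComb.good_of_mem hD
  obtain ⟨h1, h2⟩ := borel_conj hD h (m := m) hb (by rw [← hm]; exact xG_mem_Lv hD h hδ (1 : K))
  obtain ⟨x, hx, h3⟩ := h2 δ hm
  rw [cf_xG hD h hδ.1 hδ.1, if_pos rfl, mul_one] at h3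
  obtain ⟨y, hy⟩ : ∃ y, y = b⁻¹ * xG hD δ 1 * b := ⟨_, rfl⟩
  rw [← hy] at h1 h3
  have h4 : (xG hD δ x)⁻¹ * y ∈ Lv K hD h (m + 1) := by
    have hX : xG hD δ x ∈ Lv K hD h m := by rw [← hm]; exact xG_mem_Lv hD h hδ x
    refine mem_Lv_succ hD h O (mul_mem (inv_mem hX) h1) fun r hr hrm => ?_
    have hrδ := huniq r hr hrm
    subst hrδ
    rw [cf_mul_left hD h (by rw [hm]; exact inv_mem hX) h1.1, cf_inv hD h (by rw [hm]; exact hX), h3,
      cf_xG hD h hr.1 hr.1, if_pos rfl]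
    ring
  have hni := hn.acts.inv Gd hn.lt
  have hlt : ∀ a ∈ w.reverse, a < D.rank := fun a ha => hn.lt a (List.mem_reverse.1 ha)
  have h5 := n_conj_Lv W hni (fun s hs hms => by
    have := hfix s hs hms
    rw [← this, wact_reverse Gd hn.lt hs.1, this]) h4
  obtain ⟨c, hc, hc0⟩ := acts_X hD hni hδ.1 x
  refine ⟨c, hc0 hx, u⁻¹ * (n⁻¹ * ((xG hD δ x)⁻¹ * y) * n⁻¹⁻¹) * u⁻¹⁻¹, conj_mem_Lv hD h h5 (inv_mem hu), ?_⟩
  rw [← hc, hy]
  group

theorem cf_long {r : ℕ} (hr : D.IsPosRoot r) (h1 : ht D r = 1) (hrho : rho r = r) (he : eps r = 1)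
    {u : GL D.Idx K} (hu : u ∈ D.posUnipotent K) (huG : u ∈ G) : φ (cf r u) = cf r u := by
  have h2 := cf_rho W hr (g := u) (by rw [h1, Lv_one]; exact hu) (W.G_fix u huG)
  rw [hrho, he, Int.cast_one, one_mul] at h2
  exact h2.symm

theorem cf_rho_iter {r : ℕ} (hr : D.IsPosRoot r) (h1 : ht D r = 1) {u : GL D.Idx K} (hu : u ∈ D.posUnipotent K)
    (huG : u ∈ G) (hc : φ (cf r u) = cf r u) (k : ℕ) :
    D.IsPosRoot (rho^[k] r) ∧ ht D (rho^[k] r) = 1 ∧ φ (cf (rho^[k] r) u) = cf (rho^[k] r) u := by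
  induction k with
  | zero => exact ⟨hr, h1, hc⟩
  | succ k ih =>
    obtain ⟨i1, i2, i3⟩ := ih
    rw [Function.iterate_succ_apply']
    refine ⟨rho_pos W i1, by rw [W.T.rho_ht _ i1.1, i2], ?_⟩
    have h2 := cf_rho W i1 (g := u) (by rw [i2, Lv_one]; exact hu) (W.G_fix u huG)
    rw [h2, map_mul, map_intCast, i3]
    rw [i3]

/-- elements of `Lv m` commute with `x_γ(c)` if no root of height `≥ m` can be added to `γ` -/
theorem commute_of_Lv {γ : ℕ} (hγ : γ < D.nroots) {m : ℤ}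
    (hc : ∀ s, D.IsPosRoot s → m ≤ ht D s → γ ≠ s ∧ γ ≠ D.neg s ∧ add D s γ = D.nroots)
    {y : GL D.Idx K} (hy : y ∈ Lv K hD h m) (c : K) : Commute y (xG hD γ c) := by
  have O := ord (K := K) hD h W.T
  obtain ⟨f, rfl⟩ := O.ex y hy.1
  have h1 := factor_mem W hy
  have key : ∀ l : List ℕ, (∀ s ∈ l, s ∈ Lo.flatten) → Commute (lprod (xG hD) l f) (xG hD γ c) := by
    intro l
    induction l with
    | nil => intro _; rw [lprod_nil]; exact Commute.one_left _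
    | cons s l ih =>
      intro hl
      have hs := hl s List.mem_cons_self
      have hp := (O.mem s).1 hs
      rw [lprod_cons]
      refine Commute.mul_left ?_ (ih fun s hs => hl s (List.mem_cons_of_mem _ hs))
      by_cases hm : m ≤ ht D s
      · obtain ⟨c1, c2, c3⟩ := hc s hp hm
        rw [← commutatorElement_eq_one_iff_commute, comm_X hD h hp.1 hγ c1 c2, c3, xG_of_not_lt hD (lt_irrefl _),
          mul_one, mul_inv_cancel]
      · have h3 := cf_Lv hD h (r := s) (h1 s hs) (by omega)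
        rw [cf_xG hD h hp.1 hp.1, if_pos rfl] at h3
        rw [h3, xG_zero]
        exact Commute.one_left _
  exact key _ fun _ hs => hs

/-- stage with `w⁻¹ δ` positive -/
theorem stage_pos {H : Subgroup (GL D.Idx K)} (hA : ∀ u ∈ H, u ∈ D.posUnipotent K → fr D φ u = u)
    {δ : ℕ} {m : ℤ} (hδ : D.IsPosRoot δ) (hm : ht D δ = m)
    (huniq : ∀ s, D.IsPosRoot s → ht D s = m → s = δ) (hδH : xG hD δ (1 : K) ∈ H) {b n u : GL D.Idx K} {w : List ℕ}
    (hb : b ∈ D.borelSubgroup K) (hn : NW rho G n w) (hu : u ∈ D.posUnipotent K) (hg : b * n * u ∈ H)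
    (hfix : ∀ s, D.IsPosRoot s → m + 1 ≤ ht D s → wact D w s = s)
    (hγ : D.IsPosRoot (wact D w.reverse δ)) (hγm : ht D (wact D w.reverse δ) < m)
    {j : ℕ} (hj : D.IsPosRoot j) (hj1 : ht D j = 1) (hlt : add D (wact D w.reverse δ) j < D.nroots) :
    φ (cf j u) = cf j u := by
  have O := ord (K := K) hD h W.T
  obtain ⟨c, hc, τ, hτ, e⟩ := stage1 W hδ hm huniq hb hn hu hfix
  have hz : (b * n * u)⁻¹ * xG hD δ 1 * (b * n * u) ∈ H := mul_mem (mul_mem (inv_mem hg) hδH) hg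
  rw [e] at hz
  have hzU : u⁻¹ * xG hD (wact D w.reverse δ) c * u * τ ∈ D.posUnipotent K :=
    mul_mem (mul_mem (mul_mem (inv_mem hu) (xG_mem_posUnipotent hD hγ c)) hu) hτ.1
  have hf := hA _ hz hzU
  have hp := pos_of_add hD h hγ hj hlt
  refine LS hD h O φ hγ hj hj1 hlt hu hc (y := 1) (τ := τ) (one_mem _) (Lv_anti hD h (by omega) hτ) (cf_one _)
    ?_ ?_ ?_
  · rw [mul_one, cf_xG hD h hp.1.1 hγ.1, if_neg]
    intro he
    have := hp.2.1
    rw [he] at this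
    omega
  · rw [commutatorElement_one_right, cf_one]
  · rw [mul_one]
    exact hf

/-- stage with `w⁻¹ α` negative, `α` the highest root -/
theorem stage_neg {H : Subgroup (GL D.Idx K)} (hA : ∀ u ∈ H, u ∈ D.posUnipotent K → fr D φ u = u)
    {α : ℕ} {m : ℤ} (hα : D.IsPosRoot α) (hm : ht D α = m)
    (huniq : ∀ s, D.IsPosRoot s → ht D s = m → s = α) (htop : ∀ s, D.IsPosRoot s → ht D s ≤ m)
    (hαH : xG hD α (1 : K) ∈ H) {b n u : GL D.Idx K} {w : List ℕ}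
    (hb : b ∈ D.borelSubgroup K) (hn : NW rho G n w) (hu : u ∈ D.posUnipotent K) (hg : b * n * u ∈ H)
    {γ β : ℕ} (hγ : wact D w.reverse α = γ) (hβ : D.IsPosRoot β) (hβH : xG hD β (1 : K) ∈ H)
    (hc : ∀ s, D.IsPosRoot s → ht D β + 1 ≤ ht D s → γ ≠ s ∧ γ ≠ D.neg s ∧ add D s γ = D.nroots)
    (h1 : γ ≠ β) (h2 : γ ≠ D.neg β) (h3 : D.IsPosRoot (add D β γ)) (h4 : add D β γ ≠ γ)
    (h5 : add D β γ ≠ D.neg γ) (h6 : add D γ (add D β γ) = D.nroots)
    {j : ℕ} (hj : D.IsPosRoot j) (hj1 : ht D j = 1) (hlt : add D (add D β γ) j < D.nroots) :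
    φ (cf j u) = cf j u := by
  have O := ord (K := K) hD h W.T
  have Gd := RootComb.good_of_mem hD
  have hγlt : γ < D.nroots := by
    rw [← hγ]
    exact wact_lt Gd (fun a ha => hn.lt a (List.mem_reverse.1 ha)) hα.1
  obtain ⟨c, hc0, τ, hτ, e⟩ := stage1 W hα hm huniq hb hn hu (fun s hs hms => absurd (htop s hs) (by omega))
  have hτ1 : τ = 1 := eq_one_of_high W (fun r hr => by have := htop r hr; omega) hτ
  rw [hτ1, mul_one, hγ] at e
  have hz : (b * n * u)⁻¹ * xG hD α 1 * (b * n * u) ∈ H := mul_mem (mul_mem (inv_mem hg) hαH) hg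
  rw [e] at hz
  have hz2 : ⁅(xG hD β (1 : K) : GL D.Idx K), u⁻¹ * xG hD γ c * u⁆ ∈ H := by
    rw [commutatorElement_def]
    exact mul_mem (mul_mem (mul_mem hβH hz) (inv_mem hβH)) (inv_mem hz)
  have hτ2 : ⁅(xG hD β (1 : K) : GL D.Idx K)⁻¹, u⁆ ∈ Lv K hD h (ht D β + 1) :=
    comm_mem_Lv hD h (inv_mem (xG_mem_Lv hD h hβ 1)) (by rw [Lv_one]; exact hu)
  have hcm := commute_of_Lv W hγlt hc hτ2 c
  have e2 : ⁅(xG hD β (1 : K) : GL D.Idx K), u⁻¹ * xG hD γ c * u⁆ =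
      u⁻¹ * ⁅(xG hD β (1 : K) : GL D.Idx K), xG hD γ c⁆ * u := by
    obtain ⟨y, hy⟩ : ∃ y, y = ⁅(xG hD β (1 : K) : GL D.Idx K)⁻¹, u⁆ := ⟨_, rfl⟩
    rw [← hy] at hcm
    have e3 : u * xG hD β (1 : K) * u⁻¹ = xG hD β (1 : K) * y := by
      rw [hy, commutatorElement_def]; group
    have e4 : ⁅(xG hD β (1 : K) : GL D.Idx K), u⁻¹ * xG hD γ c * u⁆ =
        u⁻¹ * ⁅u * xG hD β (1 : K) * u⁻¹, xG hD γ c⁆ * u := by
      rw [commutatorElement_def, commutatorElement_def]; group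
    rw [e4, e3]
    congr 2
    rw [commutatorElement_def, commutatorElement_def, mul_inv_rev]
    calc xG hD β 1 * y * xG hD γ c * (y⁻¹ * (xG hD β 1)⁻¹) * (xG hD γ c)⁻¹
        = xG hD β 1 * (y * xG hD γ c) * (y⁻¹ * (xG hD β 1)⁻¹) * (xG hD γ c)⁻¹ := by group
      _ = xG hD β 1 * (xG hD γ c * y) * (y⁻¹ * (xG hD β 1)⁻¹) * (xG hD γ c)⁻¹ := by rw [hcm.eq]
      _ = _ := by group
  have e5 : ⁅(xG hD β (1 : K) : GL D.Idx K), xG hD γ c⁆ = xG hD (add D β γ) ((kap D β γ : K) * (1 * c)) := by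
    rw [comm_X hD h hβ.1 hγlt h1 h2]
    have h7 : Commute (xG hD γ c : GL D.Idx K) (xG hD (add D β γ) ((kap D β γ : K) * (1 * c))) := by
      rw [← commutatorElement_eq_one_iff_commute, comm_X hD h hγlt h3.1 h4 h5, h6,
        xG_of_not_lt hD (lt_irrefl _), mul_one, mul_inv_cancel]
    rw [h7.eq]
    group
  rw [e2, e5] at hz2
  have hk : (kap D β γ : K) * (1 * c) ≠ 0 := by
    rcases h.comm β hβ.1 γ hγlt h1 h2 with ⟨-, h8⟩ | ⟨-, -, h8, -⟩
    · have := h3.1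
      omega
    · rw [one_mul]
      refine mul_ne_zero ?_ hc0
      rcases h8 with h8 | h8 <;> rw [h8] <;> simp
  generalize (kap D β γ : K) * (1 * c) = c' at hz2 hk
  have hzU : u⁻¹ * xG hD (add D β γ) c' * u ∈ D.posUnipotent K :=
    mul_mem (mul_mem (inv_mem hu) (xG_mem_posUnipotent hD h3 c')) hu
  have hf := hA _ hz2 hzU
  have hp := pos_of_add hD h h3 hj hlt
  refine LS hD h O φ h3 hj hj1 hlt hu hk (y := 1) (τ := 1) (one_mem _) (one_mem _) (cf_one _) ?_ ?_ ?_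
  · rw [mul_one, cf_xG hD h hp.1.1 h3.1, if_neg]
    intro he
    have := hp.2.1
    rw [he] at this
    omega
  · rw [commutatorElement_one_right, cf_one]
  · rw [mul_one, mul_one]
    exact hf

end Tw

/-! ### The table condition -/

/-- The condition on a root `γ = w⁻¹ δ` and a class `o` of simple roots under which the coordinates of `u` at the
class are fixed. -/
def CaseOK (D : ChevalleyDatum) (rho : ℕ → ℕ) (eps : ℕ → ℤ) (betas : List ℕ) (γ δ : ℕ) (o : List ℕ) : Prop :=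
  (∀ j ∈ o, rho (D.simple j) = D.simple j ∧ eps (D.simple j) = 1) ∨
  (D.IsPosRoot γ ∧ ht D γ < ht D δ ∧ ∃ j ∈ o, add D γ (D.simple j) < D.nroots) ∨
  (∃ β ∈ betas, (∀ s < D.nroots, D.IsPosRoot s → ht D β + 1 ≤ ht D s → γ ≠ s ∧ γ ≠ D.neg s ∧
      add D s γ = D.nroots) ∧ γ ≠ β ∧ γ ≠ D.neg β ∧ D.IsPosRoot (add D β γ) ∧ add D β γ ≠ γ ∧
      add D β γ ≠ D.neg γ ∧ add D γ (add D β γ) = D.nroots ∧
      ∃ j ∈ o, add D (add D β γ) (D.simple j) < D.nroots)

/-- The table condition for a stage of the chain. -/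
def StageOK (D : ChevalleyDatum) (rho : ℕ → ℕ) (eps : ℕ → ℤ) (cl : List (List ℕ)) (betas pre : List ℕ) (δ : ℕ) :
    Prop :=
  ∀ γ < D.nroots, rho γ = γ → γ ≠ δ → (∀ d ∈ pre, car D γ d = car D δ d) →
    ∃ o ∈ cl, (∀ j ∈ o, (∀ d ∈ pre, car D (D.simple j) d = 0) ∧ car D (D.simple j) γ < 0) ∧
      CaseOK D rho eps betas γ δ o

/-- the pairing with the chain detects positivity -/
def LP (D : ChevalleyDatum) (pre : List ℕ) (δ : ℕ) : Prop :=
  ∀ s < D.nroots, D.IsPosRoot s → (∀ d ∈ pre, car D s d = 0) → 0 ≤ car D s δ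

set_option synthInstance.maxHeartbeats 400000 in
set_option synthInstance.maxSize 2000 in
instance decCase (D : ChevalleyDatum) (rho : ℕ → ℕ) (eps : ℕ → ℤ) (betas : List ℕ) (γ δ : ℕ) (o : List ℕ) :
    Decidable (CaseOK D rho eps betas γ δ o) := by
  unfold CaseOK
  infer_instance

set_option synthInstance.maxHeartbeats 400000 in
set_option synthInstance.maxSize 2000 in
instance decStage (D : ChevalleyDatum) (rho : ℕ → ℕ) (eps : ℕ → ℤ) (cl : List (List ℕ)) (betas pre : List ℕ)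
    (δ : ℕ) : Decidable (StageOK D rho eps cl betas pre δ) := by
  unfold StageOK
  infer_instance

instance decLP (D : ChevalleyDatum) (pre : List ℕ) (δ : ℕ) : Decidable (LP D pre δ) := by
  unfold LP
  infer_instance

section Final

variable {D : ChevalleyDatum} {K : Type u} [Field K] {hD : InList D} {h : SL D} {Lo : List (List ℕ)}
  {rho : ℕ → ℕ} {eps : ℕ → ℤ} {φ : K →+* K} {sg : GL D.Idx K →* GL D.Idx K} {G : Subgroup (GL D.Idx K)}
  (W : Tw hD h Lo rho eps φ sg G)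

include W

/-- a stage of the chain -/
theorem stage {H : Subgroup (GL D.Idx K)} (hA : ∀ u ∈ H, u ∈ D.posUnipotent K → fr D φ u = u)
    {cl : List (List ℕ)} {betas pre : List ℕ} {δ : ℕ} (hS : StageOK D rho eps cl betas pre δ)
    (hLP : LP D pre δ) (hcl : ∀ o ∈ cl, ∀ j ∈ o, j < D.rank)
    (horb : ∀ o ∈ cl, ∀ j ∈ o, ∀ j' ∈ o, ∃ k, rho^[k] (D.simple j) = D.simple j')
    (hbetas : ∀ β ∈ betas, D.IsPosRoot β ∧ xG hD β (1 : K) ∈ H) (hb0 : betas ≠ [] → ∀ s, D.IsPosRoot s → ht D s ≤ ht D δ)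
    (hpre : ∀ d ∈ pre, d < D.nroots) (hδ : D.IsPosRoot δ)
    (hrδ : rho δ = δ)
    (huniq : ∀ s, D.IsPosRoot s → ht D s = ht D δ → s = δ) (hδH : xG hD δ (1 : K) ∈ H)
    (hhigh : ∀ s, D.IsPosRoot s → ht D δ + 1 ≤ ht D s → s ∈ pre) {b n u : GL D.Idx K} {w : List ℕ}
    (hb : b ∈ D.borelSubgroup K) (hn : NW rho G n w) (hu : u ∈ D.posUnipotent K) (huG : u ∈ G) (hg : b * n * u ∈ H)
    (hw : ∀ d ∈ pre, wact D w d = d) (hne : wact D w δ ≠ δ) :
    ∃ o ∈ cl, (∀ j ∈ o, D.IsNegRoot (wact D w (D.simple j))) ∧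
      ∀ j ∈ o, φ (cf (D.simple j) u) = cf (D.simple j) u := by
  have Gd := RootComb.good_of_mem hD
  have hwr : ∀ a ∈ w.reverse, a < D.rank := fun a ha => hn.lt a (List.mem_reverse.1 ha)
  obtain ⟨γ, hγ⟩ : ∃ γ, γ = wact D w.reverse δ := ⟨_, rfl⟩
  have hγlt : γ < D.nroots := by rw [hγ]; exact wact_lt Gd hwr hδ.1
  have hwγ : wact D w γ = δ := by rw [hγ]; exact wact_reverse' Gd hn.lt hδ.1
  have hγδ : γ ≠ δ := by
    intro e
    rw [e] at hwγ
    exact hne hwγ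
  have hργ : rho γ = γ := by
    refine wact_inj Gd hn.lt (W.T.rho_lt γ hγlt) hγlt ?_
    rw [hn.comm γ hγlt, hwγ, hrδ]
  have hpair : ∀ d ∈ pre, car D γ d = car D δ d := by
    intro d hd
    have h1 := car_wact Gd hn.lt hγlt (hpre d hd)
    rw [hwγ, hw d hd] at h1
    exact h1.symm
  obtain ⟨o, ho, hj, hcase⟩ := hS γ hγlt hργ hγδ hpair
  refine ⟨o, ho, fun j hjo => ?_, ?_⟩
  · have hjr := hcl o ho j hjo
    have hsl := Gd.simple_lt hjr
    rcases pos_or_neg Gd (wact_lt Gd hn.lt hsl) with hp | hp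
    · exfalso
      have h1 := hLP _ (wact_lt Gd hn.lt hsl) hp (fun d hd => by
        have h2 := car_wact Gd hn.lt hsl (hpre d hd)
        rw [hw d hd] at h2
        rw [h2]
        exact (hj j hjo).1 d hd)
      have h2 := car_wact Gd hn.lt hsl hγlt
      rw [hwγ] at h2
      rw [h2] at h1
      have := (hj j hjo).2
      omega
    · exact hp
  · have hone : (∃ j ∈ o, φ (cf (D.simple j) u) = cf (D.simple j) u) → ∀ j ∈ o, φ (cf (D.simple j) u) = cf (D.simple j) u := by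
      rintro ⟨j, hj1, hj2⟩ j' hj'
      obtain ⟨k, hk⟩ := horb o ho j hj1 j' hj'
      have hjr := hcl o ho j hj1
      have := cf_rho_iter W (Gd.simple_pos hjr) (h.simple j hjr) hu huG hj2 k
      rw [hk] at this
      exact this.2.2
    rcases hcase with hc | ⟨hp, hlt, j, hjo, hadd⟩ | ⟨β, hβ, hc, h1, h2, h3, h4, h5, h6, j, hjo, hadd⟩
    · intro j hjo
      have hjr := hcl o ho j hjo
      exact cf_long W (Gd.simple_pos hjr) (h.simple j hjr) (hc j hjo).1 (hc j hjo).2 hu huG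
    · apply hone
      have hjr := hcl o ho j hjo
      refine ⟨j, hjo, ?_⟩
      refine stage_pos W hA hδ rfl huniq hδH hb hn hu hg (fun s hs hms => hw s (hhigh s hs hms)) ?_ ?_
        (Gd.simple_pos hjr) (h.simple j hjr) ?_
      · rw [← hγ]; exact hp
      · rw [← hγ]; exact hlt
      · rw [← hγ]; exact hadd
    · apply hone
      have hjr := hcl o ho j hjo
      refine ⟨j, hjo, ?_⟩
      exact stage_neg W hA hδ rfl huniq (hb0 (by rintro rfl; simp at hβ)) hδH hb hn hu hg hγ.symm (hbetas β hβ).1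
        (hbetas β hβ).2 (fun s hs hms => hc s hs.1 hs hms) h1 h2 h3 h4 h5 h6 (Gd.simple_pos hjr) (h.simple j hjr) hadd

end Final

end Cfsg.Agent.H82.TwMax
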