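import Cfsg.Agent.H82.TwMaxC
import Cfsg.Agent.ChevalleyStructure.TwistedBN

/-!
Maximality of the subfield subgroup in a twisted group: assembling.
-/

set_option autoImplicit false

namespace Cfsg.Agent.H82.TwMax

open Cfsg.Lie Cfsg.Agent.ChevalleyStructure Cfsg.Agent.ChevalleyStructure.Elts
open Cfsg.Agent.ChevalleyStructure.TwistedU Cfsg.Agent.H82.Level
open Cfsg.Agent.ChevalleyStructure.TwistedBN
open Cfsg.Agent.ChevalleyStructure.RootWord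

universe u

section Bruhat

variable {Γ : Type*} [Group Γ] {ι : Type*} (T : TwistedData Γ ι)

/-- the Bruhat decomposition of `G` with unipotent right factor -/
theorem bruhat_right {g : Γ} (hg : g ∈ T.G) : ∃ b n u : Γ, b ∈ T.U ⊔ T.H ∧ b ∈ T.G ∧
    n ∈ Subgroup.closure (Set.range T.n) ⊔ (T.H ⊓ T.G) ∧ u ∈ T.U ∧ u ∈ T.G ∧ g = b * n * u := by
  obtain ⟨m, hm, hgm⟩ := Cfsg.Agent.S0308.result T.toRootData.bnPair ⟨g, hg⟩
  rw [DoubleCoset.mem_doubleCoset] at hgm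
  obtain ⟨b, hb, b', hb', he⟩ := hgm
  have hbB : (b : Γ) ∈ T.U ⊔ T.H := T.rootB_le b hb
  have hbB' : ((b'⁻¹ : ↥T.G) : Γ) ∈ T.U ⊔ T.H := T.rootB_le _ (inv_mem hb')
  obtain ⟨u, hu, huG, h, hh, hhG, e⟩ := (T.mem_B_iff _ (b'⁻¹).2).1 hbB'
  have hm' : (m : Γ) ∈ Subgroup.closure (Set.range T.n) ⊔ (T.H ⊓ T.G) := T.NG_map_le _ hm
  refine ⟨b, m * h⁻¹, u⁻¹, hbB, b.2, mul_mem hm' (inv_mem (Subgroup.mem_sup_right ⟨hh, hhG⟩)), inv_mem hu,
    inv_mem huG, ?_⟩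
  have e1 : g = (b : Γ) * m * b' := congrArg Subtype.val he
  have e2 : (b' : Γ) = h⁻¹ * u⁻¹ := by
    rw [← mul_inv_rev, ← e]
    simp
  rw [e1, e2]
  group

end Bruhat

section Main

variable {D : ChevalleyDatum} {K : Type u} [Field K] (hD : InList D) (h : SL D)
  {rho : ℕ → ℕ} {φ : K →+* K} {ι : Type*} (T : TwistedData (GL D.Idx K) ι) {J : ι → List ℕ}

include hD in
theorem exists_NW (hH : T.H = D.diagonalSubgroup K) (C : Cls φ rho T.G J T.n) {n : GL D.Idx K}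
    (hn : n ∈ Subgroup.closure (Set.range T.n) ⊔ (T.H ⊓ T.G)) : ∃ w, NW rho T.G n w := by
  have Gd := RootComb.good_of_mem hD
  rw [← Subgroup.closure_eq (T.H ⊓ T.G), ← Subgroup.closure_union] at hn
  refine Subgroup.closure_induction (p := fun n _ => ∃ w, NW rho T.G n w) ?_ ?_ ?_ ?_ hn
  · rintro _ (⟨i, rfl⟩ | hx)
    · exact ⟨_, C.nhW i⟩
    · rename_i x
      have hx1 : x ∈ D.diagonalSubgroup K := hH ▸ hx.1
      exact ⟨[], hx.2, Subgroup.mem_sup_left hx1, by simp, BruhatSplit.acts_of_mem_diagonal hD Gd hx1,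
        fun r _ => rfl⟩
  · exact ⟨[], one_mem _, one_mem _, by simp, BruhatSplit.acts_one, fun r _ => rfl⟩
  · rintro _ _ _ _ ⟨w, hw⟩ ⟨w', hw'⟩
    exact ⟨_, hw.mul Gd hw'⟩
  · rintro _ _ ⟨w, hw⟩
    exact ⟨_, hw.inv C.rho_lt Gd⟩

include hD h in
/-- The conclusion: `H` is fixed entrywise. -/
theorem main (hU : T.U = D.posUnipotent K) (hH : T.H = D.diagonalSubgroup K) (C : Cls φ rho T.G J T.n)
    {H : Subgroup (GL D.Idx K)} (hMH : ∀ g ∈ T.G, fr D φ g = g → g ∈ H) (hHG : H ≤ T.G)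
    (hA : ∀ u ∈ H, u ∈ D.posUnipotent K → fr D φ u = u)
    (he : ∀ i < D.rank, ∃ e ∈ H, e ∈ D.posUnipotent K ∧ cf (D.simple i) e = 1)
    (key : ∀ (w : List ℕ) (b n u : GL D.Idx K), b ∈ D.borelSubgroup K → b ∈ T.G → NW rho T.G n w →
      u ∈ D.posUnipotent K → u ∈ T.G → b * n * u ∈ H →
      (∀ i < D.rank, D.IsPosRoot (wact D w (D.simple i))) ∨
      ∃ i, (∀ j ∈ J i, D.IsNegRoot (wact D w (D.simple j))) ∧
        ∀ j ∈ J i, φ (cf (D.simple j) u) = cf (D.simple j) u) :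
    ∀ g ∈ H, fr D φ g = g := by
  have hUH : T.U ⊔ T.H = D.borelSubgroup K := by rw [hU, hH]; rfl
  have hB : ∀ g ∈ H, g ∈ D.borelSubgroup K → fr D φ g = g := by
    intro g hg hgB
    rw [← hUH] at hgB
    obtain ⟨v, hv, hvG, t, ht, htG, rfl⟩ := (T.mem_B_iff g (hHG hg)).1 hgB
    exact stepB hD h φ hA he (hU ▸ hv) (hH ▸ ht) hg fun hf => hMH t htG hf
  intro g hg
  obtain ⟨b, n, u, hb, hbG, hn, hu, huG, rfl⟩ := bruhat_right T (hHG hg)
  obtain ⟨w, hw⟩ := exists_NW hD T hH C hn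
  exact stepC hD h C hMH hHG hB key (inv D w) w b n u le_rfl (hUH ▸ hb) hbG hw (hU ▸ hu) huG hg

end Main

end Cfsg.Agent.H82.TwMax
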